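import Cfsg.Agent.H162.GaussMain
import Cfsg.Agent.H162.GaussReg
import Cfsg.Agent.H162.GaussPQ
import Cfsg.Agent.OddHalf.NI.ClosedSL
import Cfsg.Agent.Nodes.ChartTypeA
set_option linter.all false

/-!
`PSL_n(F)`, `n ≥ 2`, `|F| ≥ 9`, is the square of a conjugacy class (S2523).
-/

set_option autoImplicit false
set_option linter.unusedSectionVars false

namespace Cfsg.Agent.H162.GaussPSL

open Matrix CoxeterSystem Cfsg.Agent.ChevalleyStructure.CoxeterGeom Cfsg.Agent.Tits.Roots
  Cfsg.Agent.Nodes.Reps Cfsg.Agent.Nodes.BNOf Cfsg.Agent.Nodes.RGDLib Cfsg.Agent.Nodes.Bruhat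
  Cfsg.Agent.Nodes.OppDec Cfsg.Agent.Nodes.LeviDec Cfsg.Agent.Nodes.StabComb
  Cfsg.Agent.H162.GaussDec Cfsg.Agent.H162.GaussLevi Cfsg.Agent.H162.GaussSL Cfsg.Agent.H162.GaussReg
  Cfsg.Agent.H162.GaussMain Cfsg.Agent.H162.GaussPQ
open Cfsg.Agent.Nodes.RGDTypeA Cfsg.Agent.Nodes.RootsA
open Cfsg.Agent.TitsThree.KSideA (tv tv_of_ne tv_add tv_zero tv_neg tv_commute)
open Cfsg.Agent.LieRecognition.BNCox (cA)
open Cfsg.Agent.OddHalf.NI.ClosedSL (emb emb_up emb_lo emb_dg)
open Cfsg.Agent.OddHalf.NI.Mult (up lo dg)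

/-! ### Embeddings -/

section Emb

variable {ι κ F : Type*} [Fintype ι] [DecidableEq ι] [Fintype κ] [DecidableEq κ] [Field F]

/-- the coordinates in the image of `f` first -/
noncomputable def eqf (f : κ ↪ ι) : κ ⊕ {c : ι // ∀ k, f k ≠ c} ≃ ι :=
  Equiv.ofBijective (Sum.elim f Subtype.val) (by
    constructor
    · rintro (x | x) (y | y) hxy
      · exact congrArg Sum.inl (f.injective hxy)
      · exact absurd hxy (y.2 x)
      · exact absurd hxy.symm (x.2 y)
      · exact congrArg Sum.inr (Subtype.ext hxy)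
    · intro c
      by_cases h1 : ∃ k, f k = c
      · obtain ⟨k, rfl⟩ := h1
        exact ⟨Sum.inl k, rfl⟩
      · exact ⟨Sum.inr ⟨c, fun k hk => h1 ⟨k, hk⟩⟩, rfl⟩)

@[simp] theorem eqf_inl (f : κ ↪ ι) (k : κ) : eqf f (Sum.inl k) = f k := rfl

noncomputable instance (f : κ ↪ ι) : Fintype {c : ι // ∀ k, f k ≠ c} := Fintype.ofFinite _

instance (f : κ ↪ ι) : DecidableEq {c : ι // ∀ k, f k ≠ c} := inferInstance

/-- `SL κ F` on the coordinates in the image of `f` -/
noncomputable def embf (F : Type*) [Field F] (f : κ ↪ ι) :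
    Matrix.SpecialLinearGroup κ F →* Matrix.SpecialLinearGroup ι F where
  toFun g := ⟨reindex (eqf f) (eqf f) (fromBlocks (g : Matrix κ κ F) 0 0 1), by
    rw [det_reindex_self, det_fromBlocks_zero₂₁, det_one, mul_one]
    exact g.2⟩
  map_one' := by
    apply Subtype.ext
    change reindex (eqf f) (eqf f) (fromBlocks (1 : Matrix κ κ F) 0 0 1) = 1
    rw [fromBlocks_one]
    simp
  map_mul' g k := by
    apply Subtype.ext
    change reindex (eqf f) (eqf f) (fromBlocks (g.1 * k.1 : Matrix κ κ F) 0 0 1) =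
      reindex (eqf f) (eqf f) (fromBlocks g.1 0 0 1) * reindex (eqf f) (eqf f) (fromBlocks k.1 0 0 1)
    rw [reindex_apply, reindex_apply, reindex_apply, submatrix_mul_equiv, fromBlocks_multiply]
    simp

theorem embf_apply (f : κ ↪ ι) (g : Matrix.SpecialLinearGroup κ F) (x y : κ ⊕ {c : ι // ∀ k, f k ≠ c}) :
    (embf F f g : Matrix ι ι F) (eqf f x) (eqf f y) = (fromBlocks (g : Matrix κ κ F) 0 0 1 : Matrix _ _ F) x y := by
  change reindex (eqf f) (eqf f) (fromBlocks (g : Matrix κ κ F) 0 0 1) _ _ = _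
  simp

theorem embf_tv (f : κ ↪ ι) {a b : κ} (hab : a ≠ b) (t : F) :
    embf F f (SpecialLinearGroup.transvection hab t) = tv (f a) (f b) t := by
  apply Subtype.ext
  ext i j
  obtain ⟨x, rfl⟩ := (eqf f).surjective i
  obtain ⟨y, rfl⟩ := (eqf f).surjective j
  have h1 : ((tv (f a) (f b) t : Matrix.SpecialLinearGroup ι F) : Matrix ι ι F) = 1 + single (f a) (f b) t :=
    tv_val (fun h => hab (f.injective h)) t
  refine (embf_apply f _ x y).trans ?_
  change _ = ((tv (f a) (f b) t : Matrix.SpecialLinearGroup ι F) : Matrix ι ι F) _ _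
  have h2 : (f a = eqf f x) ↔ x = Sum.inl a := by
    rw [← eqf_inl, EmbeddingLike.apply_eq_iff_eq, eq_comm]
  have h3 : (f b = eqf f y) ↔ y = Sum.inl b := by
    rw [← eqf_inl, EmbeddingLike.apply_eq_iff_eq, eq_comm]
  have h4 : ((SpecialLinearGroup.transvection hab t : Matrix.SpecialLinearGroup κ F) : Matrix κ κ F) =
    1 + single a b t := rfl
  simp only [h1, Matrix.add_apply, Matrix.one_apply, single_apply, EmbeddingLike.apply_eq_iff_eq, h2, h3]
  rcases x with x | x <;> rcases y with y | y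
  · simp only [fromBlocks_apply₁₁, h4, Matrix.add_apply, Matrix.one_apply, single_apply, Sum.inl.injEq]
    congr 1
    by_cases hx : a = x
    · by_cases hy : b = y
      · simp [hx, hy]
      · simp [hy, Ne.symm hy]
    · simp [hx, Ne.symm hx]
  · simp
  · simp
  · simp [Matrix.one_apply]

/-- transvections commuting with the image of `SL₂` -/
theorem emb_comm_tv {a b : ι} (hab : a ≠ b) {c d : ι} (hcd : c ≠ d) (hca : c ≠ a) (hcb : c ≠ b) (hda : d ≠ a)
    (hdb : d ≠ b) (t : F) (B : Matrix.SpecialLinearGroup (Fin 2) F) :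
    emb hab B * tv c d t = tv c d t * emb hab B := by
  have h1 : (⊤ : Subgroup (Matrix.SpecialLinearGroup (Fin 2) F)) ≤
      (Subgroup.centralizer {tv c d t}).comap (emb hab) := by
    rw [← Cfsg.Agent.LieClassical.SLGen.closure_transvections, Subgroup.closure_le]
    rintro _ ⟨i, j, hij, s, rfl⟩
    change emb hab _ ∈ Subgroup.centralizer {tv c d t}
    rw [Subgroup.mem_centralizer_singleton_iff]
    have h2 : (i = 0 ∧ j = 1) ∨ (i = 1 ∧ j = 0) := by
      fin_cases i <;> fin_cases j <;> simp_all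
    rcases h2 with ⟨rfl, rfl⟩ | ⟨rfl, rfl⟩
    · have e : SpecialLinearGroup.transvection hij s = up s := by
        apply Subtype.ext
        ext i j
        fin_cases i <;> fin_cases j <;> simp [Matrix.SpecialLinearGroup.transvection, Matrix.transvection]
      rw [e, emb_up]
      exact (tv_commute hcb.symm hda.symm s t).eq
    · have e : SpecialLinearGroup.transvection hij s = lo s := by
        apply Subtype.ext
        ext i j
        fin_cases i <;> fin_cases j <;> simp [Matrix.SpecialLinearGroup.transvection, Matrix.transvection]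
      rw [e, emb_lo]
      exact (tv_commute hca.symm hdb.symm s t).eq
  exact Subgroup.mem_centralizer_singleton_iff.1 (h1 (Subgroup.mem_top B))

end Emb

/-! ### The semisimple element -/

section Tor

variable {F : Type*} [Field F] {N : ℕ}

theorem hne (N : ℕ) : (0 : Fin (N + 2)) ≠ Fin.last (N + 1) := (Fin.last_pos).ne

/-- the entries of `s₀` -/
def dv (N : ℕ) (b : Fˣ) (c : Fin (N + 2)) : F :=
  if c = 0 then (b : F) else if c = Fin.last (N + 1) then ((b⁻¹ : Fˣ) : F) else 1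

/-- `diag(b, 1, …, 1, b⁻¹)` -/
noncomputable def s0 (N : ℕ) (b : Fˣ) : Matrix.SpecialLinearGroup (Fin (N + 2)) F := emb (hne N) (dg b)

theorem s0_val (b : Fˣ) : (s0 N b).1 = diagonal (dv N b) := emb_dg (hne N) b

theorem dv_ne (b : Fˣ) (c : Fin (N + 2)) : dv N b c ≠ 0 := by
  unfold dv
  split_ifs
  · exact b.ne_zero
  · exact (b⁻¹).ne_zero
  · exact one_ne_zero

theorem mono_diag {ι : Type*} [Fintype ι] [DecidableEq ι] {g : Matrix.SpecialLinearGroup ι F} {d : ι → F}
    (h : g.1 = diagonal d) : Mono 1 g := by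
  intro a b hab
  rw [h, diagonal_apply] at hab
  by_contra h1
  exact hab (if_neg h1)

theorem conj_diag {ι : Type*} [Fintype ι] [DecidableEq ι] {g : Matrix.SpecialLinearGroup ι F} {d : ι → F}
    (h : g.1 = diagonal d) {a b : ι} (hab : a ≠ b) (t : F) : g * tv a b t * g⁻¹ = tv a b (d a * t * (d b)⁻¹) := by
  rw [(mono_diag h).conj_tv hab, h]
  simp

theorem s0_mem (b : Fˣ) : s0 N b ∈ T (Fin (N + 2)) F := mono_diag (s0_val b)

theorem dv_inj {b : Fˣ} (h1 : b ≠ 1) (h2 : b ^ 2 ≠ 1) {a c : Fin (N + 2)} (h : dv N b a = dv N b c) :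
    (a = 0 ↔ c = 0) ∧ (a = Fin.last (N + 1) ↔ c = Fin.last (N + 1)) := by
  have hb1 : (b : F) ≠ 1 := fun e => h1 (Units.ext e)
  have hb2 : ((b⁻¹ : Fˣ) : F) ≠ 1 := fun e => h1 (inv_eq_one.1 (Units.ext e))
  have hb3 : (b : F) ≠ ((b⁻¹ : Fˣ) : F) := fun e => h2 (by
    have : b = b⁻¹ := Units.ext e
    rw [pow_two]
    nth_rewrite 1 [this]
    exact inv_mul_cancel b)
  have h0 := hne N
  unfold dv at h
  by_cases ha : a = 0
  · subst ha
    rw [if_pos rfl] at h
    by_cases hc : c = 0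
    · subst hc; exact ⟨Iff.rfl, Iff.rfl⟩
    · exfalso
      rw [if_neg hc] at h
      split_ifs at h
      · exact hb3 h
      · exact hb1 h
  · rw [if_neg ha] at h
    by_cases hc : c = 0
    · exfalso
      rw [if_pos hc] at h
      split_ifs at h
      · exact hb3 h.symm
      · exact hb1 h.symm
    · rw [if_neg hc] at h
      refine ⟨⟨fun h => absurd h ha, fun h => absurd h hc⟩, ?_⟩
      by_cases ha' : a = Fin.last (N + 1)
      · rw [if_pos ha'] at h
        by_cases hc' : c = Fin.last (N + 1)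
        · exact ⟨fun _ => hc', fun _ => ha'⟩
        · rw [if_neg hc'] at h
          exact absurd h hb2
      · rw [if_neg ha'] at h
        by_cases hc' : c = Fin.last (N + 1)
        · rw [if_pos hc'] at h
          exact absurd h.symm hb2
        · exact ⟨fun h => absurd h ha', fun h => absurd h hc'⟩

/-- the inner nodes -/
def JJ (N : ℕ) : Set (Fin (N + 1)) := {k | k ≠ 0 ∧ k ≠ Fin.last N}

variable {W : Type*} [Group W] (cs : CoxeterSystem (cA (N + 1)) W) {A : Fin (N + 1) → Fin (N + 1) → ℤ}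
  (h : IsCartan (cA (N + 1)) A)

theorem not_JJ {k : Fin (N + 1)} (hk : k ∉ JJ N) : k = 0 ∨ k = Fin.last N := by
  by_contra hcon
  push Not at hcon
  exact hk hcon

theorem noFix {b : Fˣ} (h1 : b ≠ 1) (h2 : b ^ 2 ≠ 1) : NoFix cs h (X F) (JJ N) (s0 N b) := by
  intro x hx hk u hu hsu
  obtain ⟨a, c, hac, rfl⟩ := exists_of_isRoot cs h hx
  rw [X_rtA hac] at hu
  obtain ⟨t, rfl⟩ := hu
  rw [conj_diag (s0_val b) hac] at hsu
  have h3 := tv_inj hac hsu
  by_cases ht : t = 0
  · rw [ht, tv_zero]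
  · exfalso
    have h4 : dv N b a = dv N b c := by
      have h5 := dv_ne (N := N) b c
      have h6 : dv N b a * t = t * dv N b c := (mul_inv_eq_iff_eq_mul₀ h5).1 h3
      rw [mul_comm t] at h6
      exact mul_right_cancel₀ ht h6
    obtain ⟨h5, h6⟩ := dv_inj h1 h2 h4
    obtain ⟨k, hk, hk'⟩ := hk
    apply hk'
    rw [rtA_apply]
    rcases not_JJ hk with rfl | rfl
    · have e1 : (a.val ≤ (0 : Fin (N + 1)).val) ↔ a = 0 := by
        rw [Fin.val_zero, Nat.le_zero]
        exact ⟨fun h => Fin.ext h, fun h => congrArg Fin.val h⟩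
      have e2 : (c.val ≤ (0 : Fin (N + 1)).val) ↔ c = 0 := by
        rw [Fin.val_zero, Nat.le_zero]
        exact ⟨fun h => Fin.ext h, fun h => congrArg Fin.val h⟩
      simp only [e1, e2, h5, sub_self]
    · have e1 : (a.val ≤ (Fin.last N).val) ↔ ¬ a = Fin.last (N + 1) := by
        rw [Fin.val_last]
        constructor
        · rintro h rfl
          rw [Fin.val_last] at h
          omega
        · intro h
          have h7 : a.val ≠ N + 1 := fun e => h (Fin.ext e)
          have := a.2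
          omega
      have e2 : (c.val ≤ (Fin.last N).val) ↔ ¬ c = Fin.last (N + 1) := by
        rw [Fin.val_last]
        constructor
        · rintro h rfl
          rw [Fin.val_last] at h
          omega
        · intro h
          have h7 : c.val ≠ N + 1 := fun e => h (Fin.ext e)
          have := c.2
          omega
      simp only [e1, e2, h6, sub_self]

/-- the element inverting `s₀` -/
noncomputable def y0 (N : ℕ) (F : Type*) [Field F] : Matrix.SpecialLinearGroup (Fin (N + 2)) F :=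
  emb (hne N) (Cfsg.Agent.OddHalf.NI.Mult.nn 1)

theorem y0_s0 (b : Fˣ) : y0 N F * s0 N b * (y0 N F)⁻¹ = (s0 N b)⁻¹ := by
  unfold y0 s0
  rw [← map_inv, ← map_inv, ← map_mul, ← map_mul]
  congr 1
  rw [mul_inv_eq_iff_eq_mul, eq_inv_mul_iff_mul_eq]
  apply Subtype.ext
  rw [Matrix.SpecialLinearGroup.coe_mul, Matrix.SpecialLinearGroup.coe_mul]
  simp [Matrix.mul_fin_two]

end Tor

/-! ### The block -/

section Block

variable {F : Type*} [Field F] {n : ℕ}

/-- the inner coordinates -/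
def ff (n : ℕ) : Fin (n + 2) ↪ Fin (n + 4) where
  toFun i := i.succ.castSucc
  inj' i j hij := Fin.succ_injective _ (Fin.castSucc_injective _ hij)

theorem ff_val (i : Fin (n + 2)) : (ff n i).val = i.val + 1 := rfl

theorem ff_ne_zero (i : Fin (n + 2)) : ff n i ≠ 0 := by
  intro h
  have := congrArg Fin.val h
  rw [ff_val, Fin.val_zero] at this
  omega

theorem ff_ne_last (i : Fin (n + 2)) : ff n i ≠ Fin.last (n + 3) := by
  intro h
  have := congrArg Fin.val h
  rw [ff_val, Fin.val_last] at this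
  have := i.2
  omega

theorem exists_ff {c : Fin (n + 4)} (h0 : c ≠ 0) (h1 : c ≠ Fin.last (n + 3)) : ∃ i, ff n i = c := by
  have h0' : c.val ≠ 0 := fun e => h0 (Fin.ext e)
  have h1' : c.val ≠ n + 3 := fun e => h1 (Fin.ext e)
  have := c.2
  exact ⟨⟨c.val - 1, by omega⟩, Fin.ext (by rw [ff_val]; simp; omega)⟩

theorem ff_lt {i j : Fin (n + 2)} : ff n i < ff n j ↔ i < j := by
  rw [Fin.lt_def, Fin.lt_def, ff_val, ff_val]
  omega

/-- the block -/
noncomputable def ph (n : ℕ) (F : Type*) [Field F] :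
    Matrix.SpecialLinearGroup (Fin (n + 2)) F →* Matrix.SpecialLinearGroup (Fin (n + 4)) F := embf F (ff n)

theorem ph_tv {a b : Fin (n + 2)} (hab : a ≠ b) (t : F) :
    ph n F (SpecialLinearGroup.transvection hab t) = tv (ff n a) (ff n b) t := embf_tv (ff n) hab t

theorem comm_ph (B : Matrix.SpecialLinearGroup (Fin 2) F) (A : Matrix.SpecialLinearGroup (Fin (n + 2)) F) :
    emb (hne (n + 2)) B * ph n F A = ph n F A * emb (hne (n + 2)) B := by
  have h1 : (MulAut.conj (emb (hne (n + 2)) B)).toMonoidHom.comp (ph n F) = ph n F := by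
    refine hom_ext fun a b hab c => ?_
    change emb (hne (n + 2)) B * ph n F _ * (emb (hne (n + 2)) B)⁻¹ = ph n F _
    rw [ph_tv, emb_comm_tv (hne (n + 2)) (fun h => hab ((ff n).injective h)) (ff_ne_zero a) (ff_ne_last a) (ff_ne_zero b)
      (ff_ne_last b)]
    group
  have h2 := DFunLike.congr_fun h1 A
  change emb (hne (n + 2)) B * ph n F A * (emb (hne (n + 2)) B)⁻¹ = ph n F A at h2
  exact mul_inv_eq_iff_eq_mul.1 h2

theorem comm_diag {ι : Type*} [Fintype ι] [DecidableEq ι] {g k : Matrix.SpecialLinearGroup ι F} {d e : ι → F}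
    (hg : g.1 = diagonal d) (hk : k.1 = diagonal e) : g * k * g⁻¹ = k := by
  rw [mul_inv_eq_iff_eq_mul]
  apply Subtype.ext
  change g.1 * k.1 = k.1 * g.1
  rw [hg, hk, diagonal_mul_diagonal, diagonal_mul_diagonal]
  congr 1
  funext i
  exact mul_comm _ _

theorem gl_ph (b : Fˣ) (g : GL (Fin (n + 2)) F) :
    ∃ y : Matrix.SpecialLinearGroup (Fin (n + 4)) F, y * s0 (n + 2) b * y⁻¹ = s0 (n + 2) b ∧
      ∀ A, y * ph n F A * y⁻¹ = ph n F (gc g A) := by
  refine gl_of_dd (comm_ph (dg b)) (fun d => ?_) g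
  have hy := emb_dg (F := F) (ff_ne_zero (n := n) 0) d
  refine ⟨emb (ff_ne_zero (n := n) 0) (dg d), comm_diag hy (s0_val b), ?_⟩
  have h1 : (MulAut.conj (emb (ff_ne_zero (n := n) 0) (dg d))).toMonoidHom.comp (ph n F) =
      (ph n F).comp (gcHom (dd (n + 1) d)) := by
    refine hom_ext fun a b hab c => ?_
    change emb (ff_ne_zero (n := n) 0) (dg d) * ph n F _ * (emb (ff_ne_zero (n := n) 0) (dg d))⁻¹ =
      ph n F (gc (dd (n + 1) d) _)
    rw [gc_dd_transvection, ph_tv, ph_tv, conj_diag hy (fun h => hab ((ff n).injective h))]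
    have e : ∀ a : Fin (n + 2), (if ff n a = ff n 0 then (d : F) else if ff n a = 0 then ((d⁻¹ : Fˣ) : F) else 1) =
        if a = 0 then (d : F) else 1 := by
      intro a
      by_cases ha : a = 0
      · rw [if_pos (congrArg (ff n) ha), if_pos ha]
      · rw [if_neg (fun h => ha ((ff n).injective h)), if_neg (ff_ne_zero a), if_neg ha]
    rw [e, e]
    congr 2
    by_cases hb : b = 0
    · rw [if_pos hb, if_pos hb, Units.val_inv_eq_inv_val]
    · rw [if_neg hb, if_neg hb, inv_one]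
  exact fun A => DFunLike.congr_fun h1 A

variable {W : Type*} [Group W] (cs : CoxeterSystem (cA (n + 3)) W) {A : Fin (n + 3) → Fin (n + 3) → ℤ}
  (h : IsCartan (cA (n + 3)) A)

theorem rtA_ff (a b : Fin (n + 2)) (k : Fin (n + 3)) (hk : k ∉ JJ (n + 2)) : rtA (ff n a) (ff n b) k = 0 := by
  have ha := a.2
  have hb := b.2
  rw [rtA_apply, ff_val, ff_val]
  rcases not_JJ hk with rfl | rfl
  · rw [Fin.val_zero, if_neg (by omega), if_neg (by omega), sub_self]
  · rw [Fin.val_last, if_pos (by omega), if_pos (by omega), sub_self]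

theorem ph_mem (B : Matrix.SpecialLinearGroup (Fin (n + 2)) F) :
    ph n F B ∈ LJ cs h (T (Fin (n + 4)) F) (X F) (JJ (n + 2)) := by
  have h1 : (⊤ : Subgroup (Matrix.SpecialLinearGroup (Fin (n + 2)) F)) ≤
      (LJ cs h (T (Fin (n + 4)) F) (X F) (JJ (n + 2))).comap (ph n F) := by
    rw [← Cfsg.Agent.LieClassical.SLGen.closure_transvections, Subgroup.closure_le]
    rintro _ ⟨a, b, hab, c, rfl⟩
    change ph n F _ ∈ LJ cs h (T (Fin (n + 4)) F) (X F) (JJ (n + 2))
    rw [ph_tv]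
    have hab' : ff n a ≠ ff n b := fun h => hab ((ff n).injective h)
    refine X_le_LJ (J := JJ (n + 2)) (x := rtA (ff n a) (ff n b)) ⟨isRoot_rtA cs h hab', rtA_ff a b⟩ ?_
    rw [X_rtA hab']
    exact tv_mem_XX _ _ _
  exact h1 (Subgroup.mem_top B)

theorem exists_of_PosJ {x : Fin (n + 3) → ℤ} (hx : x ∈ PosJ cs h (JJ (n + 2))) :
    ∃ a b : Fin (n + 2), a < b ∧ x = rtA (ff n a) (ff n b) := by
  obtain ⟨a, b, hab, rfl⟩ := exists_of_isRoot cs h hx.1
  have hlt : a < b := lt_of_le_of_ne (rtA_nonneg_iff.1 hx.2.1) hab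
  have h0 := hx.2.2 0 (fun h => h.1 rfl)
  have h1 := hx.2.2 (Fin.last (n + 2)) (fun h => h.2 rfl)
  rw [rtA_apply, Fin.val_zero] at h0
  rw [rtA_apply, Fin.val_last] at h1
  rw [Fin.lt_def] at hlt
  have hb := b.2
  have ha0 : a ≠ 0 := by
    rintro rfl
    rw [Fin.val_zero] at hlt h0
    rw [if_pos le_rfl, if_neg (by omega)] at h0
    omega
  have hb1 : b ≠ Fin.last (n + 3) := by
    rintro rfl
    rw [Fin.val_last] at hlt h1
    rw [if_pos (by omega), if_neg (by omega)] at h1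
    omega
  have ha1 : a ≠ Fin.last (n + 3) := by
    rintro rfl
    rw [Fin.val_last] at hlt
    omega
  have hb0 : b ≠ 0 := by
    rintro rfl
    rw [Fin.val_zero] at hlt
    omega
  obtain ⟨a', rfl⟩ := exists_ff ha0 ha1
  obtain ⟨b', rfl⟩ := exists_ff hb0 hb1
  exact ⟨a', b', ff_lt.1 (Fin.lt_def.2 hlt), rfl⟩

theorem up_ph (x : Fin (n + 3) → ℤ) (hx : x ∈ PosJ cs h (JJ (n + 2))) : X F x ≤ (UT (n + 2) F).map (ph n F) := by
  obtain ⟨a, b, hab, rfl⟩ := exists_of_PosJ cs h hx
  rw [X_rtA (fun h => hab.ne ((ff n).injective h))]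
  rintro _ ⟨t, rfl⟩
  exact ⟨_, tv_mem_UT hab.ne hab t, ph_tv hab.ne t⟩

theorem lo_ph (x : Fin (n + 3) → ℤ) (hx : x ∈ PosJ cs h (JJ (n + 2))) : X F (-x) ≤ (LT (n + 2) F).map (ph n F) := by
  obtain ⟨a, b, hab, rfl⟩ := exists_of_PosJ cs h hx
  rw [rtA_neg, X_rtA (fun h => hab.ne' ((ff n).injective h))]
  rintro _ ⟨t, rfl⟩
  exact ⟨_, tv_mem_LT hab.ne' hab t, ph_tv hab.ne' t⟩

theorem blk {b : Fˣ} (h1 : b ≠ 1) (h2 : b ^ 2 ≠ 1) :
    Blk cs h (T (Fin (n + 4)) F) (X F) (JJ (n + 2)) F n (s0 (n + 2) b) (ph n F) where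
  mem := s0_mem b
  fix := noFix cs h h1 h2
  comm := comm_ph (dg b)
  range := ph_mem cs h
  up := up_ph cs h
  lo := lo_ph cs h
  gl := gl_ph b
  inv := ⟨y0 (n + 2) F, y0_s0 b, 1, by
    rw [gc_one]
    unfold y0
    rw [comm_ph]
    group⟩

end Block

/-! ### The theorem -/

theorem exists_unit {K : Type*} [Field K] [Fintype K] (hK : 9 ≤ Fintype.card K) : ∃ b : Kˣ, b ≠ 1 ∧ b ^ 2 ≠ 1 := by
  classical
  obtain ⟨t, ht⟩ := IsCyclic.exists_ofOrder_eq_natCard (α := Kˣ)
  have h2 : Nat.card Kˣ = Fintype.card K - 1 := by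
    rw [Nat.card_eq_fintype_card, Fintype.card_units]
  refine ⟨t, fun h => ?_, fun h => ?_⟩
  · rw [h, orderOf_one] at ht
    omega
  · have h3 := orderOf_dvd_of_pow_eq_one h
    rw [ht, h2] at h3
    have := Nat.le_of_dvd (by norm_num) h3
    omega

theorem square_psl {F : Type*} [Field F] [Fintype F] (hF : 9 ≤ Fintype.card F) {n : ℕ} (hn : 2 ≤ n) :
    ∃ c : ProjectiveSpecialLinearGroup (Fin n) F, ∀ g : ProjectiveSpecialLinearGroup (Fin n) F,
      ∃ x y : ProjectiveSpecialLinearGroup (Fin n) F, g = (x * c * x⁻¹) * (y * c * y⁻¹) := by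
  obtain ⟨N, rfl⟩ : ∃ N, n = N + 2 := ⟨n - 2, by omega⟩
  obtain ⟨p, hpc⟩ := CharP.exists F
  have : Fact p.Prime := ⟨(CharP.char_is_prime_or_zero F p).resolve_right (CharP.char_ne_zero_of_finite F p)⟩
  obtain ⟨b, hb1, hb2⟩ := exists_unit hF
  have hW : Finite (cA (N + 1)).Group := finite_W (cA (N + 1)).toCoxeterSystem (isCartan (N + 1))
  have hs : IsSimpleGroup (ProjectiveSpecialLinearGroup (Fin (N + 2)) F) := by
    rcases N with _ | N
    · exact Matrix.ProjectiveSpecialLinearGroup.rank_two_simple (by rw [Nat.card_eq_fintype_card]; omega)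
    · exact Cfsg.Agent.LieClassical.SLGen.psl_isSimpleGroup (by simp)
  have R := rgd (F := F) (p := p) (cA (N + 1)).toCoxeterSystem (isCartan (N + 1))
  have hG := G1_eq_top (F := F) (cA (N + 1)).toCoxeterSystem (isCartan (N + 1))
  have hc4 : (4 : Cardinal) ≤ Cardinal.mk F := by
    rw [Cardinal.mk_fintype]
    exact_mod_cast (by omega : 4 ≤ Fintype.card F)
  have key : ∃ c₀ : Matrix.SpecialLinearGroup (Fin (N + 2)) F, ∀ g : Matrix.SpecialLinearGroup (Fin (N + 2)) F,
      g ∉ (RGD.B (cA (N + 1)).toCoxeterSystem (isCartan (N + 1)) (T (Fin (N + 2)) F) (X F)).normalCore ∨ g = 1 →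
      ∃ x y, g = (x * c₀ * x⁻¹) * (y * c₀ * y⁻¹) := by
    by_cases hN : N < 2
    · have hJ : JJ N = ∅ := by
        ext k
        constructor
        · rintro ⟨h1, h2⟩
          have h1' : k.val ≠ 0 := fun e => h1 (Fin.ext e)
          have h2' : k.val ≠ N := fun e => h2 (Fin.ext e)
          have := k.2
          omega
        · intro h
          exact absurd h (Set.notMem_empty k)
      have hf := noFix (F := F) (cA (N + 1)).toCoxeterSystem (isCartan (N + 1)) hb1 hb2
      rw [hJ] at hf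
      exact ⟨_, fun g hg => main0 R hG Cfsg.Agent.OddHalf.NI.ClosedSL.coord Cfsg.Agent.Nodes.ChartTypeA.irr (s0_mem b) hf
        ⟨_, y0_s0 b⟩ hg⟩
    · obtain ⟨m, rfl⟩ : ∃ m, N = m + 2 := ⟨N - 2, by omega⟩
      exact ⟨_, fun g hg => main R hG Cfsg.Agent.OddHalf.NI.ClosedSL.coord Cfsg.Agent.Nodes.ChartTypeA.irr hc4
        (blk (cA (m + 3)).toCoxeterSystem (isCartan (m + 3)) hb1 hb2) hg⟩
  obtain ⟨c₀, hc₀⟩ := key
  exact square R (pr (N + 1) F) pr_surjective ker_pr.le hc₀

end Cfsg.Agent.H162.GaussPSL
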