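import Cfsg.Agent.H162.RkTwoFam_m3
import Mathlib
import Cfsg.Agent.H902.Zs_m3
import Cfsg.Agent.H66.Cod.Exc
import Cfsg.Agent.H902.Enum
import Cfsg.Agent.H902.AltLie
import Cfsg.Agent.OrdDiv.Core
import Cfsg.Agent.Omega.Quasithin.Row.MTwelve
import Cfsg.Agent.H113.PSU.Rank3_m3
import Cfsg.Agent.H66.Cod.Base
import Cfsg.Agent.H221.TwFSplit
import Cfsg.Agent.H603.SporElim
import Cfsg.Agent.S1624
import Cfsg.Agent.S1680
import Cfsg.Agent.S1687
import Cfsg.Agent.S4503
import Cfsg.Agent.H902.EntsFast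
import Cfsg.Agent.Lib.FastDecM
import Cfsg.Agent.FastGrp
import Cfsg.Agent.Prune
set_option linter.all false

section
prune_inst 0x7f00000000000000000000000000000000000000000000000000000000000000000000000000000000000000000000000000000000000000000000000000000000000000000000000000000000000000003fffffffffffffffffffffffffffbeffbdfbfeffff

section
prune_inst 0xfffdfcbbaf73ffdfff7e3faff9fffc13c20fffe6dff9437fe069bf0bdf33800bc5ffaf09e030fe0ed7e01410b8f853fbffffffea6bfc7ffffd5ff45ffbee4ff5f7bd08519698340f380fff63f07f8e6f000000000000000000000000000000000200000000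

-- part: H495/TI/FJ2
section
prune_inst 0x344500c00200001c000060001e428a000102004b88000800020004c02e4220050e61b4300512803a04546038004000000100402000000a000800011900a08008000480480008020008000004010000000000000000000000000000000004004010000
set_option linter.all false
open scoped Cfsg.Agent.FastGrp

/-!
# Generation and projections on central characters (helper495)
-/

set_option autoImplicit false
set_option linter.unusedSectionVars false
set_option linter.unusedSimpArgs false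
open Matrix Module

namespace Cfsg.Agent.H495.TI

open Cfsg.Agent.H162.Weil

variable {F : Type*} [Field F] {m : ℕ}

theorem ne_succ (k : Fin m) : (0 : Fin (m + 1)) ≠ k.succ := (Fin.succ_ne_zero k).symm

theorem tv_zero_eq_hb (j : Fin m) (h : (0 : Fin (m + 1)) ≠ j.succ) (b : F) :
    tv 0 j.succ h b = hb (Pi.single j (-b)) := by
  apply Units.ext
  rw [tv_coe, hb_coe]
  refine up_ext ?_ ?_ ?_ ?_
  · simp [vecMulVec_apply, single_apply]
  · intro k
    by_cases hk : j = k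
    · subst hk; simp [vecMulVec_apply, single_apply]
    · simp [vecMulVec_apply, single_apply, hk, Ne.symm hk]
  · intro k; simp [vecMulVec_apply, single_apply]
  · intro k l; simp [vecMulVec_apply, single_apply, ne_succ]

theorem dg_split (d : Fin (m + 1) → Fˣ) :
    dg d = ht 0 (d 0) * upG (dg fun i => d i.succ) := by
  apply Units.ext
  rw [Units.val_mul, upG_coe, dg_coe, dg_coe, ht, dg_coe]
  have h : up 1 (diagonal fun i => ((d i.succ : Fˣ) : F)) =
      diagonal (Fin.cons 1 fun i => ((d i.succ : Fˣ) : F) : Fin (m + 1) → F) := by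
    refine up_ext ?_ ?_ ?_ ?_
    · simp
    · intro k; simp [diagonal_apply, ne_succ]
    · intro k; simp [diagonal_apply]
    · intro k l; simp [diagonal_apply]
  rw [h, diagonal_mul_diagonal]
  congr 1
  ext i
  refine Fin.cases ?_ (fun i => ?_) i <;> simp

/-- **Generation** by the parabolic `Q Sp_2m`, the Siegel radical and `ww 0`. -/
theorem gen_P0 (K : Subgroup (Sp (m + 1) F)) (hu : ∀ S : Sym (m + 1) F, uu S ∈ K)
    (hh : ∀ b : Fin m → F, mm (hb b) ∈ K) (he : ∀ g : Sp m F, emb g ∈ K)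
    (hw : (ww 0 : Sp (m + 1) F) ∈ K) : K = ⊤ := by
  have htK : ∀ t : Fˣ, (mm (ht (0 : Fin (m + 1)) t) : Sp (m + 1) F) ∈ K := by
    intro t
    have h := ww_uu_ww (n := m + 1) 0 t
    have h1 : (mm (ht (0 : Fin (m + 1)) t) : Sp (m + 1) F) = (uu (sD 0 (t : F)))⁻¹ *
        (ww 0 * uu (sD 0 (-((t⁻¹ : Fˣ) : F))) * ww 0) * (uu (sD 0 (t : F)))⁻¹ * (ww 0)⁻¹ := by
      rw [h]; group
    rw [h1]
    exact K.mul_mem (K.mul_mem (K.mul_mem (K.inv_mem (hu _))
      (K.mul_mem (K.mul_mem hw (hu _)) hw)) (K.inv_mem (hu _))) (K.inv_mem hw)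
  have htv : ∀ (i j : Fin (m + 1)) (hij : i ≠ j) (b : F), mm (tv i j hij b) ∈ K := by
    intro i j hij b
    induction j using Fin.cases with
    | zero =>
      have h3 : mm (tv i 0 hij b) = ww 0 * uu (sE i 0 b) * (ww 0)⁻¹ := by
        rw [ww_mul_uu i 0 hij, mul_inv_cancel_right]
      rw [h3]
      exact K.mul_mem (K.mul_mem hw (hu _)) (K.inv_mem hw)
    | succ j =>
      induction i using Fin.cases with
      | zero =>
        rw [tv_zero_eq_hb]
        exact hh _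
      | succ i =>
        have h4 : i ≠ j := fun h => hij (by rw [h])
        have h5 := upG_tv i j h4 b
        rw [← h5, ← emb_mm]
        exact he _
  refine gen_top 0 K hu ?_ hw
  suffices h : ∀ M : Matrix (Fin (m + 1)) (Fin (m + 1)) F, det M ≠ 0 →
      ∀ A : GL (Fin (m + 1)) F, A.1 = M → mm A ∈ K by
    intro A
    refine h A.1 ?_ A rfl
    have := (GeneralLinearGroup.det A).ne_zero
    rwa [GeneralLinearGroup.val_det_apply] at this
  intro M hM
  refine diagonal_transvection_induction_of_det_ne_zero (P := fun M =>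
    ∀ A : GL (Fin (m + 1)) F, A.1 = M → mm A ∈ K) M hM ?_ ?_ ?_
  · intro D hD A hA
    have hD' : ∀ k, D k ≠ 0 := by
      intro k hk
      apply hD
      rw [det_diagonal]
      exact Finset.prod_eq_zero (Finset.mem_univ k) hk
    let d : Fin (m + 1) → Fˣ := fun k => Units.mk0 (D k) (hD' _)
    have h1 : A = dg d := by
      apply Units.ext
      rw [dg_coe, hA]
      rfl
    rw [h1, dg_split, map_mul, ← emb_mm]
    exact K.mul_mem (htK _) (he _)
  · intro t A hA
    have h1 : A = tv t.i t.j t.hij t.c := by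
      apply Units.ext
      rw [hA]
      rfl
    rw [h1]
    exact htv _ _ _ _
  · intro A B hA hB ihA ihB C hC
    let A' : GL (Fin (m + 1)) F := GeneralLinearGroup.mkOfDetNeZero A hA
    let B' : GL (Fin (m + 1)) F := GeneralLinearGroup.mkOfDetNeZero B hB
    have h1 : C = A' * B' := by
      apply Units.ext
      rw [hC]
      rfl
    rw [h1, map_mul]
    exact K.mul_mem (ihA A' rfl) (ihB B' rfl)

/-- A subspace stable under the generators is invariant. -/
theorem stable_of_gen {V : Type*} [AddCommGroup V] [Module ℂ V]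
    {ρ : Representation ℂ (Sp (m + 1) F) V} [Fintype F] (U : Submodule ℂ V)
    (hu : ∀ S : Sym (m + 1) F, ∀ v ∈ U, ρ (uu S) v ∈ U)
    (hh : ∀ b : Fin m → F, ∀ v ∈ U, ρ (mm (hb b)) v ∈ U)
    (he : ∀ g : Sp m F, ∀ v ∈ U, ρ (emb g) v ∈ U)
    (hw : ∀ v ∈ U, ρ (ww 0) v ∈ U) (g : Sp (m + 1) F) : ∀ v ∈ U, ρ g v ∈ U := by
  let K : Subgroup (Sp (m + 1) F) :=
    { carrier := {g | ∀ v ∈ U, ρ g v ∈ U}
      one_mem' := by intro v hv; simpa only [_root_.map_one, _root_.Module.End.one_apply] using hv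
      mul_mem' := by
        intro a b ha hb v hv
        rw [rho_mul]
        exact ha _ (hb _ hv)
      inv_mem' := by
        intro a ha
        have : Finite (Sp (m + 1) F) := Subtype.finite
        have hpow : ∀ k : ℕ, ∀ v ∈ U, ρ (a ^ k) v ∈ U := by
          intro k
          induction k with
          | zero => intro v hv; simpa only [_root_.pow_zero, _root_.map_one, _root_.Module.End.one_apply] using hv
          | succ k ih =>
            intro v hv
            rw [pow_succ, rho_mul]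
            exact ih _ (ha _ hv)
        have : a⁻¹ = a ^ (Nat.card (Sp (m + 1) F) - 1) := by
          rw [inv_eq_iff_mul_eq_one, ← pow_succ', Nat.sub_add_cancel Nat.card_pos, pow_card_eq_one']
        show ∀ v ∈ U, ρ a⁻¹ v ∈ U
        rw [this]
        exact hpow _ }
  have hK : K = ⊤ := gen_P0 K hu hh he hw
  have : g ∈ K := by rw [hK]; exact Subgroup.mem_top g
  exact this

/-! ### Projections -/

section proj

variable [Fintype F] {ψ : AddChar F ℂ} {V : Type*} [AddCommGroup V] [Module ℂ V]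

/-- projection on the central character `c` -/
noncomputable def eZ (ρ : Representation ℂ (Sp (m + 1) F) V) (ψ : AddChar F ℂ) (c : F) :
    V →ₗ[ℂ] V :=
  (Fintype.card F : ℂ)⁻¹ • ∑ s : F, ψ (-(c * s)) • ρ (uu (sR 0 s))

variable {ρ : Representation ℂ (Sp (m + 1) F) V}

theorem eZ_apply (c : F) (v : V) : eZ ρ ψ c v =
    (Fintype.card F : ℂ)⁻¹ • ∑ s : F, ψ (-(c * s)) • ρ (uu (sR 0 s)) v := by
  simp only [eZ, LinearMap.sum_apply, _root_.LinearMap.smul_apply]

theorem card_ne : (Fintype.card F : ℂ) ≠ 0 := by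
  exact_mod_cast Fintype.card_ne_zero

theorem eZ_of_mem {c : F} {v : V} (hv : ∀ s, ρ (uu (sR 0 s)) v = ψ (c * s) • v) :
    eZ ρ ψ c v = v := by
  rw [eZ_apply]
  have : ∀ s : F, ψ (-(c * s)) • ρ (uu (sR 0 s)) v = v := by
    intro s
    rw [hv, smul_smul, ← AddChar.map_add_eq_mul, neg_add_cancel, AddChar.map_zero_eq_one,
      one_smul]
  simp only [this, Finset.sum_const, Finset.card_univ]
  rw [← Nat.cast_smul_eq_nsmul ℂ, smul_smul, inv_mul_cancel₀ card_ne, one_smul]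

theorem sum_psi (hψ : ψ.IsPrimitive) {a : F} (ha : a ≠ 0) : ∑ s : F, ψ (a * s) = 0 := by
  classical
  have h := AddChar.sum_mulShift (ψ := ψ) a hψ
  rw [if_neg ha] at h
  rw [← Nat.cast_zero, ← h]
  refine Finset.sum_congr rfl fun s _ => ?_
  rw [mul_comm]

theorem eZ_of_ne (hψ : ψ.IsPrimitive) {c d : F} (hcd : c ≠ d) {v : V}
    (hv : ∀ s, ρ (uu (sR 0 s)) v = ψ (d * s) • v) : eZ ρ ψ c v = 0 := by
  rw [eZ_apply]
  have : ∀ s : F, ψ (-(c * s)) • ρ (uu (sR 0 s)) v = ψ ((d - c) * s) • v := by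
    intro s
    rw [hv, smul_smul, ← AddChar.map_add_eq_mul]
    congr 2
    ring
  simp only [this]
  rw [← Finset.sum_smul, sum_psi hψ (sub_ne_zero.mpr hcd.symm), zero_smul, smul_zero]

theorem sum_eZ (hψ : ψ.IsPrimitive) (v : V) : ∑ c : F, eZ ρ ψ c v = v := by
  classical
  simp only [eZ_apply]
  rw [← Finset.smul_sum, Finset.sum_comm]
  have : ∀ s : F, ∑ c : F, ψ (-(c * s)) • ρ (uu (sR 0 s)) v =
      if s = 0 then (Fintype.card F : ℂ) • v else 0 := by
    intro s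
    rw [← Finset.sum_smul]
    split_ifs with hs
    · subst hs
      have h0 : (sR (0 : Fin m → F) 0) = 0 := by
        apply Subtype.ext
        refine up_ext ?_ ?_ ?_ ?_ <;> intros <;> simp only [_root_.Cfsg.Agent.H495.TI.sR_00, _root_.ZeroMemClass.coe_zero, _root_.Matrix.zero_apply, _root_.Cfsg.Agent.H495.TI.sR_0s, _root_.Pi.zero_apply, _root_.Cfsg.Agent.H495.TI.sR_s0, _root_.Cfsg.Agent.H495.TI.sR_ss]
      rw [h0, uu_zero, map_one, Module.End.one_apply]
      congr 1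
      simp
    · have h1 : ∑ c : F, ψ (-(c * s)) = 0 := by
        rw [← sum_psi hψ (neg_ne_zero.mpr hs)]
        refine Finset.sum_congr rfl fun c _ => ?_
        congr 1
        ring
      rw [h1, zero_smul]
  rw [Finset.sum_congr rfl fun s _ => this s]
  rw [Finset.sum_ite_eq' Finset.univ (0 : F), if_pos (Finset.mem_univ _), smul_smul,
    inv_mul_cancel₀ card_ne, one_smul]

theorem eZ_comm {c : F} {g : Sp (m + 1) F} (hg : ∀ s, g * uu (sR 0 s) = uu (sR 0 s) * g) (v : V) :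
    eZ ρ ψ c (ρ g v) = ρ g (eZ ρ ψ c v) := by
  rw [eZ_apply, eZ_apply, map_smul, map_sum]
  congr 1
  refine Finset.sum_congr rfl fun s _ => ?_
  rw [map_smul, ← rho_mul, ← rho_mul, hg]

theorem eZ_emb (c : F) (g : Sp m F) (v : V) : eZ ρ ψ c (ρ (emb g) v) = ρ (emb g) (eZ ρ ψ c v) :=
  eZ_comm (emb_comm_ctr g) v

/-- `ww 0` commutes with `emb g`. -/
theorem ww_zero_comm_emb (g : Sp m F) : ww 0 * emb g = emb g * ww 0 := by
  apply Subtype.ext
  rw [Submonoid.coe_mul, Submonoid.coe_mul, emb_coe, embM, ww_coe, fromBlocks_multiply,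
    fromBlocks_multiply]
  have h1 : (single 0 0 1 : Matrix (Fin (m + 1)) (Fin (m + 1)) F) = up 1 0 := by
    refine up_ext ?_ ?_ ?_ ?_ <;> intros <;> simp [single_apply, ne_succ]
  have h2 : (1 - single 0 0 1 : Matrix (Fin (m + 1)) (Fin (m + 1)) F) = up 0 1 := by
    rw [h1, ← up_one, up_sub, sub_self, sub_zero]
  rw [h2, h1, up_neg]
  simp only [up_mul, up_add]
  simp

end proj

end Cfsg.Agent.H495.TI

private theorem dce_c61acf9fbd25 : _root_.True := by
  try have : _root_.True := by simp only [_root_.Cfsg.Agent.H495.TI.eZ.eq_1]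
  exact _root_.True.intro
end

-- part: H162/AnisoA
section
prune_inst 0x344508c000000818000060001e429a00010200488800c8400b000cc1ae42a0050860bc30011280aa0cd46038004000000100402000000a000800011900800008000090480208400000000000010000000000000000000000000000000004004010000
set_option linter.all false
open scoped Cfsg.Agent.FastGrp

/-!
# The anisotropic case, part A: the relation `R3` for `ww 0` and Fourier inversion (helper162)
-/

set_option autoImplicit false
open Matrix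

namespace Cfsg.Agent.H162.Aniso

open Cfsg.Agent.H162.Weil Cfsg.Agent.H495.TI

variable {F : Type*} [Field F] {m : ℕ}

/-- the vector `(a, x)` -/
def cs (a : F) (x : Fin m → F) : Fin (m + 1) → F := Fin.cons a x

@[simp] theorem cs_zero (a : F) (x : Fin m → F) : cs a x 0 = a := rfl
@[simp] theorem cs_succ (a : F) (x : Fin m → F) (i : Fin m) : cs a x i.succ = x i := rfl

theorem cs_ext {u v : Fin (m + 1) → F} (h0 : u 0 = v 0) (h : ∀ i : Fin m, u i.succ = v i.succ) :
    u = v := by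
  ext i
  exact Fin.cases h0 h i

theorem cs_neg (a : F) (x : Fin m → F) : -cs a x = cs (-a) (-x) := by
  apply cs_ext
  · simp
  · intro i; simp

theorem cs_upG (a : F) (x : Fin m → F) (h : GL (Fin m) F) :
    cs a x ᵥ* ((upG h : GL (Fin (m + 1)) F) : Matrix (Fin (m + 1)) (Fin (m + 1)) F) =
      cs a (x ᵥ* (h : Matrix (Fin m) (Fin m) F)) := by
  rw [upG_coe]
  apply cs_ext
  · simp [vecMul, dotProduct, Fin.sum_univ_succ]
  · intro i; simp [vecMul, dotProduct, Fin.sum_univ_succ]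

theorem cs_hb_inv (a : F) (x b : Fin m → F) :
    cs a x ᵥ* (((hb b)⁻¹ : GL (Fin (m + 1)) F) : Matrix (Fin (m + 1)) (Fin (m + 1)) F) =
      cs a (x + a • b) := by
  rw [hb_inv_coe, vecMul_add, vecMul_one, vecMul_vecMulVec]
  have h : cs a x ⬝ᵥ e0 m F = a := by simp [dotProduct, Fin.sum_univ_succ]
  rw [h]
  apply cs_ext
  · simp
  · intro i; simp

theorem ev_eq_cs (p : Fin m) (a : F) : ev p.succ 0 a = cs a (Pi.single p 1) := by
  apply cs_ext
  · simp [ev, (Fin.succ_ne_zero p).symm]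
  · intro i
    by_cases h : i = p
    · subst h; simp [ev, Fin.succ_ne_zero]
    · have h' : i.succ ≠ p.succ := fun e => h (Fin.succ_injective _ e)
      simp [ev, Fin.succ_ne_zero, h, h']

theorem ind_cs' {a : F} (ha : a ≠ 0) (x : Fin m → F) {y : Fin m → F} (hy : y ≠ 0) :
    Ind (cs a x) (cs 0 y) := by
  obtain ⟨l, hl⟩ : ∃ l, y l ≠ 0 := by
    by_contra hc
    push Not at hc
    exact hy (funext hc)
  exact ⟨0, l.succ, by simp [ha, hl]⟩

theorem Ind.ne_zero_left {n : ℕ} {x y : Fin n → F} (h : Ind x y) : x ≠ 0 := by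
  rintro rfl
  obtain ⟨k, l, hkl⟩ := h
  simp at hkl

theorem Ind.ne_zero_right {n : ℕ} {x y : Fin n → F} (h : Ind x y) : y ≠ 0 := by
  rintro rfl
  obtain ⟨k, l, hkl⟩ := h
  simp at hkl

theorem Ind.neg_left {n : ℕ} {x y : Fin n → F} (h : Ind x y) : Ind (-x) y := by
  obtain ⟨k, l, hkl⟩ := h
  refine ⟨k, l, ?_⟩
  simp only [Pi.neg_apply]
  intro h0
  apply hkl
  linear_combination -h0

theorem Ind.neg_right {n : ℕ} {x y : Fin n → F} (h : Ind x y) : Ind x (-y) := by
  obtain ⟨k, l, hkl⟩ := h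
  refine ⟨k, l, ?_⟩
  simp only [Pi.neg_apply]
  intro h0
  apply hkl
  linear_combination -h0

theorem Ind.ne {n : ℕ} {x y : Fin n → F} (h : Ind x y) : x ≠ y := by
  rintro rfl
  obtain ⟨k, l, hkl⟩ := h
  apply hkl
  ring

variable [Fintype F] {V : Type*} [AddCommGroup V] [Module ℂ V] {ψ : AddChar F ℂ}

section R3

variable {ρ : Representation ℂ (Sp (m + 1) F) V}
  {i k : Fin (m + 1)} {w : V} {ε δ : ℂ}

/-- **R3** at the index `0`. -/
theorem R3 (hs : Seed2 ρ ψ i k w ε δ) {x y : Fin m → F} (h : Ind x y) (a b : F) :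
    g2 ψ (-1) (-1) • ρ (ww 0) (fam2 ρ i k w (cs a x) (cs b y)) =
      ∑ z : F × F, ψ (2 * (a * z.1 + b * z.2)) • fam2 ρ i k w (cs z.1 x) (cs z.2 y) := by
  obtain ⟨p, q, hpq0⟩ := id h
  have hpq : p ≠ q := by
    rintro rfl
    apply hpq0
    ring
  obtain ⟨g, hgx, hgy⟩ := exists_pair hpq h
  have hp0 : p.succ ≠ 0 := Fin.succ_ne_zero p
  have hq0 : q.succ ≠ 0 := Fin.succ_ne_zero q
  have hpq' : p.succ ≠ q.succ := fun e => hpq (Fin.succ_injective _ e)
  set base := fam2 ρ i k w (Pi.single p.succ 1) (Pi.single q.succ 1) with hbase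
  have hbm : base ∈ Wt ρ ψ (TU 1 1 (Pi.single p.succ 1) (Pi.single q.succ 1)) := hs.fam_mem _ _
  have hN : ∀ z : F × F, Nz ρ p.succ q.succ 0 hp0 hq0 z base =
      fam2 ρ i k w (cs z.1 (Pi.single p 1)) (cs z.2 (Pi.single q 1)) := by
    intro z
    have h1 := ev_nz1 hpq' hp0 hq0 z 0
    have h2 := ev_nz2 hpq' hp0 hq0 z 0
    rw [Prod.fst_zero, ev_zero, add_zero, ev_eq_cs] at h1
    rw [Prod.snd_zero, ev_zero, add_zero, ev_eq_cs] at h2
    rw [Nz_eq, hbase, hs.fam_mm, h1, h2]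
  have hG : ∀ z : F × F, ρ (mm (upG g)) (fam2 ρ i k w (cs z.1 (Pi.single p 1))
      (cs z.2 (Pi.single q 1))) = fam2 ρ i k w (cs z.1 x) (cs z.2 y) := by
    intro z
    rw [hs.fam_mm, ← map_inv, cs_upG, cs_upG, Weil.vecMul_inv hgx, Weil.vecMul_inv hgy]
  have h1 := g2_ww hs.prim (two_ne hs.three) hs.rk hpq' hp0 hq0 one_ne_zero one_ne_zero hbm (a, b)
  simp only [hN] at h1
  have h3 := congrArg (ρ (mm (upG g))) h1
  have hGab : ρ (mm (upG g)) (fam2 ρ i k w (cs a (Pi.single p 1)) (cs b (Pi.single q 1))) =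
      fam2 ρ i k w (cs a x) (cs b y) := hG (a, b)
  rw [map_smul, ← rho_mul, ← emb_mm, ← ww_zero_comm_emb, rho_mul, emb_mm, hGab, map_sum] at h3
  rw [h3]
  refine Finset.sum_congr rfl fun z _ => ?_
  rw [map_smul, hG, one_mul, one_mul]

end R3

/-! ### Fourier inversion on a line -/

omit [Fintype F] in
theorem aniso_sq (hF : ∀ x : F, x ≠ 0 → x ^ 2 = 1) (h2 : (2 : F) ≠ 0) {p q : F}
    (hpq : ¬ (p = 0 ∧ q = 0)) : p ^ 2 + q ^ 2 ≠ 0 := by
  by_cases hp : p = 0
  · have hq : q ≠ 0 := fun h => hpq ⟨hp, h⟩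
    rw [hp, hF q hq]
    simp
  · by_cases hq : q = 0
    · rw [hq, hF p hp]
      simp
    · rw [hF p hp, hF q hq]
      have : (1 : F) + 1 = 2 := by norm_num
      rw [this]; exact h2

theorem inv2 (hF : Fintype.card F = 3) (hψ : ψ.IsPrimitive) {c : F} (hc : c ≠ 0)
    (N : Submodule ℂ V) (E : F × F → V)
    (hN : ∀ z' : F × F, E z' ∈ N →
      ∑ z : F × F, ψ (2 * c * (z'.1 * z.1 + z'.2 * z.2)) • E z ∈ N)
    {p q : F} (hpq : ¬ (p = 0 ∧ q = 0)) (h : ∀ z : F × F, z.1 * q - z.2 * p ≠ 0 → E z ∈ N)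
    (z : F × F) : E z ∈ N := by
  classical
  by_cases hz : z.1 * q - z.2 * p ≠ 0
  · exact h z hz
  push Not at hz
  have hline : ∀ z : F × F, z.1 * q - z.2 * p = 0 → ∃ u : F, z = (u * p, u * q) := by
    intro z hz
    by_cases hp : p = 0
    · have hq : q ≠ 0 := fun h => hpq ⟨hp, h⟩
      refine ⟨z.2 * q⁻¹, ?_⟩
      apply Prod.ext
      · rw [hp] at hz
        rw [hp, mul_zero]
        have : z.1 * q = 0 := by linear_combination hz
        exact (mul_eq_zero.mp this).resolve_right hq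
      · show z.2 = z.2 * q⁻¹ * q
        rw [mul_assoc, inv_mul_cancel₀ hq, mul_one]
    · refine ⟨z.1 * p⁻¹, ?_⟩
      apply Prod.ext
      · show z.1 = z.1 * p⁻¹ * p
        rw [mul_assoc, inv_mul_cancel₀ hp, mul_one]
      · show z.2 = z.1 * p⁻¹ * q
        field_simp
        linear_combination -hz
  obtain ⟨u0, rfl⟩ := hline z hz
  have hn := aniso_sq (fun x hx => sq_ne hF hx) (two_ne hF) hpq
  have hinj : Function.Injective fun u : F => (u * p, u * q) := by
    intro u u' he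
    have h1 : u * p = u' * p := congrArg Prod.fst he
    have h3 : u * q = u' * q := congrArg Prod.snd he
    by_cases hp : p = 0
    · have hq : q ≠ 0 := fun h => hpq ⟨hp, h⟩
      exact mul_right_cancel₀ hq h3
    · exact mul_right_cancel₀ hp h1
  -- the partial sums
  have hB : ∀ v : F, ∑ u : F, ψ (2 * c * v * u) • E (u * p, u * q) ∈ N := by
    intro v
    let z' : F × F := ((v * p + q) / (p ^ 2 + q ^ 2), (v * q - p) / (p ^ 2 + q ^ 2))
    have e1 : z'.1 * p + z'.2 * q = v := by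
      show (v * p + q) / (p ^ 2 + q ^ 2) * p + (v * q - p) / (p ^ 2 + q ^ 2) * q = v
      field_simp
      ring
    have e2 : z'.1 * q - z'.2 * p = 1 := by
      show (v * p + q) / (p ^ 2 + q ^ 2) * q - (v * q - p) / (p ^ 2 + q ^ 2) * p = 1
      field_simp
      ring
    have h1 := hN z' (h z' (by rw [e2]; exact one_ne_zero))
    rw [← Finset.sum_add_sum_compl (Finset.univ.image fun u : F => (u * p, u * q))] at h1
    have h3 : ∑ z ∈ (Finset.univ.image fun u : F => (u * p, u * q))ᶜ,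
        ψ (2 * c * (z'.1 * z.1 + z'.2 * z.2)) • E z ∈ N := by
      refine Submodule.sum_mem _ fun z hz => Submodule.smul_mem _ _ (h z ?_)
      intro h0
      obtain ⟨u, rfl⟩ := hline z h0
      rw [Finset.mem_compl] at hz
      exact hz (Finset.mem_image_of_mem _ (Finset.mem_univ u))
    have h4 := (Submodule.add_mem_iff_left _ h3).mp h1
    rw [Finset.sum_image (fun a _ b _ hab => hinj hab)] at h4
    convert h4 using 1
    refine Finset.sum_congr rfl fun u _ => ?_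
    congr 2
    show 2 * c * v * u = 2 * c * (z'.1 * (u * p) + z'.2 * (u * q))
    rw [← e1]; ring
  -- inversion
  have h5 : ∑ v : F, ψ (-(2 * c * v * u0)) • ∑ u : F, ψ (2 * c * v * u) • E (u * p, u * q) ∈ N :=
    Submodule.sum_mem _ fun v _ => Submodule.smul_mem _ _ (hB v)
  have h6 : ∑ v : F, ψ (-(2 * c * v * u0)) • ∑ u : F, ψ (2 * c * v * u) • E (u * p, u * q) =
      (Fintype.card F : ℂ) • E (u0 * p, u0 * q) := by
    simp only [Finset.smul_sum, smul_smul]
    rw [Finset.sum_comm]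
    have h7 : ∀ u : F, ∑ v : F, (ψ (-(2 * c * v * u0)) * ψ (2 * c * v * u)) • E (u * p, u * q) =
        if u = u0 then (Fintype.card F : ℂ) • E (u0 * p, u0 * q) else 0 := by
      intro u
      rw [← Finset.sum_smul]
      have h8 : ∑ v : F, ψ (-(2 * c * v * u0)) * ψ (2 * c * v * u) =
          ∑ v : F, ψ (v * (2 * c * (u - u0))) := by
        refine Finset.sum_congr rfl fun v _ => ?_
        rw [← AddChar.map_add_eq_mul]
        congr 1
        ring
      rw [h8, AddChar.sum_mulShift _ hψ]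
      by_cases hu : u = u0
      · subst hu
        rw [if_pos rfl, if_pos]
        ring
      · rw [if_neg hu, if_neg, Nat.cast_zero, zero_smul]
        exact mul_ne_zero (mul_ne_zero (two_ne hF) hc) (sub_ne_zero.mpr hu)
    rw [Finset.sum_congr rfl fun u _ => h7 u]
    simp
  rw [h6] at h5
  have h9 : (Fintype.card F : ℂ) ≠ 0 := by exact_mod_cast Fintype.card_ne_zero
  exact (Submodule.smul_mem_iff _ h9).mp h5

end Cfsg.Agent.H162.Aniso
end

-- part: H162/AnisoB
section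
prune_inst 0x20340408c002000018050060003e42da00000200488000c0400b0004c18c42a0010821b830051000b218446038004000000010400000000a000000011a00a080204006924802086e0009000000000000000000000000000000000000000000000000000
set_option linter.all false
open scoped Cfsg.Agent.FastGrp

/-!
# The anisotropic case, part B: the Fourier–Jacobi piece generated by a rank two vector (helper162)
-/

set_option autoImplicit false
open Matrix Module

namespace Cfsg.Agent.H162.Aniso

open Cfsg.Agent.H162.Weil Cfsg.Agent.H495.TI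

variable {F : Type*} [Field F] {m : ℕ} [Fintype F] {V : Type*} [AddCommGroup V] [Module ℂ V]
  {ψ : AddChar F ℂ} {ρ : Representation ℂ (Sp (m + 1) F) V}

/-- A family of vectors with weights `c e_0² + c z²`. -/
structure UFam (ρ : Representation ℂ (Sp (m + 1) F) V) (ψ : AddChar F ℂ) (c : F)
    (u : (Fin m → F) → V) : Prop where
  u0 : ∀ z, u z ∈ Wt ρ ψ (up c (TT c z))
  u1 : ∀ (h : GL (Fin m) F) (z : Fin m → F), ρ (mm (upG h)) (u z) =
    u (z ᵥ* ((h⁻¹ : GL (Fin m) F) : Matrix (Fin m) (Fin m) F))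
  u2 : ∃ κ : ℂ, ∀ z, u (-z) = κ • u z
  u3 : ∀ z, z ≠ 0 → u z ≠ 0

theorem wt_UU {c : F} {T' : Matrix (Fin m) (Fin m) F} {v : V} (hv : v ∈ Wt ρ ψ (up c T')) :
    v ∈ UU ρ ψ c := by
  intro a s
  have h := hv (sR a s + upS 0)
  rw [pr_up] at h
  have h0 : upS (0 : Sym m F) = 0 := by
    apply Subtype.ext
    show up 0 ((0 : Sym m F) : Matrix (Fin m) (Fin m) F) = 0
    rw [ZeroMemClass.coe_zero, up_zero]
  rw [h0, add_zero, ZeroMemClass.coe_zero, pr_zero_right, add_zero] at h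
  exact h

theorem FTl_dl_sum (c : F) (b : Fin m) (x : Fin m → F) :
    FTl ψ c b (dl x : W m F) = ∑ s : F, ψ (2 * c * x b * s) • dl (Function.update x b s) := by
  classical
  ext z
  rw [FTl_apply, Finset.sum_apply]
  by_cases h : Function.update z b (x b) = x
  · have hz : ∀ l, l ≠ b → z l = x l := by
      intro l hl
      have := congrFun h l
      rwa [Function.update_of_ne hl] at this
    have e1 : z = Function.update x b (z b) := by
      ext l
      by_cases hl : l = b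
      · subst hl; simp
      · rw [Function.update_of_ne hl, hz l hl]
    rw [Finset.sum_eq_single (x b), Finset.sum_eq_single (z b)]
    · rw [h, dl_self, Pi.smul_apply, ← e1, dl_self, smul_eq_mul]
      congr 2
      ring
    · intro s _ hs
      rw [Pi.smul_apply, dl_ne, smul_zero]
      intro h0
      apply hs
      have := congrFun h0 b
      rw [Function.update_self] at this
      exact this.symm
    · simp only [_root_.Finset.mem_univ, _root_.not_true_eq_false, _root_.Pi.smul_apply, _root_.smul_eq_mul, _root_.mul_eq_zero, _root_.IsEmpty.forall_iff]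
    · intro s _ hs
      rw [dl_ne, mul_zero]
      intro h0
      apply hs
      have := congrFun h0 b
      rwa [Function.update_self] at this
    · simp only [_root_.Finset.mem_univ, _root_.not_true_eq_false, _root_.mul_eq_zero, _root_.IsEmpty.forall_iff]
  · rw [Finset.sum_eq_zero, Finset.sum_eq_zero]
    · intro s _
      rw [Pi.smul_apply, dl_ne, smul_zero]
      intro h0
      apply h
      rw [h0, Function.update_idem, Function.update_eq_self]
    · intro s _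
      rw [dl_ne, mul_zero]
      intro h0
      apply h
      have := congrFun h0 b
      rw [Function.update_self] at this
      rw [← this]; exact h0

theorem LH_dl_zero (h : GL (Fin m) F) : LH h (dl 0 : W m F) = dl 0 := by
  ext x
  rw [LH_apply]
  by_cases hx : x = 0
  · subst hx
    rw [zero_vecMul]
  · rw [dl_ne hx, dl_ne]
    intro h0
    apply hx
    have := congrArg (fun y => y ᵥ* ((h⁻¹ : GL (Fin m) F) : Matrix (Fin m) (Fin m) F)) h0
    simpa only [vecMul_cancel_inv, zero_vecMul] using this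

/-- **The Fourier–Jacobi piece.** -/
theorem exists_K [FiniteDimensional ℂ V] (hF : Fintype.card F = 3) (hψ : ψ.IsPrimitive) {c : F}
    (hc : c ≠ 0) (hm : 2 ≤ m) (hR : RkTwo ρ ψ) {u : (Fin m → F) → V} (hu : UFam ρ ψ c u) :
    ∃ (K : Submodule ℂ (MM ρ ψ c)) (j : Fin m) (ω : Representation ℂ (Sp m F) (W m F))
      (hω : IsWeil ψ c ω), (∀ g, ∀ φ ∈ K, tau hω j ρ g φ ∈ K) ∧
      2 * finrank ℂ K ≤ Fintype.card F ^ m + 1 ∧
      (∀ x z, z ≠ 0 → ρ (mm (hb (-x))) (u z) ∈ LL K) ∧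
      (∀ N : Submodule ℂ V, (∀ g : Sp m F, ∀ v ∈ N, ρ (_root_.Cfsg.Agent.H495.TI.emb g) v ∈ N) →
        (∀ x z, Ind x z → ρ (mm (hb (-x))) (u z) ∈ N) → LL K ≤ N) := by
  classical
  have h2 := two_ne hF
  let p : Fin m := ⟨0, by omega⟩
  let j : Fin m := ⟨1, by omega⟩
  have hpj : p ≠ j := by
    intro h
    have := congrArg Fin.val h
    simp [p, j] at this
  have : Nontrivial (Fin m) := ⟨⟨p, j, hpj⟩⟩
  obtain ⟨ω, a1, a2, a3, a4⟩ := exists_weil (n := m) hψ h2 hc j
  have hω : IsWeil ψ c ω := ⟨hψ, h2, hc, a1, a2, a3, a4⟩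
  let φ : (Fin m → F) → MM ρ ψ c := fun z => ⟨lf ρ (u z), lf_mem (wt_UU (hu.u0 z))⟩
  have hφ0 : ∀ z, (φ z).1 (dl 0) = u z := fun z => lf_dl_zero _
  have hφx : ∀ z x, (φ z).1 (dl x) = ρ (mm (hb (-x))) (u z) := fun z x => lf_dl _ _
  have hMext : ∀ φ φ' : MM ρ ψ c, φ.1 (dl 0) = φ'.1 (dl 0) → φ = φ' := fun φ φ' h =>
    Subtype.ext (MM_ext φ.2 φ'.2 h)
  set e : Fin m → F := Pi.single p 1 with he
  have he0 : e ≠ 0 := by
    intro h
    have := congrFun h p
    simp [he] at this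
  have hseed : Seed (tau hω j ρ) ψ c p (φ e) :=
    { prim := hψ
      two := h2
      rk := tau_rkOne hω j hR
      lam0 := hc
      mem := by
        rw [mem_Wt_tau hω j, hφ0]
        exact hu.u0 e
      ne := by
        intro h0
        apply hu.u3 e he0
        rw [← hφ0, h0]
        rfl }
  obtain ⟨f, hf, hfe⟩ := hseed.exists_fam hpj
  -- proportionality
  have hprop : ∀ z, z ≠ 0 → ∃ κ : ℂ, κ ≠ 0 ∧ f z = κ • φ z := by
    intro z hz
    obtain ⟨h, hh⟩ := exists_vecMul_eq_single z hz p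
    have hz' := Weil.vecMul_inv hh
    have hr2 := hf.r2 h e
    rw [he, hz', ← he, hfe] at hr2
    obtain ⟨d, hd, hd'⟩ := hω.w3 h
    have h3 := emb_apply hω j (mm h) (φ e) (dl 0)
    rw [hd', LH_dl_zero, map_smul, hφ0, emb_mm, hu.u1, he, hz', ← he] at h3
    have h4 : tau hω j ρ (mm h) (φ e) = d⁻¹ • φ z := by
      apply hMext
      show _ = d⁻¹ • (φ z).1 (dl 0)
      rw [hφ0, h3, inv_smul_smul₀ hd]
    rw [h4] at hr2
    have hchi := hseed.chi_ne_zero hpj (GeneralLinearGroup.det h)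
    refine ⟨(chi ψ c (GeneralLinearGroup.det h))⁻¹ * d⁻¹, mul_ne_zero (inv_ne_zero hchi)
      (inv_ne_zero hd), ?_⟩
    rw [mul_smul, hr2, inv_smul_smul₀ hchi]
  have hneg : ∃ κ : ℂ, ∀ z, φ (-z) = κ • φ z := by
    obtain ⟨κ, hκ⟩ := hu.u2
    refine ⟨κ, fun z => hMext _ _ ?_⟩
    show _ = κ • (φ z).1 (dl 0)
    rw [hφ0, hφ0, hκ]
  obtain ⟨κ2, hκ2⟩ := hneg
  set K : Submodule ℂ (MM ρ ψ c) := Submodule.span ℂ (Set.range f) with hK
  have hfK : ∀ x, f x ∈ K := fun x => Submodule.subset_span ⟨x, rfl⟩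
  have hφK : ∀ z, z ≠ 0 → φ z ∈ K := by
    intro z hz
    obtain ⟨κ, hκ, hfz⟩ := hprop z hz
    have h1 := hfK z
    rw [hfz] at h1
    exact (Submodule.smul_mem_iff _ hκ).mp h1
  refine ⟨K, j, ω, hω, ?_, ?_, ?_, ?_⟩
  · -- stability
    have hgs : gs ψ (-c) ≠ 0 := gs_ne_zero hψ h2 (neg_ne_zero.mpr hc)
    have hle : ∀ g, (∀ x, tau hω j ρ g (f x) ∈ K) → ∀ φ ∈ K, tau hω j ρ g φ ∈ K := by
      intro g hg φ hφ
      have h : K ≤ K.comap (tau hω j ρ g) := by
        rw [hK, Submodule.span_le]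
        rintro _ ⟨x, rfl⟩
        exact hg x
      exact h hφ
    intro g
    refine gen_induct j (P := fun g => ∀ φ ∈ K, tau hω j ρ g φ ∈ K) ?_ ?_ ?_ ?_ ?_ g
    · intro φ hφ
      rw [map_one]
      exact hφ
    · intro g h hg hh φ hφ
      rw [rho_mul]
      exact hg _ (hh _ hφ)
    · intro S
      apply hle
      intro x
      rw [hf.r1 x S]
      exact K.smul_mem _ (hfK x)
    · intro h
      apply hle
      intro x
      rw [hf.r2 h x]
      exact K.smul_mem _ (hfK _)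
    · apply hle
      intro x
      have h1 := hf.r3 j x
      have h3 : gs ψ (-c) • tau hω j ρ (ww j) (f x) ∈ K := by
        rw [h1]
        exact K.sum_mem fun z _ => K.smul_mem _ (hfK _)
      exact (Submodule.smul_mem_iff _ hgs).mp h3
  · -- dimension
    have hle : K ≤ Submodule.span ℂ
        (((Finset.univ.filter (fun x : Fin m → F => He x)).image f : Finset (MM ρ ψ c)) :
          Set (MM ρ ψ c)) := by
      rw [hK, Submodule.span_le]
      rintro _ ⟨x, rfl⟩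
      by_cases hx : He x
      · apply Submodule.subset_span
        rw [Finset.coe_image]
        exact ⟨x, by simpa using hx, rfl⟩
      · have hx' := (not_He_iff x).mp hx
        have hxH : He (-x) := (He_iff h2 (-x)).mpr (Or.inr hx')
        have hx0 : x ≠ 0 := by
          rintro rfl
          exact hx ((He_iff h2 0).mpr (Or.inl rfl))
        obtain ⟨κ, hκ, hfx⟩ := hprop x hx0
        obtain ⟨κ', hκ', hfx'⟩ := hprop (-x) (neg_ne_zero.mpr hx0)
        have h3 : f (-x) ∈ Submodule.span ℂ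
            (((Finset.univ.filter (fun x : Fin m → F => He x)).image f :
              Finset (MM ρ ψ c)) : Set (MM ρ ψ c)) := by
          apply Submodule.subset_span
          rw [Finset.coe_image]
          exact ⟨-x, by simpa using hxH, rfl⟩
        rw [hfx'] at h3
        have h4 := (Submodule.smul_mem_iff _ hκ').mp h3
        show f x ∈ _
        rw [hfx]
        apply Submodule.smul_mem
        have h5 := hκ2 (-x)
        rw [neg_neg] at h5
        rw [h5]
        exact Submodule.smul_mem _ _ h4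
    have h3 := Submodule.finrank_mono hle
    have h4 : finrank ℂ (Submodule.span ℂ
        (((Finset.univ.filter (fun x : Fin m → F => He x)).image f : Finset (MM ρ ψ c)) :
          Set (MM ρ ψ c))) ≤
        ((Finset.univ.filter (fun x : Fin m → F => He x)).image f).card :=
      finrank_span_finset_le_card _
    have h5 := Finset.card_image_le (s := Finset.univ.filter (fun x : Fin m → F => He x)) (f := f)
    have h6 := finrank_even (n := m) (F := F) h2
    have h7 := finrank_even_eq (n := m) (F := F) h2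
    have h8 := finrank_sum (n := m) (F := F) h2
    have h9 : (Finset.univ.filter (fun x : Fin m → F => He x)).card = finrank ℂ (Es m F 1) := by
      rw [h6]
    omega
  · intro x z hz
    rw [← hφx]
    exact mem_LL (hφK z hz) _
  · intro N hN hInd
    have hE0 : ∀ x z, Ind x z → (f z).1 (dl x) ∈ N := by
      intro x z hxz
      obtain ⟨κ, -, hfz⟩ := hprop z (Ind.ne_zero_right hxz)
      rw [hfz]
      show κ • (φ z).1 (dl x) ∈ N
      rw [hφx]
      exact N.smul_mem _ (hInd x z hxz)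
    have hEww : ∀ (b : Fin m) (x z : Fin m → F), (f z).1 (dl x) ∈ N →
        ∑ s : F × F, ψ (2 * c * (x b * s.1 + z b * s.2)) •
          (f (Function.update z b s.2)).1 (dl (Function.update x b s.1)) ∈ N := by
      intro b x z hxz
      have h1 := emb_apply hω j (ww b) (f z) (dl x)
      obtain ⟨d, hd, hd'⟩ := hω.w4 b
      rw [hd', FTl_dl_sum] at h1
      have h3 := hf.r3 b z
      have hgs : gs ψ (-c) ≠ 0 := gs_ne_zero hψ h2 (neg_ne_zero.mpr hc)
      have h4 : gs ψ (-c) • ρ (_root_.Cfsg.Agent.H495.TI.emb (ww b)) ((f z).1 (dl x)) =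
          d • ∑ s : F × F, ψ (2 * c * (x b * s.1 + z b * s.2)) •
          (f (Function.update z b s.2)).1 (dl (Function.update x b s.1)) := by
        rw [h1]
        have h5 : ∀ y : W m F, gs ψ (-c) • (tau hω j ρ (ww b) (f z)).1 y =
            ∑ t : F, ψ (2 * c * z b * t) • (f (Function.update z b t)).1 y := by
          intro y
          have h6 : gs ψ (-c) • (tau hω j ρ (ww b) (f z)).1 y =
              (gs ψ (-c) • tau hω j ρ (ww b) (f z)).1 y := rfl
          rw [h6, h3]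
          simp only [_root_.AddSubmonoidClass.coe_finsetSum, _root_.SetLike.val_smul, _root_.LinearMap.coe_sum, _root_.LinearMap.coe_smul, _root_.Finset.sum_apply, _root_.Pi.smul_apply]
        rw [h5, Fintype.sum_prod_type_right]
        conv_rhs => rw [Finset.smul_sum]
        refine Finset.sum_congr rfl fun t _ => ?_
        rw [map_smul, map_sum, smul_comm]
        refine congrArg (fun X => d • X) ?_
        rw [Finset.smul_sum]
        refine Finset.sum_congr rfl fun s _ => ?_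
        rw [map_smul, smul_smul, ← AddChar.map_add_eq_mul]
        congr 2
        ring
      have h5 : d • ∑ s : F × F, ψ (2 * c * (x b * s.1 + z b * s.2)) •
          (f (Function.update z b s.2)).1 (dl (Function.update x b s.1)) ∈ N := by
        rw [← h4]
        exact N.smul_mem _ (hN _ _ hxz)
      exact (Submodule.smul_mem_iff _ hd).mp h5
    have hstep : ∀ x z : Fin m → F, (∃ a, ¬ (x a = 0 ∧ z a = 0)) → (f z).1 (dl x) ∈ N := by
      rintro x z ⟨a, ha⟩
      obtain ⟨b, hb⟩ := exists_ne a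
      have h1 := inv2 hF hψ hc N
        (fun s : F × F => (f (Function.update z b s.2)).1 (dl (Function.update x b s.1)))
        (by
          intro s hs
          have h3 := hEww b (Function.update x b s.1) (Function.update z b s.2) hs
          simpa only [Function.update_self, Function.update_idem] using h3)
        (p := x a) (q := z a) ha
        (by
          intro s hs
          apply hE0
          refine ⟨a, b, ?_⟩
          rw [Function.update_of_ne hb.symm, Function.update_of_ne hb.symm, Function.update_self,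
            Function.update_self]
          intro h0
          apply hs
          linear_combination -h0)
        (x b, z b)
      simpa only [Function.update_eq_self] using h1
    have hall : ∀ x z : Fin m → F, (f z).1 (dl x) ∈ N := by
      intro x z
      by_cases h : ∃ a, ¬ (x a = 0 ∧ z a = 0)
      · exact hstep x z h
      · push Not at h
        have hx : x = 0 := funext fun a => (h a).1
        have hz : z = 0 := funext fun a => (h a).2
        subst hx
        subst hz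
        have h1 := inv2 hF hψ hc N
          (fun s : F × F => (f (Function.update 0 p s.2)).1 (dl (Function.update 0 p s.1)))
          (by
            intro s hs
            have h3 := hEww p (Function.update 0 p s.1) (Function.update 0 p s.2) hs
            simpa only [Function.update_self, Function.update_idem] using h3)
          (p := 1) (q := 0) (by simp)
          (by
            intro s hs
            apply hstep
            refine ⟨p, ?_⟩
            rw [Function.update_self, Function.update_self]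
            rintro ⟨-, h0⟩
            apply hs
            rw [h0]; ring)
          (0, 0)
        have e0 : Function.update (0 : Fin m → F) p 0 = 0 := by
          ext l
          by_cases hl : l = p
          · subst hl; simp
          · simp [hl]
        simpa only [e0] using h1
    rw [LL, Submodule.span_le]
    rintro _ ⟨φ', hφ', g, rfl⟩
    show φ'.1 g ∈ N
    have hdl : ∀ z, (f z).1 g ∈ N := by
      intro z
      rw [f_eq_sum g, map_sum]
      refine N.sum_mem fun x _ => ?_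
      rw [map_smul]
      exact N.smul_mem _ (hall x z)
    rw [hK] at hφ'
    induction hφ' using Submodule.span_induction with
    | mem x hx =>
      obtain ⟨z, rfl⟩ := hx
      exact hdl z
    | zero => exact N.zero_mem
    | add x y _ _ hx hy => exact N.add_mem hx hy
    | smul a x _ hx => exact N.smul_mem _ hx

end Cfsg.Agent.H162.Aniso
end

-- part: H162/AnisoC
section
prune_inst 0x304500c002000018050060001ec292000002004880008840020004c1ae4020010861b430011200a8984470380040000000000000000000003000011900a0800042029248010c660009800000010000000000000000000000000000000004004010000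
set_option linter.all false
open scoped Cfsg.Agent.FastGrp

/-!
# The anisotropic case, part C: closure and the dimension bound (helper162)
-/

set_option autoImplicit false
open Matrix Module

namespace Cfsg.Agent.H162.Aniso

open Cfsg.Agent.H162.Weil Cfsg.Agent.H495.TI

variable {F : Type*} [Field F] {m : ℕ} [Fintype F] {V : Type*} [AddCommGroup V] [Module ℂ V]
  {ψ : AddChar F ℂ} {ρ : Representation ℂ (Sp (m + 1) F) V} {i k : Fin (m + 1)} {w : V} {ε δ : ℂ}

/-- the family for `c = 1` -/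
noncomputable def uP (ρ : Representation ℂ (Sp (m + 1) F) V) (i k : Fin (m + 1)) (w : V)
    (z : Fin m → F) : V := fam2 ρ i k w (cs 1 0) (cs 0 z)

/-- the family for `c = -1` -/
noncomputable def uM (ρ : Representation ℂ (Sp (m + 1) F) V) (i k : Fin (m + 1)) (w : V)
    (z : Fin m → F) : V := fam2 ρ i k w (cs 1 z) (cs 1 (-z))

theorem uFamP (hs : Seed2 ρ ψ i k w ε δ) : UFam ρ ψ 1 (uP ρ i k w) where
  u0 z := by
    have h := hs.fam_mem (cs 1 0) (cs 0 z)
    have e : TU 1 1 (cs 1 0) (cs 0 z) = up 1 (TT 1 z) := by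
      refine up_ext ?_ ?_ ?_ ?_
      · rw [TU_apply]; simp
      · intro j; rw [TU_apply]; simp
      · intro j; rw [TU_apply]; simp
      · intro a b; rw [TU_apply]; simp [TT_apply]
    rw [e] at h
    exact h
  u1 h z := by
    rw [uP, hs.fam_mm, ← map_inv, cs_upG, cs_upG, zero_vecMul, uP]
  u2 := by
    refine ⟨ε, fun z => ?_⟩
    have e : cs (0 : F) (-z) = -cs 0 z := by rw [cs_neg, neg_zero]
    rw [uP, e, hs.fam_neg2, uP]
  u3 z hz := hs.fam_ne_zero (ind_cs' one_ne_zero 0 hz)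

theorem uFamM (hs : Seed2 ρ ψ i k w ε δ) : UFam ρ ψ (-1) (uM ρ i k w) where
  u0 z := by
    have h := hs.fam_mem (cs 1 z) (cs 1 (-z))
    have h2 := two_eq hs.three
    have e : TU 1 1 (cs 1 z) (cs 1 (-z)) = up (-1) (TT (-1) z) := by
      refine up_ext ?_ ?_ ?_ ?_
      · rw [TU_apply]
        simp only [cs_zero, up_00]
        linear_combination h2
      · intro j; rw [TU_apply]; simp
      · intro j; rw [TU_apply]; simp
      · intro a b
        rw [TU_apply]
        simp only [cs_succ, up_ss, TT_apply, Pi.neg_apply]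
        linear_combination (z a * z b) * h2
    rw [e] at h
    exact h
  u1 h z := by
    rw [uM, hs.fam_mm, ← map_inv, cs_upG, cs_upG, neg_vecMul, uM]
  u2 := by
    refine ⟨δ, fun z => ?_⟩
    rw [uM, neg_neg, hs.fam_swap, uM]
  u3 z hz := by
    apply hs.fam_ne_zero
    obtain ⟨l, hl⟩ : ∃ l, z l ≠ 0 := by
      by_contra hc
      push Not at hc
      exact hz (funext hc)
    refine ⟨0, l.succ, ?_⟩
    simp only [cs_zero, cs_succ, Pi.neg_apply]
    have h2 := two_eq hs.three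
    intro h0
    apply hl
    linear_combination h0 + z l * h2

theorem hb_uP (hs : Seed2 ρ ψ i k w ε δ) (x z : Fin m → F) :
    ρ (mm (hb (-x))) (uP ρ i k w z) = fam2 ρ i k w (cs 1 (-x)) (cs 0 z) := by
  rw [uP, hs.fam_mm, cs_hb_inv, cs_hb_inv, one_smul, zero_smul, zero_add, add_zero]

theorem hb_uM (hs : Seed2 ρ ψ i k w ε δ) (x z : Fin m → F) :
    ρ (mm (hb (-x))) (uM ρ i k w z) = fam2 ρ i k w (cs 1 (z - x)) (cs 1 (-z - x)) := by
  rw [uM, hs.fam_mm, cs_hb_inv, cs_hb_inv, one_smul, sub_eq_add_neg, sub_eq_add_neg]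

/-- vectors fixed by the Heisenberg group -/
def VQ (ρ : Representation ℂ (Sp (m + 1) F) V) : Submodule ℂ V where
  carrier := {v | ∀ (a b : Fin m → F) (s : F), ρ (qq a b s) v = v}
  add_mem' {v v'} h h' := by
    intro a b s
    rw [map_add, h, h']
  zero_mem' := by intro a b s; simp
  smul_mem' d v h := by
    intro a b s
    rw [map_smul, h]

theorem VQ_emb (g : Sp m F) {v : V} (hv : v ∈ VQ ρ) : ρ (_root_.Cfsg.Agent.H495.TI.emb g) v ∈ VQ ρ := by
  intro a b s
  have h := emb_qq g ((g⁻¹ : Sp m F).1 *ᵥ Sum.elim a b) s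
  have e : g.1 *ᵥ ((g⁻¹ : Sp m F).1 *ᵥ Sum.elim a b) = Sum.elim a b := by
    rw [mulVec_mulVec, ← Submonoid.coe_mul, mul_inv_cancel]
    exact one_mulVec _
  rw [e, Sum.elim_comp_inl, Sum.elim_comp_inr] at h
  rw [← rho_mul, ← h, rho_mul, hv]

theorem fam_VQ (hs : Seed2 ρ ψ i k w ε δ) (x y : Fin m → F) :
    fam2 ρ i k w (cs 0 x) (cs 0 y) ∈ VQ ρ := by
  intro a b s
  rw [qq, rho_mul, hs.fam_mm, cs_hb_inv, cs_hb_inv, zero_smul, add_zero, add_zero,
    hs.fam_mem (cs 0 x) (cs 0 y) (sR a (s - a ⬝ᵥ b))]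
  have h : pr (TU 1 1 (cs 0 x) (cs 0 y)) (sR a (s - a ⬝ᵥ b)).1 = 0 := by
    simp only [pr, Fin.sum_univ_succ, TU_apply, _root_.one_mul, _root_.Cfsg.Agent.H162.Aniso.cs_zero, _root_.MulZeroClass.mul_zero, _root_.add_zero, _root_.MulZeroClass.zero_mul, _root_.Cfsg.Agent.H162.Aniso.cs_succ, _root_.zero_add, _root_.Cfsg.Agent.H495.TI.sR_0s, _root_.Finset.sum_const_zero, _root_.Cfsg.Agent.H495.TI.sR_ss]
  rw [h, AddChar.map_zero_eq_one, one_smul]

theorem fam_ctr (hs : Seed2 ρ ψ i k w ε δ) (z : F × F) (x y : Fin m → F) (s : F) :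
    ρ (uu (sR 0 s)) (fam2 ρ i k w (cs z.1 x) (cs z.2 y)) =
      ψ ((z.1 ^ 2 + z.2 ^ 2) * s) • fam2 ρ i k w (cs z.1 x) (cs z.2 y) := by
  rw [hs.fam_mem (cs z.1 x) (cs z.2 y) (sR 0 s)]
  congr 2
  have h : pr (TU 1 1 (cs z.1 x) (cs z.2 y)) (sR 0 s).1 = (z.1 ^ 2 + z.2 ^ 2) * s := by
    simp only [pr, Fin.sum_univ_succ, TU_apply, pow_two, _root_.one_mul, _root_.Cfsg.Agent.H162.Aniso.cs_zero, _root_.Cfsg.Agent.H162.Aniso.cs_succ, _root_.Cfsg.Agent.H495.TI.sR_00, _root_.Cfsg.Agent.H495.TI.sR_0s, _root_.Pi.zero_apply, _root_.MulZeroClass.mul_zero, _root_.Finset.sum_const_zero, _root_.add_zero, _root_.Cfsg.Agent.H495.TI.sR_s0, _root_.Cfsg.Agent.H495.TI.sR_ss]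
  exact h

/-- the pieces -/
structure Pieces (ρ : Representation ℂ (Sp (m + 1) F) V) (i k : Fin (m + 1)) (w : V)
    (T1 T2 : Submodule ℂ V) : Prop where
  p1 : ∀ x z, z ≠ 0 → fam2 ρ i k w (cs 1 x) (cs 0 z) ∈ T1
  p2 : ∀ x y, x ≠ y → fam2 ρ i k w (cs 1 x) (cs 1 y) ∈ T2
  e1 : ∀ g : Sp m F, ∀ v ∈ T1, ρ (_root_.Cfsg.Agent.H495.TI.emb g) v ∈ T1
  e2 : ∀ g : Sp m F, ∀ v ∈ T2, ρ (_root_.Cfsg.Agent.H495.TI.emb g) v ∈ T2

/-- the target for the central character `c` -/
def Tg (ρ : Representation ℂ (Sp (m + 1) F) V) (T1 T2 : Submodule ℂ V) (c : F) : Submodule ℂ V where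
  carrier := {v | (c = 0 → v ∈ VQ ρ) ∧ (c = 1 → v ∈ T1) ∧ (c = -1 → v ∈ T2)}
  add_mem' {v v'} h h' := ⟨fun e => Submodule.add_mem _ (h.1 e) (h'.1 e),
    fun e => Submodule.add_mem _ (h.2.1 e) (h'.2.1 e),
    fun e => Submodule.add_mem _ (h.2.2 e) (h'.2.2 e)⟩
  zero_mem' := ⟨fun _ => Submodule.zero_mem _, fun _ => Submodule.zero_mem _,
    fun _ => Submodule.zero_mem _⟩
  smul_mem' d v h := ⟨fun e => Submodule.smul_mem _ _ (h.1 e),
    fun e => Submodule.smul_mem _ _ (h.2.1 e), fun e => Submodule.smul_mem _ _ (h.2.2 e)⟩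

theorem mem_Tg {T1 T2 : Submodule ℂ V} {c : F} {v : V} : v ∈ Tg ρ T1 T2 c ↔
    (c = 0 → v ∈ VQ ρ) ∧ (c = 1 → v ∈ T1) ∧ (c = -1 → v ∈ T2) := Iff.rfl

theorem fam_Tg (hs : Seed2 ρ ψ i k w ε δ) {T1 T2 : Submodule ℂ V} (hP : Pieces ρ i k w T1 T2)
    {x y : Fin m → F} (hxy : Ind x y) (z : F × F) :
    fam2 ρ i k w (cs z.1 x) (cs z.2 y) ∈ Tg ρ T1 T2 (z.1 ^ 2 + z.2 ^ 2) := by
  have h2 := two_eq hs.three
  have h2n := two_ne hs.three
  have h1m : (1 : F) ≠ -1 := by
    intro h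
    apply h2n
    linear_combination h
  have h1m' : (-1 : F) ≠ 1 := fun h => h1m h.symm
  have hm0 : (-1 : F) ≠ 0 := neg_ne_zero.mpr one_ne_zero
  -- first column `(±1, 0)`
  have hA : ∀ (s : F), (s = 1 ∨ s = -1) → ∀ x y : Fin m → F, y ≠ 0 →
      fam2 ρ i k w (cs s x) (cs 0 y) ∈ T1 := by
    rintro s (rfl | rfl) x y hy
    · exact hP.p1 x y hy
    · have e : cs (-1 : F) x = -cs 1 (-x) := by rw [cs_neg, neg_neg]
      rw [e, hs.fam_neg1]
      exact T1.smul_mem _ (hP.p1 _ y hy)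
  have hB : ∀ (s : F), (s = 1 ∨ s = -1) → ∀ x y : Fin m → F, y ≠ 0 →
      fam2 ρ i k w (cs 0 y) (cs s x) ∈ T1 := by
    intro s hs' x y hy
    rw [hs.fam_swap]
    exact T1.smul_mem _ (hA s hs' x y hy)
  have hC : ∀ (s t : F), (s = 1 ∨ s = -1) → (t = 1 ∨ t = -1) → ∀ x y : Fin m → F, Ind x y →
      fam2 ρ i k w (cs s x) (cs t y) ∈ T2 := by
    have h0 : ∀ (s : F), (s = 1 ∨ s = -1) → ∀ x y : Fin m → F, Ind x y →
        fam2 ρ i k w (cs s x) (cs 1 y) ∈ T2 := by
      rintro s (rfl | rfl) x y hxy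
      · exact hP.p2 x y (Ind.ne hxy)
      · have e : cs (-1 : F) x = -cs 1 (-x) := by rw [cs_neg, neg_neg]
        rw [e, hs.fam_neg1]
        exact T2.smul_mem _ (hP.p2 _ y (Ind.ne (Ind.neg_left hxy)))
    rintro s t hs' (rfl | rfl) x y hxy
    · exact h0 s hs' x y hxy
    · have e : cs (-1 : F) y = -cs 1 (-y) := by rw [cs_neg, neg_neg]
      rw [e, hs.fam_neg2]
      exact T2.smul_mem _ (h0 s hs' x (-y) (Ind.neg_right hxy))
  have hx := Ind.ne_zero_left hxy
  have hy := Ind.ne_zero_right hxy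
  rw [mem_Tg]
  rcases tri hs.three z.1 with h | h
  · rcases tri hs.three z.2 with h' | h'
    · have e : z.1 ^ 2 + z.2 ^ 2 = 0 := by rw [h, h']; ring
      rw [e, h, h']
      exact ⟨fun _ => fam_VQ hs x y, fun e => absurd e.symm one_ne_zero,
        fun e => absurd e.symm hm0⟩
    · have e : z.1 ^ 2 + z.2 ^ 2 = 1 := by
        rcases h' with h' | h' <;> rw [h, h'] <;> ring
      rw [e, h]
      exact ⟨fun e => absurd e one_ne_zero, fun _ => hB _ h' y x hx, fun e => absurd e h1m⟩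
  · rcases tri hs.three z.2 with h' | h'
    · have e : z.1 ^ 2 + z.2 ^ 2 = 1 := by
        rcases h with h | h <;> rw [h, h'] <;> ring
      rw [e, h']
      exact ⟨fun e => absurd e one_ne_zero, fun _ => hA _ h x y hy, fun e => absurd e h1m⟩
    · have e : z.1 ^ 2 + z.2 ^ 2 = -1 := by
        rcases h with h | h <;> rcases h' with h' | h' <;> rw [h, h'] <;> linear_combination h2
      rw [e]
      exact ⟨fun e => absurd e hm0, fun e => absurd e h1m', fun _ => hC _ _ h h' x y hxy⟩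

/-- the closure submodule -/
noncomputable def Ncl (ρ : Representation ℂ (Sp (m + 1) F) V) (ψ : AddChar F ℂ)
    (T1 T2 : Submodule ℂ V) : Submodule ℂ V where
  carrier := {v | ∀ c : F, eZ ρ ψ c (ρ (ww 0) v) ∈ Tg ρ T1 T2 c}
  add_mem' {v v'} h h' := by
    intro c
    rw [map_add, map_add]
    exact Submodule.add_mem _ (h c) (h' c)
  zero_mem' := by intro c; simp
  smul_mem' d v h := by
    intro c
    rw [map_smul, map_smul]
    exact Submodule.smul_mem _ _ (h c)

theorem Tg_emb {T1 T2 : Submodule ℂ V} (hP : Pieces ρ i k w T1 T2) (g : Sp m F) {c : F} {v : V}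
    (hv : v ∈ Tg ρ T1 T2 c) : ρ (_root_.Cfsg.Agent.H495.TI.emb g) v ∈ Tg ρ T1 T2 c :=
  ⟨fun e => VQ_emb g (hv.1 e), fun e => hP.e1 g _ (hv.2.1 e), fun e => hP.e2 g _ (hv.2.2 e)⟩

theorem Ncl_emb {T1 T2 : Submodule ℂ V} (hP : Pieces ρ i k w T1 T2) (g : Sp m F) {v : V}
    (hv : v ∈ Ncl ρ ψ T1 T2) : ρ (_root_.Cfsg.Agent.H495.TI.emb g) v ∈ Ncl ρ ψ T1 T2 := by
  intro c
  rw [← rho_mul, ww_zero_comm_emb, rho_mul, eZ_emb]
  exact Tg_emb hP g (hv c)

theorem fam_Ncl (hs : Seed2 ρ ψ i k w ε δ) {T1 T2 : Submodule ℂ V} (hP : Pieces ρ i k w T1 T2)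
    {x y : Fin m → F} (hxy : Ind x y) (a b : F) :
    fam2 ρ i k w (cs a x) (cs b y) ∈ Ncl ρ ψ T1 T2 := by
  intro c
  have hg : g2 ψ (-1) (-1) ≠ 0 :=
    g2_ne_zero hs.three hs.prim (neg_ne_zero.mpr one_ne_zero) (neg_ne_zero.mpr one_ne_zero)
  refine (Submodule.smul_mem_iff _ hg).mp ?_
  rw [← map_smul, R3 hs hxy, map_sum]
  refine Submodule.sum_mem _ fun z _ => ?_
  rw [map_smul]
  refine Submodule.smul_mem _ _ ?_
  by_cases h : c = z.1 ^ 2 + z.2 ^ 2
  · rw [h, eZ_of_mem (fun s => fam_ctr hs z x y s)]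
    exact fam_Tg hs hP hxy z
  · rw [eZ_of_ne hs.prim h (fun s => fam_ctr hs z x y s)]
    exact Submodule.zero_mem _

/-- **The dimension bound in the anisotropic case.** -/
theorem aniso_le [FiniteDimensional ℂ V] (hF : Fintype.card F = 3) (hm : 2 ≤ m)
    (hψ : ψ.IsPrimitive) (hρ : ρ.IsIrreducible) (hzz : ∀ v, ρ (zz (m + 1) F) v = v)
    (hR : RkTwo ρ ψ) (hik : i ≠ k) {v : V}
    (hv : v ∈ Wt ρ ψ (TU 1 1 (Pi.single i 1) (Pi.single k 1))) (hne : v ≠ 0) :
    finrank ℂ V ≤ 2 * 3 ^ m * (3 ^ m + 1) := by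
  obtain ⟨w, ε, δ, hs⟩ := exists_seed2 hψ hF hR hik hzz hv hne
  obtain ⟨K1, j1, ω1, hω1, k1, d1, m1, n1⟩ :=
    exists_K hF hψ one_ne_zero hm hR (uFamP hs)
  obtain ⟨K2, j2, ω2, hω2, k2, d2, m2, n2⟩ :=
    exists_K hF hψ (neg_ne_zero.mpr one_ne_zero) hm hR (uFamM hs)
  have h2 := two_eq hF
  have h2n := two_ne hF
  set T1 := LL K1 with hT1
  set T2 := LL K2 with hT2
  have hP : Pieces ρ i k w T1 T2 := by
    refine ⟨fun x z hz => ?_, fun x y hxy => ?_, fun g v hv => LL_emb hω1 j1 k1 g hv,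
      fun g v hv => LL_emb hω2 j2 k2 g hv⟩
    · have h := m1 (-x) z hz
      rwa [hb_uP hs, neg_neg] at h
    · have h := m2 (x + y) (y - x) (sub_ne_zero.mpr hxy.symm)
      rw [hb_uM hs] at h
      have e1 : y - x - (x + y) = x := by
        ext l
        simp only [Pi.sub_apply, Pi.add_apply]
        linear_combination (-x l) * three_eq hF
      have e2 : -(y - x) - (x + y) = y := by
        ext l
        simp only [Pi.sub_apply, Pi.add_apply, Pi.neg_apply]
        linear_combination (-y l) * three_eq hF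
      rwa [e1, e2] at h
  -- closure
  have c1 : T1 ≤ Ncl ρ ψ T1 T2 := by
    apply n1 _ (fun g v hv => Ncl_emb hP g hv)
    intro x z hxz
    rw [hb_uP hs]
    exact fam_Ncl hs hP (Ind.neg_left hxz) 1 0
  have c2 : T2 ≤ Ncl ρ ψ T1 T2 := by
    apply n2 _ (fun g v hv => Ncl_emb hP g hv)
    intro x z hxz
    rw [hb_uM hs]
    apply fam_Ncl hs hP
    obtain ⟨p, q, hpq⟩ := hxz
    refine ⟨p, q, ?_⟩
    simp only [Pi.sub_apply, Pi.neg_apply]
    intro h0
    apply hpq
    have : (2 : F) * (x p * z q - x q * z p) = 0 := by linear_combination h0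
    exact (mul_eq_zero.mp this).resolve_left h2n
  set T := T1 ⊔ T2 with hT
  have hTN : T ≤ Ncl ρ ψ T1 T2 := sup_le c1 c2
  -- stability of `T`
  have sup_stable : ∀ g : Sp (m + 1) F, (∀ v ∈ T1, ρ g v ∈ T1) → (∀ v ∈ T2, ρ g v ∈ T2) →
      ∀ v ∈ T, ρ g v ∈ T := by
    intro g h1 h3 v hv
    have h : T ≤ T.comap (ρ g) :=
      sup_le (fun v hv => (le_sup_left : T1 ≤ T) (h1 v hv))
        (fun v hv => (le_sup_right : T2 ≤ T) (h3 v hv))
    exact h hv
  have tuu : ∀ S : Sym (m + 1) F, ∀ v ∈ T, ρ (uu S) v ∈ T := fun S =>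
    sup_stable _ (fun v hv => LL_uu hω1 j1 k1 S hv) (fun v hv => LL_uu hω2 j2 k2 S hv)
  have thb : ∀ b : Fin m → F, ∀ v ∈ T, ρ (mm (hb b)) v ∈ T := fun b =>
    sup_stable _ (fun v hv => LL_hb b hv) (fun v hv => LL_hb b hv)
  have temb : ∀ g : Sp m F, ∀ v ∈ T, ρ (_root_.Cfsg.Agent.H495.TI.emb g) v ∈ T := fun g =>
    sup_stable _ (hP.e1 g) (hP.e2 g)
  -- `ww 0 ^ 2`
  have tww : ∀ v ∈ T, ρ (ww 0) (ρ (ww 0) v) ∈ T := by
    intro v hv
    rw [← rho_mul, ww_sq]
    have e : (ht 0 (-1) : GL (Fin (m + 1)) F) =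
        (-1 : GL (Fin (m + 1)) F) * upG (-1 : GL (Fin m) F) := by
      apply Units.ext
      rw [Units.val_mul, upG_coe, ht_coe, Units.val_neg (1 : GL (Fin (m + 1)) F),
        Units.val_neg (1 : GL (Fin m) F), Units.val_one, Units.val_one, Units.val_neg,
        Units.val_one, neg_one_mul]
      refine up_ext ?_ ?_ ?_ ?_
      · simp [Matrix.neg_apply]
      · intro l
        simp [(Fin.succ_ne_zero l).symm]
      · intro l
        simp [Matrix.single_apply, (Fin.succ_ne_zero l).symm]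
      · intro a b
        simp [Matrix.one_apply, Matrix.single_apply, (Fin.succ_ne_zero _).symm]
    rw [e, map_mul, rho_mul]
    have h4 : ∀ w, ρ (mm (-1 : GL (Fin (m + 1)) F)) w = w := hzz
    rw [h4, ← emb_mm]
    exact temb _ v hv
  -- the third piece
  set Y : Submodule ℂ V := T.map ((eZ ρ ψ 0) ∘ₗ (ρ (ww 0))) with hY
  have hYm : ∀ v ∈ T, eZ ρ ψ 0 (ρ (ww 0) v) ∈ Y := fun v hv => ⟨v, hv, rfl⟩
  have hYQ : ∀ y ∈ Y, y ∈ VQ ρ := by
    rintro _ ⟨v, hv, rfl⟩
    exact (hTN hv 0).1 rfl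
  have yemb : ∀ g : Sp m F, ∀ y ∈ Y, ρ (_root_.Cfsg.Agent.H495.TI.emb g) y ∈ Y := by
    rintro g _ ⟨v, hv, rfl⟩
    refine ⟨ρ (_root_.Cfsg.Agent.H495.TI.emb g) v, temb g v hv, ?_⟩
    show eZ ρ ψ 0 (ρ (ww 0) (ρ (_root_.Cfsg.Agent.H495.TI.emb g) v)) = ρ (_root_.Cfsg.Agent.H495.TI.emb g) (eZ ρ ψ 0 (ρ (ww 0) v))
    rw [← rho_mul, ww_zero_comm_emb, rho_mul, eZ_emb]
  have yuu : ∀ S : Sym (m + 1) F, ∀ y ∈ Y, ρ (uu S) y ∈ Y := by
    intro S y hy
    obtain ⟨a, s, S', rfl⟩ := sym_decomp S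
    rw [uu_add, rho_mul, ← emb_uu, ← qq_zero_right, hYQ _ (yemb _ y hy)]
    exact yemb _ y hy
  have yhb : ∀ b : Fin m → F, ∀ y ∈ Y, ρ (mm (hb b)) y ∈ Y := by
    intro b y hy
    rw [← qq_zero_left, hYQ _ hy]
    exact hy
  set U := T ⊔ Y with hU
  have hTU : T ≤ U := le_sup_left
  have hYU : Y ≤ U := le_sup_right
  have stab : ∀ g : Sp (m + 1) F, (∀ v ∈ T, ρ g v ∈ T) → (∀ v ∈ Y, ρ g v ∈ Y) →
      ∀ v ∈ U, ρ g v ∈ U := by
    intro g h1 h3 v hv
    have h : U ≤ U.comap (ρ g) :=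
      sup_le (fun v hv => hTU (h1 v hv)) (fun v hv => hYU (h3 v hv))
    exact h hv
  have huniv : ∀ c : F, c = 0 ∨ c = 1 ∨ c = -1 := tri hF
  have hwT : ∀ v ∈ T, ρ (ww 0) v ∈ U := by
    intro v hv
    rw [← sum_eZ hψ (ρ (ww 0) v)]
    refine Submodule.sum_mem _ fun c _ => ?_
    rcases huniv c with h | h | h
    · rw [h]; exact hYU (hYm v hv)
    · exact hTU ((le_sup_left : T1 ≤ T) ((hTN hv c).2.1 h))
    · exact hTU ((le_sup_right : T2 ≤ T) ((hTN hv c).2.2 h))
  have hwY : ∀ y ∈ Y, ρ (ww 0) y ∈ U := by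
    classical
    rintro _ ⟨v, hv, rfl⟩
    show ρ (ww 0) (eZ ρ ψ 0 (ρ (ww 0) v)) ∈ U
    have h1 : eZ ρ ψ 0 (ρ (ww 0) v) = ρ (ww 0) v -
        ∑ c ∈ Finset.univ.erase (0 : F), eZ ρ ψ c (ρ (ww 0) v) := by
      have h3 : eZ ρ ψ 0 (ρ (ww 0) v) +
          ∑ c ∈ Finset.univ.erase (0 : F), eZ ρ ψ c (ρ (ww 0) v) = ρ (ww 0) v := by
        have h4 := Finset.add_sum_erase Finset.univ (fun c : F => eZ ρ ψ c (ρ (ww 0) v))
          (Finset.mem_univ 0)
        rw [sum_eZ hψ] at h4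
        exact h4
      exact eq_sub_of_add_eq h3
    rw [h1, map_sub, map_sum]
    refine Submodule.sub_mem _ (hTU (tww v hv)) (Submodule.sum_mem _ fun c hc => ?_)
    apply hwT
    rw [Finset.mem_erase] at hc
    rcases huniv c with h | h | h
    · exact absurd h hc.1
    · exact (le_sup_left : T1 ≤ T) ((hTN hv c).2.1 h)
    · exact (le_sup_right : T2 ≤ T) ((hTN hv c).2.2 h)
  have hUst : ∀ g : Sp (m + 1) F, ∀ v ∈ U, ρ g v ∈ U := by
    apply stable_of_gen U
    · exact fun S => stab _ (tuu S) (yuu S)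
    · exact fun b => stab _ (thb b) (yhb b)
    · exact fun g => stab _ (temb g) (yemb g)
    · intro v hv
      have h : U ≤ U.comap (ρ (ww 0)) := sup_le hwT hwY
      exact h hv
  -- `U = ⊤`
  let p : Fin m := ⟨0, by omega⟩
  have hp : (Pi.single p 1 : Fin m → F) ≠ 0 := by
    intro h
    have := congrFun h p
    simp at this
  have htop : U = ⊤ := by
    apply eq_top_of_irr hρ U hUst (v := fam2 ρ i k w (cs 1 0) (cs 0 (Pi.single p 1)))
    · exact hTU ((le_sup_left : T1 ≤ T) (hP.p1 0 _ hp))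
    · exact hs.fam_ne_zero (ind_cs' one_ne_zero 0 hp)
  have f1 := finrank_LL_le K1
  have f2 := finrank_LL_le K2
  have f3 : finrank ℂ U = finrank ℂ V := by rw [htop, finrank_top]
  have f4 : finrank ℂ U ≤ finrank ℂ T + finrank ℂ Y := Submodule.finrank_add_le_finrank_add_finrank T Y
  have f5 : finrank ℂ T ≤ finrank ℂ T1 + finrank ℂ T2 :=
    Submodule.finrank_add_le_finrank_add_finrank T1 T2
  have f6 : finrank ℂ Y ≤ finrank ℂ T := Submodule.finrank_map_le _ _
  rw [hF] at d1 d2 f1 f2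
  have g1 : 2 * finrank ℂ T1 ≤ 3 ^ m * (3 ^ m + 1) := by
    calc 2 * finrank ℂ T1 ≤ 2 * (3 ^ m * finrank ℂ K1) := Nat.mul_le_mul_left _ f1
      _ = 3 ^ m * (2 * finrank ℂ K1) := by ring
      _ ≤ 3 ^ m * (3 ^ m + 1) := Nat.mul_le_mul_left _ d1
  have g2' : 2 * finrank ℂ T2 ≤ 3 ^ m * (3 ^ m + 1) := by
    calc 2 * finrank ℂ T2 ≤ 2 * (3 ^ m * finrank ℂ K2) := Nat.mul_le_mul_left _ f2
      _ = 3 ^ m * (2 * finrank ℂ K2) := by ring
      _ ≤ 3 ^ m * (3 ^ m + 1) := Nat.mul_le_mul_left _ d2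
  have g3 : 2 * 3 ^ m * (3 ^ m + 1) = 3 ^ m * (3 ^ m + 1) + 3 ^ m * (3 ^ m + 1) := by ring
  rw [g3]
  omega

end Cfsg.Agent.H162.Aniso

private theorem dce_f60ff8acc561 : _root_.True := by
  try have : _root_.True := by simp only [_root_.Cfsg.Agent.H162.Aniso.uP.eq_1]
  try have : _root_.True := by simp only [_root_.Cfsg.Agent.H162.Aniso.uM.eq_1]
  exact _root_.True.intro
end

-- part: H719/Quart/Exc_mg
section
prune_inst 0x2004410800020000040500000020815d00019000200801f9240d420007f302800001404c801c00004e32001000000000000050400000000a0030000003002080281004103402044e0009801007190c00000000000000000000000000041004004010000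
set_option linter.all false
open scoped Cfsg.Agent.FastGrp

-- part: H719/Quart/Base
section
/-!
# The `r`-part of the order of a simple group of Lie type in characteristic different from `r` is less than the
fourth root of the order, with a list of exceptions: tools
-/

set_option autoImplicit false

namespace Cfsg.Agent.H719.Quart

open Finset Cfsg.Agent.H902.Lte Cfsg.Agent.H902.Art

/-- the reduction to the numerator -/
theorem core {X : Sh} {p f M r : ℕ} (h : Real X p f M) (hr : r.Prime) (hrp : r ≠ p)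
    (hb : P r (num X (p ^ f)) ^ 4 * dd X (p ^ f) <
      P r (dd X (p ^ f)) ^ 4 * ((p ^ f) ^ NN X * num X (p ^ f))) : P r M ^ 4 < M := by
  have h1 := h.P_other hr hrp
  rw [← h1, ← h.eq, mul_pow] at hb
  have h2 : (P r (dd X (p ^ f)) ^ 4 * dd X (p ^ f)) * P r M ^ 4 <
      (P r (dd X (p ^ f)) ^ 4 * dd X (p ^ f)) * M := by
    calc (P r (dd X (p ^ f)) ^ 4 * dd X (p ^ f)) * P r M ^ 4 =
          P r (dd X (p ^ f)) ^ 4 * P r M ^ 4 * dd X (p ^ f) := by ring
      _ < P r (dd X (p ^ f)) ^ 4 * (dd X (p ^ f) * M) := hb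
      _ = _ := by ring
  exact Nat.lt_of_mul_lt_mul_left h2

/-- the reduction, forgetting the `r`-part of `dd` -/
theorem core' {X : Sh} {p f M r : ℕ} (h : Real X p f M) (hr : r.Prime) (hrp : r ≠ p)
    (hb : P r (num X (p ^ f)) ^ 4 * dd X (p ^ f) < (p ^ f) ^ NN X * num X (p ^ f)) :
    P r M ^ 4 < M := by
  refine core h hr hrp (lt_of_lt_of_le hb ?_)
  exact Nat.le_mul_of_pos_left _ (pow_pos (P_pos hr) 4)

/-- an inequality `c (x+1)^k < d x^K` holds for all `x ≥ Q` if it holds for `Q` -/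
theorem pw {x Q c d k K : ℕ} (hx : Q ≤ x) (hQ : 1 ≤ Q) (hkK : k ≤ K)
    (hnum : c * (Q + 1) ^ k < d * Q ^ K) : c * (x + 1) ^ k < d * x ^ K := by
  have h1 : (x + 1) * Q ≤ (Q + 1) * x := by linarith only [hx]
  have h2 : (x + 1) ^ k * Q ^ k ≤ (Q + 1) ^ k * x ^ k := by
    rw [← mul_pow, ← mul_pow]; exact Nat.pow_le_pow_left h1 k
  have hx0 : 0 < x := by omega
  obtain ⟨j, rfl⟩ := Nat.exists_eq_add_of_le hkK
  have h3 : Q ^ j ≤ x ^ j := Nat.pow_le_pow_left hx j
  have h4 : Q ^ k * (c * (x + 1) ^ k) < Q ^ k * (d * x ^ (k + j)) := by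
    calc Q ^ k * (c * (x + 1) ^ k) = c * ((x + 1) ^ k * Q ^ k) := by ring
      _ ≤ c * ((Q + 1) ^ k * x ^ k) := Nat.mul_le_mul_left _ h2
      _ = (c * (Q + 1) ^ k) * x ^ k := by ring
      _ < (d * Q ^ (k + j)) * x ^ k := Nat.mul_lt_mul_of_pos_right hnum (pow_pos hx0 _)
      _ = d * Q ^ k * x ^ k * Q ^ j := by rw [pow_add]; ring
      _ ≤ d * Q ^ k * x ^ k * x ^ j := Nat.mul_le_mul_left _ h3
      _ = Q ^ k * (d * x ^ (k + j)) := by rw [pow_add]; ring
  exact Nat.lt_of_mul_lt_mul_left h4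

theorem P_one {r : ℕ} : P r 1 = 1 := by simp [P]

theorem P_two_odd {r : ℕ} (hr : r.Prime) (hr2 : r ≠ 2) : P r 2 = 1 :=
  P_eq_one fun h => hr2 ((Nat.prime_dvd_prime_iff_eq hr Nat.prime_two).1 h)

theorem P_three_le {r : ℕ} : P r 3 ≤ 3 := P_le (by norm_num)

theorem P_four_odd {r : ℕ} (hr : r.Prime) (hr2 : r ≠ 2) : P r 4 = 1 :=
  P_eq_one fun h => hr2 ((Nat.prime_dvd_prime_iff_eq hr Nat.prime_two).1
    (hr.dvd_of_dvd_pow (show r ∣ 2 ^ 2 by simpa using h)))

theorem P_six_le {r : ℕ} (hr : r.Prime) (hr2 : r ≠ 2) : P r 6 ≤ 3 := by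
  have h : P r (2 * 3) = P r 2 * P r 3 := P_mul (by norm_num) (by norm_num)
  rw [P_two_odd hr hr2, one_mul] at h
  have h2 : P r 6 = P r 3 := h
  rw [h2]; exact P_three_le

/-- the `r`-part of `x^i - 1`, `r` odd -/
theorem facx {r : ℕ} (hr : r.Prime) (hr2 : r ≠ 2) {x : ℤ} (hx : 2 ≤ |x|) (hrx : ¬ (r : ℤ) ∣ x) {i : ℕ}
    (hi : i ≠ 0) :
    P r (x ^ i - 1).natAbs = if orderOf (x : ZMod r) ∣ i then
      P r (x ^ orderOf (x : ZMod r) - 1).natAbs * P r (i / orderOf (x : ZMod r)) else 1 := by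
  rw [P_eq_natAbs hr, lte_odd hr (hr.odd_of_ne_two hr2) hx hrx hi]
  split_ifs with h
  · rw [pow_add, ← P_eq_natAbs hr]
    congr 1
    rw [P, Nat.factorization_def _ hr]
  · rw [pow_zero]

theorem natAbs_sq {q : ℕ} (hq : 2 ≤ q) (k : ℕ) : (((q : ℤ) ^ 2) ^ k - 1).natAbs = q ^ (2 * k) - 1 := by
  have h2 : ((q : ℤ) ^ 2) ^ k - 1 = ((q ^ (2 * k) - 1 : ℕ) : ℤ) := by
    rw [Nat.cast_sub (Nat.one_le_pow _ _ (by omega)), ← pow_mul]; push_cast; rfl
  rw [h2, Int.natAbs_natCast]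

/-- the `r`-part of `q^(2k) - 1`, `r` odd -/
theorem fac {r q : ℕ} (hr : r.Prime) (hr2 : r ≠ 2) (hq : 2 ≤ q) (hrq : ¬ r ∣ q) :
    ∃ e R : ℕ, 1 ≤ e ∧ 1 ≤ R ∧ R ≤ q ^ e + 1 ∧ (e = 1 → R ≤ q + 1 ∧ r ∣ q ^ 2 - 1) ∧
      (∀ k, k ≠ 0 → P r (q ^ (2 * k) - 1) = if e ∣ k then R * P r (k / e) else 1) := by
  have hx := abs_sq_ge hq
  have hrx := not_dvd_sq hr hrq
  have he := order_pos (q := q) hr hrx
  refine ⟨orderOf (((q : ℤ) ^ 2 : ℤ) : ZMod r), P r (q ^ (2 * orderOf (((q : ℤ) ^ 2 : ℤ) : ZMod r)) - 1), he,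
    P_pos hr, P_sq_sub_one_le hr hr2 hq he, ?_, ?_⟩
  · intro h1
    have h2 := P_sq_sub_one_le hr hr2 hq he
    rw [h1, pow_one] at h2
    rw [h1]
    refine ⟨h2, ?_⟩
    have h3 : (r : ℤ) ∣ ((q : ℤ) ^ 2) ^ 1 - 1 := (dvd_pow_sub_one_iff 1).2 (by rw [h1])
    have h4 := Int.natCast_dvd.1 h3
    rwa [natAbs_sq hq] at h4
  · intro k hk
    have h1 := facx hr hr2 hx hrx hk
    rwa [natAbs_sq hq, natAbs_sq hq] at h1

/-- the `2`-part of `q^(2k) - 1`, `q` odd -/
theorem fac2 {q : ℕ} (hq : 2 ≤ q) (hodd : Odd q) {k : ℕ} (hk : k ≠ 0) :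
    P 2 (q ^ (2 * k) - 1) = P 2 (q ^ 2 - 1) * P 2 k := by
  have hq2 : ¬ 2 ∣ q := fun h => (Nat.not_even_iff_odd.2 hodd) (even_iff_two_dvd.2 h)
  have h2 := lte_two (x := (q : ℤ)) (by
    have h2 : (2 : ℤ) ≤ q := by exact_mod_cast hq
    rwa [abs_of_nonneg (by positivity)]) (not_dvd_cast (r := 2) hq2) (i := 2 * k) (by omega)
  rw [if_pos (even_two_mul _), Nat.mul_div_cancel_left _ (by norm_num)] at h2
  have h3 : ∀ k : ℕ, ((q : ℤ) ^ k - 1).natAbs = q ^ k - 1 := by
    intro k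
    have h4 : (q : ℤ) ^ k - 1 = ((q ^ k - 1 : ℕ) : ℤ) := by
      rw [Nat.cast_sub (Nat.one_le_pow _ _ (by omega))]; push_cast; rfl
    rw [h4, Int.natAbs_natCast]
  have h5 : P 2 k = 2 ^ padicValNat 2 k := by rw [P, Nat.factorization_def _ Nat.prime_two]
  rw [← h3, ← h3, P_eq_natAbs Nat.prime_two, P_eq_natAbs Nat.prime_two, h2, pow_add, h5]

/-- lower bound for the symplectic product -/
theorem prodC_ge {q : ℕ} (hq : 2 ≤ q) {m : ℕ} (hm : 1 ≤ m) :
    q ^ (m * (m + 1)) * (2 * q ^ (2 * m) + 1) ≤ 3 * (∏ i ∈ range m, (q ^ (2 * (i + 1)) - 1)) * q ^ (2 * m) := by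
  induction m, hm using Nat.le_induction with
  | base =>
    rw [Finset.prod_range_one]
    show q ^ 2 * (2 * q ^ 2 + 1) ≤ 3 * (q ^ 2 - 1) * q ^ 2
    obtain ⟨t, ht⟩ := Nat.exists_eq_add_of_le' (show 4 ≤ q ^ 2 by nlinarith)
    rw [ht]
    have : t + 4 - 1 = t + 3 := by omega
    rw [this]; nlinarith only []
  | succ m hm ih =>
    rw [Finset.prod_range_succ]
    have e1 : q ^ (2 * (m + 1)) = q ^ 2 * q ^ (2 * m) := by rw [← pow_add]; congr 1; ring
    have e2 : q ^ ((m + 1) * (m + 1 + 1)) = q ^ (m * (m + 1)) * (q ^ 2 * q ^ (2 * m)) := by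
      rw [← pow_add, ← pow_add]; congr 1; ring
    rw [e1, e2]
    have hy : 1 ≤ q ^ (2 * m) := Nat.one_le_pow _ _ (by omega)
    have hs : 4 ≤ q ^ 2 := by nlinarith only [hq]
    generalize q ^ (2 * m) = y at *
    generalize q ^ 2 = s at *
    generalize (∏ i ∈ range m, (q ^ (2 * (i + 1)) - 1)) = A at *
    generalize q ^ (m * (m + 1)) = Z at *
    have hsy : 1 ≤ s * y := Nat.mul_pos (by omega) hy
    obtain ⟨t, ht⟩ := Nat.exists_eq_add_of_le' hsy
    have h1 : (2 * y + 1) * t ≥ y * (2 * (s * y) + 1) := by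
      have h2 : (2 * y + 1) * t + (2 * y + 1) = (2 * y + 1) * (s * y) := by rw [ht]; ring
      have h3 : 4 * y ≤ s * y := Nat.mul_le_mul_right y hs
      linarith only [hy, h2, h3]
    calc Z * (s * y) * (2 * (s * y) + 1) = Z * s * (y * (2 * (s * y) + 1)) := by ring
      _ ≤ Z * s * ((2 * y + 1) * t) := Nat.mul_le_mul_left _ h1
      _ = (Z * (2 * y + 1)) * (s * t) := by ring
      _ ≤ (3 * A * y) * (s * t) := Nat.mul_le_mul_right _ ih
      _ = 3 * (A * t) * (s * y) := by ring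
      _ = 3 * (A * (s * y - 1)) * (s * y) := by rw [ht, Nat.add_sub_cancel]

theorem prodC_gt {q : ℕ} (hq : 2 ≤ q) {m : ℕ} (hm : 1 ≤ m) :
    2 * q ^ (m * (m + 1)) < 3 * (∏ i ∈ range m, (q ^ (2 * (i + 1)) - 1)) := by
  have h := prodC_ge hq hm
  have hy : 0 < q ^ (2 * m) := pow_pos (by omega) _
  have hz : 0 < q ^ (m * (m + 1)) := pow_pos (by omega) _
  have h1 : (2 * q ^ (m * (m + 1))) * q ^ (2 * m) <
      (3 * (∏ i ∈ range m, (q ^ (2 * (i + 1)) - 1))) * q ^ (2 * m) := by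
    refine lt_of_lt_of_le ?_ h
    generalize q ^ (2 * m) = y at *
    generalize q ^ (m * (m + 1)) = Z at *
    linarith only [hz]
  exact Nat.lt_of_mul_lt_mul_right h1

/-- lower bound for the linear product -/
theorem prodL_ge {q : ℕ} (hq : 2 ≤ q) {n : ℕ} (hn : 2 ≤ n) :
    q ^ (n * (n + 1) / 2 - 1) * (q ^ n + 2) ≤ 2 * (∏ i ∈ range (n - 1), (q ^ (i + 2) - 1)) * q ^ n := by
  induction n, hn using Nat.le_induction with
  | base =>
    show q ^ 2 * (q ^ 2 + 2) ≤ 2 * (∏ i ∈ range 1, (q ^ (i + 2) - 1)) * q ^ 2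
    rw [Finset.prod_range_one]
    show q ^ 2 * (q ^ 2 + 2) ≤ 2 * (q ^ 2 - 1) * q ^ 2
    obtain ⟨t, ht⟩ := Nat.exists_eq_add_of_le' (show 4 ≤ q ^ 2 by nlinarith)
    rw [ht]
    have : t + 4 - 1 = t + 3 := by omega
    rw [this]; nlinarith only []
  | succ n hn ih =>
    obtain ⟨k, rfl⟩ := Nat.exists_eq_add_of_le' (show 1 ≤ n by omega)
    rw [Nat.add_sub_cancel] at ih ⊢
    rw [Finset.prod_range_succ]
    have e0 : (k + 1 + 1) * (k + 1 + 1 + 1) / 2 = (k + 1) * (k + 1 + 1) / 2 + (k + 2) := by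
      have : (k + 1 + 1) * (k + 1 + 1 + 1) = (k + 1) * (k + 1 + 1) + 2 * (k + 2) := by ring
      rw [this, Nat.add_mul_div_left _ _ (by norm_num)]
    have e00 : 1 ≤ (k + 1) * (k + 1 + 1) / 2 := by
      rw [Nat.le_div_iff_mul_le (by norm_num)]; nlinarith only []
    have e1 : q ^ (k + 1 + 1) = q * q ^ (k + 1) := by rw [pow_succ (n := k + 1), mul_comm]
    have e2 : q ^ ((k + 1 + 1) * (k + 1 + 1 + 1) / 2 - 1) = q ^ ((k + 1) * (k + 1 + 1) / 2 - 1) * (q * q ^ (k + 1)) := by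
      rw [← e1, ← pow_add]; congr 1; omega
    rw [e2, e1]
    have hy : 4 ≤ q ^ (k + 1) := by
      calc 4 = 2 ^ 2 := by norm_num
        _ ≤ q ^ 2 := Nat.pow_le_pow_left hq 2
        _ ≤ q ^ (k + 1) := Nat.pow_le_pow_right (by omega) hn
    generalize q ^ (k + 1) = y at *
    generalize (∏ i ∈ range k, (q ^ (i + 2) - 1)) = A at *
    generalize q ^ ((k + 1) * (k + 1 + 1) / 2 - 1) = Z at *
    have hsy : 1 ≤ q * y := Nat.mul_pos (by omega) (by omega)
    obtain ⟨t, ht⟩ := Nat.exists_eq_add_of_le' hsy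
    have h1 : y * (q * y + 2) ≤ (y + 2) * t := by
      have h2 : (y + 2) * t + (y + 2) = (y + 2) * (q * y) := by rw [ht]; ring
      have h3 : 2 * y ≤ q * y := Nat.mul_le_mul_right y hq
      linarith only [hy, h2, h3]
    calc Z * (q * y) * (q * y + 2) = Z * q * (y * (q * y + 2)) := by ring
      _ ≤ Z * q * ((y + 2) * t) := Nat.mul_le_mul_left _ h1
      _ = (Z * (y + 2)) * (q * t) := by ring
      _ ≤ (2 * A * y) * (q * t) := Nat.mul_le_mul_right _ ih
      _ = 2 * (A * t) * (q * y) := by ring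
      _ = 2 * (A * (q * y - 1)) * (q * y) := by rw [ht, Nat.add_sub_cancel]

theorem numL_gt {q : ℕ} (hq : 2 ≤ q) {n : ℕ} (hn : 2 ≤ n) :
    q ^ (n * (n + 1) / 2 - 1) < 2 * num (.L n) q := by
  have h := prodL_ge hq hn
  have hy : 0 < q ^ n := pow_pos (by omega) _
  have hz : 0 < q ^ (n * (n + 1) / 2 - 1) := pow_pos (by omega) _
  have h1 : q ^ (n * (n + 1) / 2 - 1) * q ^ n < (2 * num (.L n) q) * q ^ n := by
    refine lt_of_lt_of_le ?_ h
    generalize q ^ n = y at *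
    generalize q ^ (n * (n + 1) / 2 - 1) = Z at *
    linarith only [hz]
  exact Nat.lt_of_mul_lt_mul_right h1

theorem numU_gt {q : ℕ} (hq : 2 ≤ q) {n : ℕ} (hn : 2 ≤ n) :
    q ^ (n * (n + 1) / 2 - 1) < 2 * num (.U n) q := by
  refine lt_of_lt_of_le (numL_gt hq hn) (Nat.mul_le_mul_left 2 ?_)
  refine Finset.prod_le_prod' fun i _ => ?_
  split_ifs
  · exact le_rfl
  · omega

end Cfsg.Agent.H719.Quart
end

-- part: H719/Quart/TypeC
section
/-!
# Fourth roots: the symplectic groups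
-/

set_option autoImplicit false

namespace Cfsg.Agent.H719.Quart

open Finset Cfsg.Agent.H902.Lte Cfsg.Agent.H902.Art

theorem prod_ne {q : ℕ} (hq : 2 ≤ q) (m : ℕ) : ∏ i ∈ range m, (q ^ (2 * (i + 1)) - 1) ≠ 0 :=
  Finset.prod_ne_zero_iff.2 fun i _ => sub_one_ne hq (by omega)

theorem P_prod_succ {r q : ℕ} (hq : 2 ≤ q) (m : ℕ) :
    P r (∏ i ∈ range (m + 1), (q ^ (2 * (i + 1)) - 1)) =
      P r (∏ i ∈ range m, (q ^ (2 * (i + 1)) - 1)) * P r (q ^ (2 * (m + 1)) - 1) := by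
  rw [Finset.prod_range_succ, P_mul (prod_ne hq m) (sub_one_ne hq (by omega))]

theorem P_prod_zero {r q : ℕ} : P r (∏ i ∈ range 0, (q ^ (2 * (i + 1)) - 1)) = 1 := by
  rw [Finset.prod_range_zero]; exact P_one

theorem dd_C_odd {q m : ℕ} (hodd : Odd q) : dd (.C m) q = 2 := by
  show Nat.gcd 2 (q - 1) = 2
  rcases hodd with ⟨k, hk⟩
  exact Nat.gcd_eq_left ⟨k, by omega⟩

theorem dd_C_le {q m : ℕ} : dd (.C m) q ≤ 2 := Nat.gcd_le_left _ (by norm_num)

theorem P_two_two : P 2 2 = 2 := by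
  have := P_pow_self (r := 2) (k := 1) (a := 1) Nat.prime_two (by norm_num)
  simpa using this

/-- the odd case from a bound for the `r`-part -/
theorem finC {m p f M r B : ℕ} (h : Real (.C m) p f M) (hr : r.Prime) (hrp : r ≠ p)
    (hB : P r (num (.C m) (p ^ f)) ≤ B) (hb : 3 * B ^ 4 ≤ (p ^ f) ^ (2 * m ^ 2 + m)) :
    P r M ^ 4 < M := by
  apply core' h hr hrp
  have hm : 2 ≤ m := h.ok.1
  have hq := h.q_ge
  set q := p ^ f
  have h1 := prodC_gt hq (show 1 ≤ m by omega)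
  have h2 : 3 * (P r (num (.C m) q) ^ 4 * dd (.C m) q) < 3 * (q ^ (m ^ 2) * num (.C m) q) := by
    calc 3 * (P r (num (.C m) q) ^ 4 * dd (.C m) q) ≤ 3 * (B ^ 4 * 2) :=
          Nat.mul_le_mul_left 3 (Nat.mul_le_mul (Nat.pow_le_pow_left hB 4) dd_C_le)
      _ = 2 * (3 * B ^ 4) := by ring
      _ ≤ 2 * q ^ (2 * m ^ 2 + m) := Nat.mul_le_mul_left 2 hb
      _ = q ^ (m ^ 2) * (2 * q ^ (m * (m + 1))) := by
          have : 2 * m ^ 2 + m = m ^ 2 + m * (m + 1) := by ring
          rw [this, pow_add]; ring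
      _ < q ^ (m ^ 2) * (3 * ∏ i ∈ range m, (q ^ (2 * (i + 1)) - 1)) :=
          Nat.mul_lt_mul_of_pos_left h1 (pow_pos (by omega) _)
      _ = 3 * (q ^ (m ^ 2) * num (.C m) q) := by
          show _ = 3 * (q ^ (m ^ 2) * ∏ i ∈ range m, (q ^ (2 * (i + 1)) - 1)); ring
  exact Nat.lt_of_mul_lt_mul_left h2

/-- the case `r = 2` from a bound for the `2`-part -/
theorem finC2 {m p f M B : ℕ} (h : Real (.C m) p f M) (hrp : 2 ≠ p)
    (hB : P 2 (num (.C m) (p ^ f)) ≤ B) (hb : 3 * B ^ 4 ≤ 16 * (p ^ f) ^ (2 * m ^ 2 + m)) :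
    P 2 M ^ 4 < M := by
  apply core h Nat.prime_two hrp
  have hm : 2 ≤ m := h.ok.1
  have hq := h.q_ge
  have hodd : Odd (p ^ f) := Nat.not_even_iff_odd.1 fun he =>
    h.not_dvd_q Nat.prime_two hrp he.two_dvd
  set q := p ^ f
  rw [dd_C_odd hodd, P_two_two]
  have h1 := prodC_gt hq (show 1 ≤ m by omega)
  have h2 : 3 * (P 2 (num (.C m) q) ^ 4 * 2) < 3 * (2 ^ 4 * (q ^ (m ^ 2) * num (.C m) q)) := by
    calc 3 * (P 2 (num (.C m) q) ^ 4 * 2) ≤ 3 * (B ^ 4 * 2) :=
          Nat.mul_le_mul_left 3 (Nat.mul_le_mul_right 2 (Nat.pow_le_pow_left hB 4))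
      _ = 2 * (3 * B ^ 4) := by ring
      _ ≤ 2 * (16 * q ^ (2 * m ^ 2 + m)) := Nat.mul_le_mul_left 2 hb
      _ = 2 ^ 4 * (q ^ (m ^ 2) * (2 * q ^ (m * (m + 1)))) := by
          have : 2 * m ^ 2 + m = m ^ 2 + m * (m + 1) := by ring
          rw [this, pow_add]; ring
      _ < 2 ^ 4 * (q ^ (m ^ 2) * (3 * ∏ i ∈ range m, (q ^ (2 * (i + 1)) - 1))) :=
          Nat.mul_lt_mul_of_pos_left (Nat.mul_lt_mul_of_pos_left h1 (pow_pos (by omega) _)) (by norm_num)
      _ = 3 * (2 ^ 4 * (q ^ (m ^ 2) * num (.C m) q)) := by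
          show _ = 3 * (2 ^ 4 * (q ^ (m ^ 2) * ∏ i ∈ range m, (q ^ (2 * (i + 1)) - 1))); ring
  exact Nat.lt_of_mul_lt_mul_left h2

theorem odd_q {X : Sh} {p f M : ℕ} (h : Real X p f M) (hrp : 2 ≠ p) : Odd (p ^ f) :=
  Nat.not_even_iff_odd.1 fun he => h.not_dvd_q Nat.prime_two hrp he.two_dvd

/-- parts of the symplectic products for `m = 2, 3, 4`, odd `r` -/
theorem PC2_odd {r q : ℕ} (hr : r.Prime) (hr2 : r ≠ 2) (hq : 2 ≤ q) (hrq : ¬ r ∣ q) :
    P r (num (.C 2) q) ≤ (q + 1) ^ 2 ∨ P r (num (.C 2) q) ≤ q ^ 2 + 1 := by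
  obtain ⟨e, R, he, hR1, hR, hRe, hk⟩ := fac hr hr2 hq hrq
  show P r (∏ i ∈ range 2, (q ^ (2 * (i + 1)) - 1)) ≤ _ ∨ P r (∏ i ∈ range 2, (q ^ (2 * (i + 1)) - 1)) ≤ _
  rw [P_prod_succ hq, P_prod_succ hq, P_prod_zero, hk _ (by norm_num), hk _ (by norm_num)]
  rcases Nat.lt_or_ge 2 e with h | h
  · rw [if_neg (fun hd => by have := Nat.le_of_dvd (by norm_num) hd; omega),
      if_neg (fun hd => by have := Nat.le_of_dvd (by norm_num) hd; omega)]
    right; linarith only [_root_.sq_nonneg (↑q : ℤ)]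
  · have he2 : e = 1 ∨ e = 2 := by omega
    rcases he2 with rfl | rfl
    · left
      have h2 := (hRe rfl).1
      norm_num [P_one, P_two_odd hr hr2]
      nlinarith only [hR]
    · right
      norm_num [P_one]
      exact hR

theorem PC3_odd {r q : ℕ} (hr : r.Prime) (hr2 : r ≠ 2) (hq : 2 ≤ q) (hrq : ¬ r ∣ q) :
    P r (num (.C 3) q) ≤ 3 * (q + 1) ^ 3 ∨ P r (num (.C 3) q) ≤ q ^ 3 + 1 := by
  obtain ⟨e, R, he, hR1, hR, hRe, hk⟩ := fac hr hr2 hq hrq
  show P r (∏ i ∈ range 3, (q ^ (2 * (i + 1)) - 1)) ≤ _ ∨ P r (∏ i ∈ range 3, (q ^ (2 * (i + 1)) - 1)) ≤ _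
  rw [P_prod_succ hq, P_prod_succ hq, P_prod_succ hq, P_prod_zero, hk _ (by norm_num),
    hk _ (by norm_num), hk _ (by norm_num)]
  rcases Nat.lt_or_ge 3 e with h | h
  · rw [if_neg (fun hd => by have := Nat.le_of_dvd (by norm_num) hd; omega),
      if_neg (fun hd => by have := Nat.le_of_dvd (by norm_num) hd; omega),
      if_neg (fun hd => by have := Nat.le_of_dvd (by norm_num) hd; omega)]
    right; norm_num
  · have he2 : e = 1 ∨ e = 2 ∨ e = 3 := by omega
    rcases he2 with rfl | rfl | rfl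
    · left
      have h2 := (hRe rfl).1
      have h3 := P_three_le (r := r)
      norm_num only [P_one, P_two_odd hr hr2, _root_.Cfsg.Agent.H719.Quart.P_one, _root_.mul_one, _root_.ite_true, _root_.one_mul, _root_.ge_iff_le]
      calc R * R * (R * P r 3) = P r 3 * R ^ 3 := by ring
        _ ≤ 3 * (q + 1) ^ 3 := Nat.mul_le_mul h3 (Nat.pow_le_pow_left h2 3)
    · right
      norm_num [P_one]
      have h5 : q ^ 2 ≤ q ^ 3 := Nat.pow_le_pow_right (by omega) (by norm_num)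
      omega
    · right
      norm_num [P_one]
      exact hR

theorem PC4_odd {r q : ℕ} (hr : r.Prime) (hr2 : r ≠ 2) (hq : 2 ≤ q) (hrq : ¬ r ∣ q) :
    P r (num (.C 4) q) ≤ 3 * (q + 1) ^ 4 ∨ P r (num (.C 4) q) ≤ (q ^ 2 + 1) ^ 2 ∨
      P r (num (.C 4) q) ≤ q ^ 4 + 1 := by
  obtain ⟨e, R, he, hR1, hR, hRe, hk⟩ := fac hr hr2 hq hrq
  show P r (∏ i ∈ range 4, (q ^ (2 * (i + 1)) - 1)) ≤ _ ∨ P r (∏ i ∈ range 4, (q ^ (2 * (i + 1)) - 1)) ≤ _ ∨
    P r (∏ i ∈ range 4, (q ^ (2 * (i + 1)) - 1)) ≤ _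
  rw [P_prod_succ hq, P_prod_succ hq, P_prod_succ hq, P_prod_succ hq, P_prod_zero, hk _ (by norm_num),
    hk _ (by norm_num), hk _ (by norm_num), hk _ (by norm_num)]
  rcases Nat.lt_or_ge 4 e with h | h
  · rw [if_neg (fun hd => by have := Nat.le_of_dvd (by norm_num) hd; omega),
      if_neg (fun hd => by have := Nat.le_of_dvd (by norm_num) hd; omega),
      if_neg (fun hd => by have := Nat.le_of_dvd (by norm_num) hd; omega),
      if_neg (fun hd => by have := Nat.le_of_dvd (by norm_num) hd; omega)]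
    right; right; norm_num
  · have he2 : e = 1 ∨ e = 2 ∨ e = 3 ∨ e = 4 := by omega
    rcases he2 with rfl | rfl | rfl | rfl
    · left
      have h2 := (hRe rfl).1
      have h3 := P_three_le (r := r)
      norm_num only [P_one, P_two_odd hr hr2, P_four_odd hr hr2, _root_.Cfsg.Agent.H719.Quart.P_one, _root_.mul_one, _root_.ite_true, _root_.one_mul, _root_.ge_iff_le]
      calc R * R * (R * P r 3) * R = P r 3 * R ^ 4 := by ring
        _ ≤ 3 * (q + 1) ^ 4 := Nat.mul_le_mul h3 (Nat.pow_le_pow_left h2 4)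
    · right; left
      norm_num [P_one, P_two_odd hr hr2]
      nlinarith only [hR]
    · right; right
      norm_num [P_one]
      have h5 : q ^ 3 ≤ q ^ 4 := Nat.pow_le_pow_right (by omega) (by norm_num)
      omega
    · right; right
      norm_num [P_one]
      exact hR

theorem P2_4 : P 2 4 = 4 := by
  have := P_pow_self (r := 2) (k := 2) (a := 1) Nat.prime_two (by norm_num)
  simpa using this

theorem P2_3 : P 2 3 = 1 := P_eq_one (by norm_num)

theorem PC2_two {q : ℕ} (hq : 3 ≤ q) (hodd : Odd q) : P 2 (num (.C 2) q) ≤ 8 * (q + 1) ^ 2 := by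
  show P 2 (∏ i ∈ range 2, (q ^ (2 * (i + 1)) - 1)) ≤ _
  have h1 := P_two_sq_sub_one_le hq hodd
  rw [P_prod_succ (by omega), P_prod_succ (by omega), P_prod_zero, fac2 (by omega) hodd (by norm_num),
    fac2 (by omega) hodd (by norm_num)]
  norm_num only [P_one, P_two_two, _root_.Cfsg.Agent.H719.Quart.P_one, _root_.mul_one, _root_.one_mul, _root_.Cfsg.Agent.H719.Quart.P_two_two, _root_.ge_iff_le]
  nlinarith

theorem PC3_two {q : ℕ} (hq : 3 ≤ q) (hodd : Odd q) : P 2 (num (.C 3) q) ≤ 16 * (q + 1) ^ 3 := by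
  show P 2 (∏ i ∈ range 3, (q ^ (2 * (i + 1)) - 1)) ≤ _
  have h1 := P_two_sq_sub_one_le hq hodd
  rw [P_prod_succ (by omega), P_prod_succ (by omega), P_prod_succ (by omega), P_prod_zero,
    fac2 (by omega) hodd (by norm_num), fac2 (by omega) hodd (by norm_num), fac2 (by omega) hodd (by norm_num)]
  norm_num only [P_one, P_two_two, P2_3, _root_.Cfsg.Agent.H719.Quart.P_one, _root_.mul_one, _root_.one_mul, _root_.Cfsg.Agent.H719.Quart.P_two_two, _root_.Cfsg.Agent.H719.Quart.P2_3, _root_.ge_iff_le]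
  calc P 2 (q ^ 2 - 1) * (P 2 (q ^ 2 - 1) * 2) * P 2 (q ^ 2 - 1) = 2 * P 2 (q ^ 2 - 1) ^ 3 := by ring
    _ ≤ 2 * (2 * (q + 1)) ^ 3 := Nat.mul_le_mul_left 2 (Nat.pow_le_pow_left h1 3)
    _ = 16 * (q + 1) ^ 3 := by ring

theorem PC4_two {q : ℕ} (hq : 3 ≤ q) (hodd : Odd q) : P 2 (num (.C 4) q) ≤ 128 * (q + 1) ^ 4 := by
  show P 2 (∏ i ∈ range 4, (q ^ (2 * (i + 1)) - 1)) ≤ _
  have h1 := P_two_sq_sub_one_le hq hodd
  rw [P_prod_succ (by omega), P_prod_succ (by omega), P_prod_succ (by omega), P_prod_succ (by omega), P_prod_zero,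
    fac2 (by omega) hodd (by norm_num), fac2 (by omega) hodd (by norm_num), fac2 (by omega) hodd (by norm_num),
    fac2 (by omega) hodd (by norm_num)]
  norm_num only [P_one, P_two_two, P2_3, P2_4, _root_.Cfsg.Agent.H719.Quart.P_one, _root_.mul_one, _root_.one_mul, _root_.Cfsg.Agent.H719.Quart.P_two_two, _root_.Cfsg.Agent.H719.Quart.P2_3, _root_.Cfsg.Agent.H719.Quart.P2_4, _root_.ge_iff_le]
  calc P 2 (q ^ 2 - 1) * (P 2 (q ^ 2 - 1) * 2) * P 2 (q ^ 2 - 1) * (P 2 (q ^ 2 - 1) * 4) =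
        8 * P 2 (q ^ 2 - 1) ^ 4 := by ring
    _ ≤ 8 * (2 * (q + 1)) ^ 4 := Nat.mul_le_mul_left 8 (Nat.pow_le_pow_left h1 4)
    _ = 128 * (q + 1) ^ 4 := by ring

/-- from `a < b` in the form needed -/
theorem quart_of_le {B c k q K Q : ℕ} (hq : Q ≤ q) (hQ : 1 ≤ Q) {a x : ℕ} (hB : B ≤ a * (x + 1) ^ k)
    (hx : x = q) (hkK : 4 * k ≤ K) (hnum : c * a ^ 4 * (Q + 1) ^ (4 * k) < Q ^ K) : c * B ^ 4 ≤ q ^ K := by
  subst hx
  have h1 := pw (x := x) (Q := Q) (c := c * a ^ 4) (d := 1) (k := 4 * k) (K := K) hq hQ hkK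
    (by rw [one_mul]; exact hnum)
  calc c * B ^ 4 ≤ c * (a * (x + 1) ^ k) ^ 4 := Nat.mul_le_mul_left c (Nat.pow_le_pow_left hB 4)
    _ = c * a ^ 4 * (x + 1) ^ (4 * k) := by rw [mul_pow, ← pow_mul, mul_comm k 4]; ring
    _ ≤ 1 * x ^ K := h1.le
    _ = x ^ K := one_mul _

/-- `C₃` -/
theorem quart_C3 {p f M r : ℕ} (h : Real (.C 3) p f M) (h2 : p ^ f ≠ 2) (h3 : p ^ f ≠ 3) (hr : r.Prime)
    (hrp : r ≠ p) : P r M ^ 4 < M := by
  have hq := h.q_ge
  have hrq := h.not_dvd_q hr hrp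
  by_cases hr2 : r = 2
  · subst hr2
    have hodd := odd_q h hrp
    have hq5 : 5 ≤ p ^ f := by
      rcases hodd with ⟨k, hk⟩; (clear * - h3 hq hk; omega)
    refine finC2 h hrp (PC3_two (by omega) hodd) ?_
    generalize p ^ f = q at *
    have h1 := pw (x := q) (Q := 5) (c := 3 * 16 ^ 4) (d := 16) (k := 12) (K := 21) hq5 (by norm_num) (by norm_num)
      (by norm_num)
    calc 3 * (16 * (q + 1) ^ 3) ^ 4 = 3 * 16 ^ 4 * (q + 1) ^ 12 := by ring
      _ ≤ 16 * q ^ 21 := h1.le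
      _ = 16 * q ^ (2 * 3 ^ 2 + 3) := by norm_num
  · have hq3 : 3 ≤ p ^ f := by omega
    rcases PC3_odd hr hr2 hq hrq with h1 | h1
    · refine finC h hr hrp h1 ?_
      generalize p ^ f = q at *
      exact quart_of_le (a := 3) (k := 3) (x := q) hq3 (by norm_num) le_rfl rfl (by norm_num) (by norm_num)
    · refine finC h hr hrp h1 ?_
      generalize p ^ f = q at *
      have hq27 : 27 ≤ q ^ 3 := by
        calc 27 = 3 ^ 3 := by norm_num
          _ ≤ q ^ 3 := Nat.pow_le_pow_left hq3 3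
      have h5 : 3 * (q ^ 3 + 1) ^ 4 ≤ (q ^ 3) ^ 7 :=
        quart_of_le (a := 1) (k := 1) (x := q ^ 3) hq27 (by norm_num) (by ring_nf; exact le_rfl) rfl
          (by norm_num) (by norm_num)
      calc 3 * (q ^ 3 + 1) ^ 4 ≤ (q ^ 3) ^ 7 := h5
        _ = q ^ (2 * 3 ^ 2 + 3) := by rw [← pow_mul]; norm_num

/-- `C₄` -/
theorem quart_C4 {p f M r : ℕ} (h : Real (.C 4) p f M) (h3 : p ^ f ≠ 3) (hr : r.Prime)
    (hrp : r ≠ p) : P r M ^ 4 < M := by
  have hq := h.q_ge
  have hrq := h.not_dvd_q hr hrp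
  by_cases hr2 : r = 2
  · subst hr2
    have hodd := odd_q h hrp
    have hq5 : 5 ≤ p ^ f := by
      rcases hodd with ⟨k, hk⟩; (clear * - h3 hq hk; omega)
    refine finC2 h hrp (PC4_two (by omega) hodd) ?_
    generalize p ^ f = q at *
    have h1 := pw (x := q) (Q := 5) (c := 3 * 128 ^ 4) (d := 16) (k := 16) (K := 36) hq5 (by norm_num) (by norm_num)
      (by norm_num)
    calc 3 * (128 * (q + 1) ^ 4) ^ 4 = 3 * 128 ^ 4 * (q + 1) ^ 16 := by ring
      _ ≤ 16 * q ^ 36 := h1.le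
      _ = 16 * q ^ (2 * 4 ^ 2 + 4) := by norm_num
  · rcases PC4_odd hr hr2 hq hrq with h1 | h1 | h1
    · refine finC h hr hrp h1 ?_
      generalize p ^ f = q at *
      exact quart_of_le (a := 3) (k := 4) (x := q) hq (by norm_num) le_rfl rfl (by norm_num) (by norm_num)
    · refine finC h hr hrp h1 ?_
      generalize p ^ f = q at *
      have hq4 : 4 ≤ q ^ 2 := by nlinarith only [hq]
      have h5 : 3 * ((q ^ 2 + 1) ^ 2) ^ 4 ≤ (q ^ 2) ^ 18 :=
        quart_of_le (a := 1) (k := 2) (x := q ^ 2) hq4 (by norm_num) (by rw [one_mul]) rfl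
          (by norm_num) (by norm_num)
      calc 3 * ((q ^ 2 + 1) ^ 2) ^ 4 ≤ (q ^ 2) ^ 18 := h5
        _ = q ^ (2 * 4 ^ 2 + 4) := by rw [← pow_mul]; norm_num
    · refine finC h hr hrp h1 ?_
      generalize p ^ f = q at *
      have hq16 : 16 ≤ q ^ 4 := by
        calc 16 = 2 ^ 4 := by norm_num
          _ ≤ q ^ 4 := Nat.pow_le_pow_left hq 4
      have h5 : 3 * (q ^ 4 + 1) ^ 4 ≤ (q ^ 4) ^ 9 :=
        quart_of_le (a := 1) (k := 1) (x := q ^ 4) hq16 (by norm_num) (by rw [one_mul, pow_one]) rfl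
          (by norm_num) (by norm_num)
      calc 3 * (q ^ 4 + 1) ^ 4 ≤ (q ^ 4) ^ 9 := h5
        _ = q ^ (2 * 4 ^ 2 + 4) := by rw [← pow_mul]; norm_num

/-- the `r`-part of the symplectic product for `r ∣ q² - 1`, `r` odd -/
theorem PC_one {r q : ℕ} (hr : r.Prime) (hr2 : r ≠ 2) (hq : 2 ≤ q) (hrq : ¬ r ∣ q) (hd : r ∣ q ^ 2 - 1)
    {m : ℕ} (hm : 1 ≤ m) :
    (P r (∏ i ∈ range m, (q ^ (2 * (i + 1)) - 1))) ^ 2 ≤ ((q + 1) ^ 2) ^ m * 3 ^ (m - 1) := by
  have hx := abs_sq_ge hq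
  have hrx := not_dvd_sq hr hrq
  have he : orderOf (((q : ℤ) ^ 2 : ℤ) : ZMod r) = 1 := by
    have h1 : (r : ℤ) ∣ ((q : ℤ) ^ 2) ^ 1 - 1 := by
      apply Int.natCast_dvd.2
      rw [natAbs_sq hq]; exact hd
    exact Nat.dvd_one.1 ((dvd_pow_sub_one_iff 1).1 h1)
  have h2 := PW_odd_sq hr hr2 hx hrx m ((q + 1) ^ 2) (by
    rw [he, natAbs_sq hq]
    have := P_sq_sub_one_le (j := 1) hr hr2 hq le_rfl
    rw [pow_one] at this
    exact Nat.pow_le_pow_left this 2) (by rw [he, Nat.div_one]; omega)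
  rwa [he, Nat.div_one, W_sq hq] at h2

/-- `q = 2`, `r = 3` -/
theorem PC_23 {m : ℕ} (hm : 1 ≤ m) : (P 3 (∏ i ∈ range m, (2 ^ (2 * (i + 1)) - 1))) ^ 4 * 9 ≤ 3 ^ (6 * m) := by
  have h := PC_one (r := 3) (q := 2) Nat.prime_three (by norm_num) (by norm_num) (by norm_num) (by norm_num) hm
  have h1 : (P 3 (∏ i ∈ range m, (2 ^ (2 * (i + 1)) - 1))) ^ 2 * 3 ≤ 3 ^ (3 * m) := by
    obtain ⟨k, rfl⟩ := Nat.exists_eq_add_of_le' hm
    rw [Nat.add_sub_cancel] at h
    calc (P 3 (∏ i ∈ range (k + 1), (2 ^ (2 * (i + 1)) - 1))) ^ 2 * 3 ≤ ((2 + 1) ^ 2) ^ (k + 1) * 3 ^ k * 3 :=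
          Nat.mul_le_mul_right 3 h
      _ = 3 ^ (3 * (k + 1)) := by
        have : (2 + 1 : ℕ) = 3 := rfl
        rw [this, mul_assoc, ← pow_succ, ← pow_mul, ← pow_add]; congr 1; ring
  calc (P 3 (∏ i ∈ range m, (2 ^ (2 * (i + 1)) - 1))) ^ 4 * 9 =
        ((P 3 (∏ i ∈ range m, (2 ^ (2 * (i + 1)) - 1))) ^ 2 * 3) ^ 2 := by ring
    _ ≤ (3 ^ (3 * m)) ^ 2 := Nat.pow_le_pow_left h1 2
    _ = 3 ^ (6 * m) := by rw [← pow_mul]; congr 1; ring

/-- `q = 3`, `r = 2` -/
theorem PC_32 {m : ℕ} (hm : 1 ≤ m) : 16 * (P 2 (∏ i ∈ range m, (3 ^ (2 * (i + 1)) - 1))) ^ 4 ≤ 2 ^ (16 * m) := by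
  have h := PC_two (q := 3) (by norm_num) (by decide) hm
  calc 16 * (P 2 (∏ i ∈ range m, (3 ^ (2 * (i + 1)) - 1))) ^ 4 =
        (2 * P 2 (∏ i ∈ range m, (3 ^ (2 * (i + 1)) - 1))) ^ 4 := by ring
    _ ≤ ((4 * (3 + 1)) ^ m) ^ 4 := Nat.pow_le_pow_left h 4
    _ = 2 ^ (16 * m) := by
      have : (4 * (3 + 1) : ℕ) = 2 ^ 4 := by norm_num
      rw [this, ← pow_mul, ← pow_mul]; congr 1; ring

theorem three_six_le (m : ℕ) : 3 ^ (6 * m) ≤ 2 ^ (10 * m) := by
  rw [pow_mul, pow_mul]; exact Nat.pow_le_pow_left (by norm_num) m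

theorem two_sixteen_le (m : ℕ) : 2 ^ (16 * m) ≤ 3 ^ (11 * m) := by
  rw [pow_mul, pow_mul]; exact Nat.pow_le_pow_left (by norm_num) m

/-- `C_m`, `m ≥ 5` -/
theorem quart_C {m p f M r : ℕ} (h : Real (.C m) p f M) (hm : 5 ≤ m) (hr : r.Prime)
    (hrp : r ≠ p) : P r M ^ 4 < M := by
  have hq := h.q_ge
  have hrq := h.not_dvd_q hr hrp
  by_cases h23 : p ^ f = 2 ∧ r = 3
  · obtain ⟨hq2, rfl⟩ := h23
    refine finC h hr hrp (B := P 3 (∏ i ∈ range m, (2 ^ (2 * (i + 1)) - 1))) ?_ ?_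
    · rw [hq2]; exact le_rfl
    · rw [hq2]
      have h1 := PC_23 (m := m) (by omega)
      have h2 := three_six_le m
      have h3 : 2 ^ (10 * m) ≤ 2 ^ (2 * m ^ 2 + m) := Nat.pow_le_pow_right (by norm_num) (by nlinarith only [hm])
      omega
  by_cases h32 : p ^ f = 3 ∧ r = 2
  · obtain ⟨hq3, rfl⟩ := h32
    refine finC2 h hrp (B := P 2 (∏ i ∈ range m, (3 ^ (2 * (i + 1)) - 1))) ?_ ?_
    · rw [hq3]; exact le_rfl
    · rw [hq3]
      have h1 := PC_32 (m := m) (by omega)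
      have h2 := two_sixteen_le m
      have h3 : 3 ^ (11 * m) ≤ 3 ^ (2 * m ^ 2 + m) := Nat.pow_le_pow_right (by norm_num) (by nlinarith only [hm])
      omega
  have h1 := Dom4.PC_le2 hr hq hrq h23 h32 m
  refine finC h hr hrp h1 ?_
  generalize p ^ f = q at *
  have h3 : 3 ≤ q ^ 2 := by nlinarith only [hq]
  calc 3 * (q ^ (2 * m)) ^ 4 ≤ q ^ 2 * (q ^ (2 * m)) ^ 4 := Nat.mul_le_mul_right _ h3
    _ = q ^ (8 * m + 2) := by rw [← pow_mul, ← pow_add]; congr 1; ring
    _ ≤ q ^ (2 * m ^ 2 + m) := Nat.pow_le_pow_right (by omega) (by nlinarith only [hm])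

theorem not_pp {p f a b : ℕ} (hp : p.Prime) (ha : a.Prime) (hb : b.Prime) (hab : a ≠ b) (h : a * b ∣ p ^ f) :
    False := by
  have h1 := (Nat.prime_dvd_prime_iff_eq ha hp).1 (ha.dvd_of_dvd_pow ((dvd_mul_right a b).trans h))
  have h2 := (Nat.prime_dvd_prime_iff_eq hb hp).1 (hb.dvd_of_dvd_pow ((dvd_mul_left b a).trans h))
  exact hab (h1.trans h2.symm)

/-- explicit instance, `r = 2` -/
theorem explicit2 {X : Sh} {p f M : ℕ} (h : Real X p f M) (hrp : 2 ≠ p) {q k c d : ℕ} (hq : p ^ f = q)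
    (hn : num X q = 2 ^ k * c) (hc : ¬ 2 ∣ c) (hd : dd X q = d)
    (hb : (2 ^ k) ^ 4 * d < P 2 d ^ 4 * (q ^ NN X * (2 ^ k * c))) : P 2 M ^ 4 < M := by
  apply core h Nat.prime_two hrp
  rw [hq, hn, hd, P_pow_self Nat.prime_two hc]
  exact hb

/-- `C₂` -/
theorem quart_C2 {p f M r : ℕ} (h : Real (.C 2) p f M) (h3 : p ^ f ≠ 3) (h5 : p ^ f ≠ 5) (h7 : p ^ f ≠ 7)
    (h9 : p ^ f ≠ 9) (h17 : p ^ f ≠ 17) (hr : r.Prime) (hrp : r ≠ p) : P r M ^ 4 < M := by
  have hq := h.q_ge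
  have hrq := h.not_dvd_q hr hrp
  have hq4 : 4 ≤ p ^ f := by
    have : 3 ≤ p ^ f := h.ok.2 rfl
    omega
  by_cases hr2 : r = 2
  · subst hr2
    have hodd := odd_q h hrp
    rcases Nat.lt_or_ge (p ^ f) 32 with h32 | h32
    · have hp := h.hp
      have hcases : p ^ f = 11 ∨ p ^ f = 13 ∨ p ^ f = 19 ∨ p ^ f = 23 ∨ p ^ f = 25 ∨ p ^ f = 27 ∨ p ^ f = 29 ∨
          p ^ f = 31 := by
        have h15 : p ^ f ≠ 15 := fun h' =>
          not_pp hp (a := 3) (b := 5) (by norm_num) (by norm_num) (by norm_num) ⟨1, by rw [h']⟩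
        have h21 : p ^ f ≠ 21 := fun h' =>
          not_pp hp (a := 3) (b := 7) (by norm_num) (by norm_num) (by norm_num) ⟨1, by rw [h']⟩
        rcases hodd with ⟨k, hk⟩
        (clear * - h5 h7 h9 h17 hq4 h32 h15 h21 hk; omega)
      rcases hcases with hx | hx | hx | hx | hx | hx | hx | hx
      · exact explicit2 h hrp hx (k := 7) (c := 13725) (d := 2) (by norm_num [num, Finset.prod_range_succ])
          (by norm_num) (dd_C_odd (by decide)) (by rw [P_two_two]; norm_num [NN])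
      · exact explicit2 h hrp hx (k := 7) (c := 37485) (d := 2) (by norm_num [num, Finset.prod_range_succ])
          (by norm_num) (dd_C_odd (by decide)) (by rw [P_two_two]; norm_num [NN])
      · exact explicit2 h hrp hx (k := 7) (c := 366525) (d := 2) (by norm_num [num, Finset.prod_range_succ])
          (by norm_num) (dd_C_odd (by decide)) (by rw [P_two_two]; norm_num [NN])
      · exact explicit2 h hrp hx (k := 9) (c := 288585) (d := 2) (by norm_num [num, Finset.prod_range_succ])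
          (by norm_num) (dd_C_odd (by decide)) (by rw [P_two_two]; norm_num [NN])
      · exact explicit2 h hrp hx (k := 9) (c := 476073) (d := 2) (by norm_num [num, Finset.prod_range_succ])
          (by norm_num) (dd_C_odd (by decide)) (by rw [P_two_two]; norm_num [NN])
      · exact explicit2 h hrp hx (k := 7) (c := 3022565) (d := 2) (by norm_num [num, Finset.prod_range_succ])
          (by norm_num) (dd_C_odd (by decide)) (by rw [P_two_two]; norm_num [NN])
      · exact explicit2 h hrp hx (k := 7) (c := 4641525) (d := 2) (by norm_num [num, Finset.prod_range_succ])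
          (by norm_num) (dd_C_odd (by decide)) (by rw [P_two_two]; norm_num [NN])
      · exact explicit2 h hrp hx (k := 13) (c := 108225) (d := 2) (by norm_num [num, Finset.prod_range_succ])
          (by norm_num) (dd_C_odd (by decide)) (by rw [P_two_two]; norm_num [NN])
    · refine finC2 h hrp (PC2_two (by omega) hodd) ?_
      generalize p ^ f = q at *
      have h1 := pw (x := q) (Q := 32) (c := 3 * 8 ^ 4) (d := 16) (k := 8) (K := 10) h32 (by norm_num) (by norm_num)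
        (by norm_num)
      calc 3 * (8 * (q + 1) ^ 2) ^ 4 = 3 * 8 ^ 4 * (q + 1) ^ 8 := by ring
        _ ≤ 16 * q ^ 10 := h1.le
        _ = 16 * q ^ (2 * 2 ^ 2 + 2) := by norm_num
  · rcases Nat.lt_or_ge (p ^ f) 5 with h5' | h5'
    · have hx : p ^ f = 4 := by omega
      apply core' h hr hrp
      have hP : P r (num (.C 2) (p ^ f)) ≤ 25 := by
        have := PC2_odd hr hr2 hq hrq
        rw [hx] at this ⊢
        omega
      have hd : dd (.C 2) (p ^ f) = 1 := by rw [hx]; rfl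
      have hn : num (.C 2) (p ^ f) = 3825 := by rw [hx]; norm_num [num, Finset.prod_range_succ]
      rw [hd, mul_one]
      calc P r (num (.C 2) (p ^ f)) ^ 4 ≤ 25 ^ 4 := Nat.pow_le_pow_left hP 4
        _ < 4 ^ 4 * 3825 := by norm_num
        _ = (p ^ f) ^ NN (.C 2) * num (.C 2) (p ^ f) := by rw [hn, hx]; rfl
    · rcases PC2_odd hr hr2 hq hrq with h1 | h1
      · refine finC h hr hrp h1 ?_
        generalize p ^ f = q at *
        exact quart_of_le (a := 1) (k := 2) (x := q) h5' (by norm_num) (by rw [one_mul]) rfl (by norm_num) (by norm_num)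
      · refine finC h hr hrp h1 ?_
        generalize p ^ f = q at *
        have hq25 : 25 ≤ q ^ 2 := by nlinarith only [h5']
        have h5 : 3 * (q ^ 2 + 1) ^ 4 ≤ (q ^ 2) ^ 5 :=
          quart_of_le (a := 1) (k := 1) (x := q ^ 2) hq25 (by norm_num) (by rw [one_mul, pow_one]) rfl
            (by norm_num) (by norm_num)
        calc 3 * (q ^ 2 + 1) ^ 4 ≤ (q ^ 2) ^ 5 := h5
          _ = q ^ (2 * 2 ^ 2 + 2) := by rw [← pow_mul]; norm_num

end Cfsg.Agent.H719.Quart
end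

-- part: H719/Quart/TypeD
section
/-!
# Fourth roots: the even-dimensional orthogonal groups
-/

set_option autoImplicit false

namespace Cfsg.Agent.H719.Quart

open Finset Cfsg.Agent.H902.Lte Cfsg.Agent.H902.Art

theorem numD_gt {q m : ℕ} (hq : 2 ≤ q) (hm : 4 ≤ m) : 5 * q ^ (m ^ 2) < 8 * num (.D m) q := by
  obtain ⟨k, rfl⟩ := Nat.exists_eq_add_of_le' (show 1 ≤ m by omega)
  have h1 := prodC_gt hq (show 1 ≤ k by omega)
  have h2 : 15 * q ^ (k + 1) ≤ 16 * (q ^ (k + 1) - 1) := by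
    have : 2 ^ 4 ≤ q ^ (k + 1) := (Nat.pow_le_pow_left hq 4).trans (Nat.pow_le_pow_right (by omega) hm)
    omega
  have h3 : (15 * q ^ (k + 1)) * (2 * q ^ (k * (k + 1))) <
      (16 * (q ^ (k + 1) - 1)) * (3 * (∏ i ∈ range k, (q ^ (2 * (i + 1)) - 1))) :=
    Nat.mul_lt_mul_of_le_of_lt h2 h1 (by
      have : 0 < q ^ (k + 1) := pow_pos (by omega) _
      omega)
  have h4 : (15 * q ^ (k + 1)) * (2 * q ^ (k * (k + 1))) = 6 * (5 * q ^ ((k + 1) ^ 2)) := by
    have : (k + 1) ^ 2 = (k + 1) + k * (k + 1) := by ring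
    rw [this, pow_add]; ring
  have h5 : (16 * (q ^ (k + 1) - 1)) * (3 * (∏ i ∈ range k, (q ^ (2 * (i + 1)) - 1))) =
      6 * (8 * num (.D (k + 1)) q) := by
    show _ = 6 * (8 * ((q ^ (k + 1) - 1) * ∏ i ∈ range k, (q ^ (2 * (i + 1)) - 1)))
    ring
  rw [h4, h5] at h3
  exact Nat.lt_of_mul_lt_mul_left h3

theorem numDD_gt {q m : ℕ} (hq : 2 ≤ q) (hm : 4 ≤ m) : 2 * q ^ (m ^ 2) < 3 * num (.DD m) q := by
  obtain ⟨k, rfl⟩ := Nat.exists_eq_add_of_le' (show 1 ≤ m by omega)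
  have h1 := prodC_gt hq (show 1 ≤ k by omega)
  have h3 : q ^ (k + 1) * (2 * q ^ (k * (k + 1))) <
      (q ^ (k + 1) + 1) * (3 * (∏ i ∈ range k, (q ^ (2 * (i + 1)) - 1))) :=
    Nat.mul_lt_mul_of_le_of_lt (by omega) h1 (by omega)
  have h4 : q ^ (k + 1) * (2 * q ^ (k * (k + 1))) = 2 * q ^ ((k + 1) ^ 2) := by
    have : (k + 1) ^ 2 = (k + 1) + k * (k + 1) := by ring
    rw [this, pow_add]; ring
  have h5 : (q ^ (k + 1) + 1) * (3 * (∏ i ∈ range k, (q ^ (2 * (i + 1)) - 1))) =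
      3 * num (.DD (k + 1)) q := by
    show _ = 3 * ((q ^ (k + 1) + 1) * ∏ i ∈ range k, (q ^ (2 * (i + 1)) - 1))
    ring
  rwa [h4, h5] at h3

theorem dd_D_le {q m : ℕ} : dd (.D m) q ≤ 4 := Nat.gcd_le_left _ (by norm_num)

theorem dd_DD_le {q m : ℕ} : dd (.DD m) q ≤ 4 := Nat.gcd_le_left _ (by norm_num)

theorem finD {m p f M r B : ℕ} (h : Real (.D m) p f M) (hr : r.Prime) (hrp : r ≠ p)
    (hB : P r (num (.D m) (p ^ f)) ≤ B) (hb : 32 * B ^ 4 ≤ 5 * (p ^ f) ^ (m * (m - 1) + m ^ 2)) :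
    P r M ^ 4 < M := by
  apply core' h hr hrp
  have hm : 4 ≤ m := h.ok
  have hq := h.q_ge
  set q := p ^ f
  have h1 := numD_gt hq hm
  have h2 : 8 * (P r (num (.D m) q) ^ 4 * dd (.D m) q) < 8 * (q ^ (m * (m - 1)) * num (.D m) q) := by
    calc 8 * (P r (num (.D m) q) ^ 4 * dd (.D m) q) ≤ 8 * (B ^ 4 * 4) :=
          Nat.mul_le_mul_left 8 (Nat.mul_le_mul (Nat.pow_le_pow_left hB 4) dd_D_le)
      _ = 32 * B ^ 4 := by ring
      _ ≤ 5 * q ^ (m * (m - 1) + m ^ 2) := hb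
      _ = q ^ (m * (m - 1)) * (5 * q ^ (m ^ 2)) := by rw [pow_add]; ring
      _ < q ^ (m * (m - 1)) * (8 * num (.D m) q) :=
          Nat.mul_lt_mul_of_pos_left h1 (pow_pos (by omega) _)
      _ = 8 * (q ^ (m * (m - 1)) * num (.D m) q) := by ring
  exact Nat.lt_of_mul_lt_mul_left h2

theorem finDD {m p f M r B : ℕ} (h : Real (.DD m) p f M) (hr : r.Prime) (hrp : r ≠ p)
    (hB : P r (num (.DD m) (p ^ f)) ≤ B) (hb : 6 * B ^ 4 ≤ (p ^ f) ^ (m * (m - 1) + m ^ 2)) :
    P r M ^ 4 < M := by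
  apply core' h hr hrp
  have hm : 4 ≤ m := h.ok
  have hq := h.q_ge
  set q := p ^ f
  have h1 := numDD_gt hq hm
  have h2 : 3 * (P r (num (.DD m) q) ^ 4 * dd (.DD m) q) < 3 * (q ^ (m * (m - 1)) * num (.DD m) q) := by
    calc 3 * (P r (num (.DD m) q) ^ 4 * dd (.DD m) q) ≤ 3 * (B ^ 4 * 4) :=
          Nat.mul_le_mul_left 3 (Nat.mul_le_mul (Nat.pow_le_pow_left hB 4) dd_DD_le)
      _ = 2 * (6 * B ^ 4) := by ring
      _ ≤ 2 * q ^ (m * (m - 1) + m ^ 2) := Nat.mul_le_mul_left 2 hb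
      _ = q ^ (m * (m - 1)) * (2 * q ^ (m ^ 2)) := by rw [pow_add]; ring
      _ < q ^ (m * (m - 1)) * (3 * num (.DD m) q) :=
          Nat.mul_lt_mul_of_pos_left h1 (pow_pos (by omega) _)
      _ = 3 * (q ^ (m * (m - 1)) * num (.DD m) q) := by ring
  exact Nat.lt_of_mul_lt_mul_left h2

theorem numD_dvd {q m : ℕ} (hm : 4 ≤ m) : num (.D m) q ∣ ∏ i ∈ range m, (q ^ (2 * (i + 1)) - 1) := by
  obtain ⟨k, rfl⟩ := Nat.exists_eq_add_of_le' (show 1 ≤ m by omega)
  rw [Finset.prod_range_succ, mul_comm]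
  exact mul_dvd_mul (pow_sub_one_dvd (Dvd.intro_left 2 rfl)) dvd_rfl

theorem numDD_dvd {q m : ℕ} (hq : 2 ≤ q) (hm : 4 ≤ m) :
    num (.DD m) q ∣ ∏ i ∈ range m, (q ^ (2 * (i + 1)) - 1) := by
  obtain ⟨k, rfl⟩ := Nat.exists_eq_add_of_le' (show 1 ≤ m by omega)
  rw [Finset.prod_range_succ, mul_comm]
  exact mul_dvd_mul (pow_add_one_dvd (by omega)) dvd_rfl

/-- explicit instance -/
theorem explicit {X : Sh} {p f M r : ℕ} (h : Real X p f M) (hr : r.Prime) (hrp : r ≠ p) {q k c d : ℕ} (hq : p ^ f = q)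
    (hn : num X q = r ^ k * c) (hc : ¬ r ∣ c) (hd : dd X q ≤ d)
    (hb : (r ^ k) ^ 4 * d < q ^ NN X * (r ^ k * c)) : P r M ^ 4 < M := by
  apply core' h hr hrp
  rw [hq, hn, P_pow_self hr hc]
  exact lt_of_le_of_lt (Nat.mul_le_mul_left _ hd) hb

theorem expo {m : ℕ} (hm : 1 ≤ m) : m * (m - 1) + m ^ 2 + m = 2 * m ^ 2 := by
  obtain ⟨k, rfl⟩ := Nat.exists_eq_add_of_le' hm
  rw [Nat.add_sub_cancel]; ring

/-- `D_m`, `m ≥ 5` -/
theorem quart_D {m p f M r : ℕ} (h : Real (.D m) p f M) (hm : 5 ≤ m) (hr : r.Prime)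
    (hrp : r ≠ p) : P r M ^ 4 < M := by
  have hq := h.q_ge
  have hrq := h.not_dvd_q hr hrp
  have hex := expo (m := m) (by omega)
  have hP : P r (num (.D m) (p ^ f)) ≤ P r (∏ i ∈ range m, ((p ^ f) ^ (2 * (i + 1)) - 1)) :=
    P_mono hr (prod_ne hq m) (numD_dvd (by omega))
  by_cases h23 : p ^ f = 2 ∧ r = 3
  · obtain ⟨hq2, rfl⟩ := h23
    rcases Nat.lt_or_ge m 6 with hm6 | hm6
    · have : m = 5 := by omega
      subst this
      exact explicit h hr hrp hq2 (k := 5) (c := 92225) (d := 1) (by norm_num [num, Finset.prod_range_succ])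
        (by norm_num) (by rfl) (by norm_num [NN])
    · refine finD h hr hrp hP ?_
      rw [hq2]
      have h1 := PC_23 (m := m) (by omega)
      have h2 := three_six_le m
      have h3 : 2 ^ (10 * m) ≤ 2 ^ (m * (m - 1) + m ^ 2) := Nat.pow_le_pow_right (by norm_num) (by nlinarith only [hex, hm6])
      omega
  by_cases h32 : p ^ f = 3 ∧ r = 2
  · obtain ⟨hq3, rfl⟩ := h32
    rcases Nat.lt_or_ge m 6 with hm6 | hm6
    · have : m = 5 := by omega
      subst this
      exact explicit h hr hrp hq3 (k := 16) (c := 11286275) (d := 4) (by norm_num [num, Finset.prod_range_succ])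
        (by norm_num) dd_D_le (by norm_num [NN])
    · refine finD h hr hrp hP ?_
      rw [hq3]
      have h1 := PC_32 (m := m) (by omega)
      have h2 := two_sixteen_le m
      have h3 : 3 ^ (11 * m) ≤ 3 ^ (m * (m - 1) + m ^ 2) := Nat.pow_le_pow_right (by norm_num) (by nlinarith only [hex, hm6])
      omega
  have h1 := Dom4.PC_le2 hr hq hrq h23 h32 m
  refine finD h hr hrp (hP.trans h1) ?_
  generalize p ^ f = q at *
  have h3 : 32 ≤ q ^ 5 := by
    calc 32 = 2 ^ 5 := by norm_num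
      _ ≤ q ^ 5 := Nat.pow_le_pow_left hq 5
  calc 32 * (q ^ (2 * m)) ^ 4 ≤ q ^ 5 * (q ^ (2 * m)) ^ 4 := Nat.mul_le_mul_right _ h3
    _ = q ^ (8 * m + 5) := by rw [← pow_mul, ← pow_add]; congr 1; ring
    _ ≤ q ^ (m * (m - 1) + m ^ 2) := Nat.pow_le_pow_right (by omega) (by nlinarith only [hm, hex])
    _ ≤ 5 * q ^ (m * (m - 1) + m ^ 2) := by omega

/-- `²D_m`, `m ≥ 5` -/
theorem quart_DD {m p f M r : ℕ} (h : Real (.DD m) p f M) (hm : 5 ≤ m) (hr : r.Prime)
    (hrp : r ≠ p) : P r M ^ 4 < M := by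
  have hq := h.q_ge
  have hrq := h.not_dvd_q hr hrp
  have hex := expo (m := m) (by omega)
  have hP : P r (num (.DD m) (p ^ f)) ≤ P r (∏ i ∈ range m, ((p ^ f) ^ (2 * (i + 1)) - 1)) :=
    P_mono hr (prod_ne hq m) (numDD_dvd hq (by omega))
  by_cases h23 : p ^ f = 2 ∧ r = 3
  · obtain ⟨hq2, rfl⟩ := h23
    rcases Nat.lt_or_ge m 6 with hm6 | hm6
    · have : m = 5 := by omega
      subst this
      exact explicit h hr hrp hq2 (k := 6) (c := 32725) (d := 1) (by norm_num [num, Finset.prod_range_succ])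
        (by norm_num) (by rfl) (by norm_num [NN])
    · refine finDD h hr hrp hP ?_
      rw [hq2]
      have h1 := PC_23 (m := m) (by omega)
      have h2 := three_six_le m
      have h3 : 2 ^ (10 * m) ≤ 2 ^ (m * (m - 1) + m ^ 2) := Nat.pow_le_pow_right (by norm_num) (by nlinarith only [hex, hm6])
      omega
  by_cases h32 : p ^ f = 3 ∧ r = 2
  · obtain ⟨hq3, rfl⟩ := h32
    rcases Nat.lt_or_ge m 6 with hm6 | hm6
    · have : m = 5 := by omega
      subst this
      exact explicit h hr hrp hq3 (k := 17) (c := 5689775) (d := 4) (by norm_num [num, Finset.prod_range_succ])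
        (by norm_num) dd_DD_le (by norm_num [NN])
    · refine finDD h hr hrp hP ?_
      rw [hq3]
      have h1 := PC_32 (m := m) (by omega)
      have h2 := two_sixteen_le m
      have h3 : 3 ^ (11 * m) ≤ 3 ^ (m * (m - 1) + m ^ 2) := Nat.pow_le_pow_right (by norm_num) (by nlinarith only [hex, hm6])
      omega
  have h1 := Dom4.PC_le2 hr hq hrq h23 h32 m
  refine finDD h hr hrp (hP.trans h1) ?_
  generalize p ^ f = q at *
  have h3 : 32 ≤ q ^ 5 := by
    calc 32 = 2 ^ 5 := by norm_num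
      _ ≤ q ^ 5 := Nat.pow_le_pow_left hq 5
  calc 6 * (q ^ (2 * m)) ^ 4 ≤ q ^ 5 * (q ^ (2 * m)) ^ 4 := Nat.mul_le_mul_right _ (by omega)
    _ = q ^ (8 * m + 5) := by rw [← pow_mul, ← pow_add]; congr 1; ring
    _ ≤ q ^ (m * (m - 1) + m ^ 2) := Nat.pow_le_pow_right (by omega) (by nlinarith only [hm, hex])

theorem num_D4 {q : ℕ} (hq : 2 ≤ q) {r : ℕ} : P r (num (.D 4) q) = P r (num (.C 3) q) * P r (q ^ (2 * 2) - 1) := by
  show P r ((q ^ 4 - 1) * ∏ i ∈ range 3, (q ^ (2 * (i + 1)) - 1)) = _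
  rw [P_mul (sub_one_ne hq (by norm_num)) (prod_ne hq 3), mul_comm]
  rfl

/-- `D₄` -/
theorem quart_D4 {p f M r : ℕ} (h : Real (.D 4) p f M) (h2 : p ^ f ≠ 2) (h3 : p ^ f ≠ 3) (hr : r.Prime)
    (hrp : r ≠ p) : P r M ^ 4 < M := by
  have hq := h.q_ge
  have hrq := h.not_dvd_q hr hrp
  by_cases hr2 : r = 2
  · subst hr2
    have hodd := odd_q h hrp
    have hq5 : 5 ≤ p ^ f := by
      rcases hodd with ⟨k, hk⟩; (clear * - h3 hq hk; omega)
    apply core h hr hrp
    have hB : P 2 (num (.D 4) (p ^ f)) ≤ 64 * (p ^ f + 1) ^ 4 := by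
      rw [num_D4 hq, fac2 (by omega) hodd (by norm_num), P_two_two]
      have h1 := PC3_two (by omega) hodd
      have h5 := P_two_sq_sub_one_le (q := p ^ f) (by omega) hodd
      calc P 2 (num (.C 3) (p ^ f)) * (P 2 ((p ^ f) ^ 2 - 1) * 2) ≤
            (16 * (p ^ f + 1) ^ 3) * ((2 * (p ^ f + 1)) * 2) :=
            Nat.mul_le_mul h1 (Nat.mul_le_mul_right 2 h5)
        _ = 64 * (p ^ f + 1) ^ 4 := by ring
    have hn := numD_gt (m := 4) hq le_rfl
    have hd : dd (.D 4) (p ^ f) = 4 := by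
      show Nat.gcd 4 ((p ^ f) ^ 4 - 1) = 4
      apply Nat.gcd_eq_left
      obtain ⟨k, hk⟩ := hodd
      rw [hk]
      refine ⟨4 * k ^ 4 + 8 * k ^ 3 + 6 * k ^ 2 + 2 * k, ?_⟩
      have : (2 * k + 1) ^ 4 = 4 * (4 * k ^ 4 + 8 * k ^ 3 + 6 * k ^ 2 + 2 * k) + 1 := by ring
      rw [this, Nat.add_sub_cancel]
    rw [hd, P2_4]
    generalize p ^ f = q at *
    have h1 := pw (x := q) (Q := 5) (c := 32 * 64 ^ 4) (d := 256 * 5) (k := 16) (K := 28) hq5 (by norm_num)
      (by norm_num) (by norm_num)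
    have h6 : 8 * (P 2 (num (.D 4) q) ^ 4 * 4) < 8 * (4 ^ 4 * (q ^ 12 * num (.D 4) q)) := by
      calc 8 * (P 2 (num (.D 4) q) ^ 4 * 4) ≤ 8 * ((64 * (q + 1) ^ 4) ^ 4 * 4) :=
            Nat.mul_le_mul_left 8 (Nat.mul_le_mul_right 4 (Nat.pow_le_pow_left hB 4))
        _ = 32 * 64 ^ 4 * (q + 1) ^ 16 := by ring
        _ < 256 * 5 * q ^ 28 := h1
        _ = 4 ^ 4 * q ^ 12 * (5 * q ^ (4 ^ 2)) := by norm_num; ring
        _ ≤ 4 ^ 4 * q ^ 12 * (8 * num (.D 4) q) := Nat.mul_le_mul_left _ hn.le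
        _ = 8 * (4 ^ 4 * (q ^ 12 * num (.D 4) q)) := by ring
    exact Nat.lt_of_mul_lt_mul_left h6
  · have hq3 : 4 ≤ p ^ f := by omega
    have key : P r (num (.D 4) (p ^ f)) ≤ 3 * (p ^ f + 1) ^ 4 ∨ P r (num (.D 4) (p ^ f)) ≤ ((p ^ f) ^ 2 + 1) ^ 2 ∨
        P r (num (.D 4) (p ^ f)) ≤ (p ^ f) ^ 3 + 1 := by
      obtain ⟨e, R, he, hR1, hR, hRe, hk⟩ := fac hr hr2 hq hrq
      rw [num_D4 hq]
      show P r (∏ i ∈ range 3, ((p ^ f) ^ (2 * (i + 1)) - 1)) * _ ≤ _ ∨
        P r (∏ i ∈ range 3, ((p ^ f) ^ (2 * (i + 1)) - 1)) * _ ≤ _ ∨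
        P r (∏ i ∈ range 3, ((p ^ f) ^ (2 * (i + 1)) - 1)) * _ ≤ _
      rw [P_prod_succ hq, P_prod_succ hq, P_prod_succ hq, P_prod_zero, hk _ (by norm_num),
        hk _ (by norm_num), hk _ (by norm_num)]
      rcases Nat.lt_or_ge 3 e with h | h
      · rw [if_neg (fun hd => by have := Nat.le_of_dvd (by norm_num) hd; omega),
          if_neg (fun hd => by have := Nat.le_of_dvd (by norm_num) hd; omega),
          if_neg (fun hd => by have := Nat.le_of_dvd (by norm_num) hd; omega)]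
        right; right; norm_num
      · have he2 : e = 1 ∨ e = 2 ∨ e = 3 := by omega
        rcases he2 with rfl | rfl | rfl
        · left
          have h2 := (hRe rfl).1
          have h3 := P_three_le (r := r)
          norm_num only [P_one, P_two_odd hr hr2, _root_.Cfsg.Agent.H719.Quart.P_one, _root_.mul_one, _root_.ite_true, _root_.one_mul, _root_.ge_iff_le]
          calc R * R * (R * P r 3) * R = P r 3 * R ^ 4 := by ring
            _ ≤ 3 * (p ^ f + 1) ^ 4 := Nat.mul_le_mul h3 (Nat.pow_le_pow_left h2 4)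
        · right; left
          norm_num [P_one]
          nlinarith only [hR]
        · right; right
          norm_num [P_one]
          exact hR
    rcases key with h1 | h1 | h1
    · refine finD h hr hrp h1 ?_
      generalize p ^ f = q at *
      have h1 := pw (x := q) (Q := 4) (c := 32 * 3 ^ 4) (d := 5) (k := 16) (K := 28) hq3 (by norm_num)
        (by norm_num) (by norm_num)
      calc 32 * (3 * (q + 1) ^ 4) ^ 4 = 32 * 3 ^ 4 * (q + 1) ^ 16 := by ring
        _ ≤ 5 * q ^ 28 := h1.le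
        _ = 5 * q ^ (4 * (4 - 1) + 4 ^ 2) := by norm_num
    · refine finD h hr hrp h1 ?_
      generalize p ^ f = q at *
      have hq16 : 16 ≤ q ^ 2 := by nlinarith only [hq3]
      have h1 := pw (x := q ^ 2) (Q := 16) (c := 32) (d := 5) (k := 8) (K := 14) hq16 (by norm_num)
        (by norm_num) (by norm_num)
      calc 32 * ((q ^ 2 + 1) ^ 2) ^ 4 = 32 * (q ^ 2 + 1) ^ 8 := by ring
        _ ≤ 5 * (q ^ 2) ^ 14 := h1.le
        _ = 5 * q ^ (4 * (4 - 1) + 4 ^ 2) := by rw [← pow_mul]; norm_num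
    · refine finD h hr hrp h1 ?_
      generalize p ^ f = q at *
      have hq64 : 64 ≤ q ^ 3 := by
        calc 64 = 4 ^ 3 := by norm_num
          _ ≤ q ^ 3 := Nat.pow_le_pow_left hq3 3
      have h1 := pw (x := q ^ 3) (Q := 64) (c := 32) (d := 5) (k := 4) (K := 9) hq64 (by norm_num)
        (by norm_num) (by norm_num)
      calc 32 * (q ^ 3 + 1) ^ 4 ≤ 5 * (q ^ 3) ^ 9 := h1.le
        _ = 5 * q ^ 27 := by rw [← pow_mul]
        _ ≤ 5 * q ^ (4 * (4 - 1) + 4 ^ 2) :=
          Nat.mul_le_mul_left 5 (Nat.pow_le_pow_right (by omega) (by norm_num))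

theorem num_DD4 {q : ℕ} (hq : 2 ≤ q) {r : ℕ} : P r (num (.DD 4) q) =
    P r (q ^ (2 * 1) - 1) * P r (q ^ (2 * 3) - 1) * P r (q ^ (2 * 4) - 1) := by
  have h1 : num (.DD 4) q = (q ^ (2 * 1) - 1) * (q ^ (2 * 3) - 1) * (q ^ (2 * 4) - 1) := by
    show (q ^ 4 + 1) * ∏ i ∈ range 3, (q ^ (2 * (i + 1)) - 1) = _
    rw [Finset.prod_range_succ, Finset.prod_range_succ, Finset.prod_range_one]
    have h2 : q ^ (2 * 4) - 1 = (q ^ 4 + 1) * (q ^ 4 - 1) := by
      obtain ⟨t, ht⟩ := Nat.exists_eq_add_of_le' (Nat.one_le_pow 4 q (by omega))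
      have h8 : q ^ (2 * 4) = (t + 1) * (t + 1) := by rw [← ht, ← pow_add]
      rw [h8, ht, Nat.add_sub_cancel]
      have : (t + 1) * (t + 1) = (t + 1 + 1) * t + 1 := by ring
      rw [this, Nat.add_sub_cancel]
    rw [h2]
    show (q ^ 4 + 1) * ((q ^ 2 - 1) * (q ^ 4 - 1) * (q ^ 6 - 1)) = (q ^ 2 - 1) * (q ^ 6 - 1) * _
    ring
  rw [h1, P_mul (Nat.mul_ne_zero (sub_one_ne hq (by norm_num)) (sub_one_ne hq (by norm_num)))
    (sub_one_ne hq (by norm_num)), P_mul (sub_one_ne hq (by norm_num)) (sub_one_ne hq (by norm_num))]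

/-- `²D₄` -/
theorem quart_DD4 {p f M r : ℕ} (h : Real (.DD 4) p f M) (hr : r.Prime)
    (hrp : r ≠ p) : P r M ^ 4 < M := by
  have hq := h.q_ge
  have hrq := h.not_dvd_q hr hrp
  by_cases hr2 : r = 2
  · subst hr2
    have hodd := odd_q h hrp
    have hq3 : 3 ≤ p ^ f := by
      rcases hodd with ⟨k, hk⟩; omega
    apply core h hr hrp
    have hB : P 2 (num (.DD 4) (p ^ f)) ≤ 32 * (p ^ f + 1) ^ 3 := by
      rw [num_DD4 hq, fac2 (by omega) hodd (by norm_num), fac2 (by omega) hodd (by norm_num),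
        fac2 (by omega) hodd (by norm_num), P_one, P2_3, P2_4]
      have h5 := P_two_sq_sub_one_le (q := p ^ f) (by omega) hodd
      calc P 2 ((p ^ f) ^ 2 - 1) * 1 * (P 2 ((p ^ f) ^ 2 - 1) * 1) * (P 2 ((p ^ f) ^ 2 - 1) * 4) =
            4 * P 2 ((p ^ f) ^ 2 - 1) ^ 3 := by ring
        _ ≤ 4 * (2 * (p ^ f + 1)) ^ 3 := Nat.mul_le_mul_left 4 (Nat.pow_le_pow_left h5 3)
        _ = 32 * (p ^ f + 1) ^ 3 := by ring
    have hn := numDD_gt (m := 4) hq le_rfl
    have hd : dd (.DD 4) (p ^ f) = 2 := by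
      show Nat.gcd 4 ((p ^ f) ^ 4 + 1) = 2
      obtain ⟨k, hk⟩ := hodd
      have h1 : (p ^ f) ^ 4 + 1 = 2 + (4 * k ^ 4 + 8 * k ^ 3 + 6 * k ^ 2 + 2 * k) * 4 := by rw [hk]; ring
      rw [h1, Nat.gcd_add_mul_right_right]
      rfl
    rw [hd, P_two_two]
    generalize p ^ f = q at *
    have h1 := pw (x := q) (Q := 3) (c := 6 * 32 ^ 4) (d := 16 * 2) (k := 12) (K := 28) hq3 (by norm_num)
      (by norm_num) (by norm_num)
    have h6 : 3 * (P 2 (num (.DD 4) q) ^ 4 * 2) < 3 * (2 ^ 4 * (q ^ 12 * num (.DD 4) q)) := by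
      calc 3 * (P 2 (num (.DD 4) q) ^ 4 * 2) ≤ 3 * ((32 * (q + 1) ^ 3) ^ 4 * 2) :=
            Nat.mul_le_mul_left 3 (Nat.mul_le_mul_right 2 (Nat.pow_le_pow_left hB 4))
        _ = 6 * 32 ^ 4 * (q + 1) ^ 12 := by ring
        _ < 16 * 2 * q ^ 28 := h1
        _ = 2 ^ 4 * q ^ 12 * (2 * q ^ (4 ^ 2)) := by norm_num; ring
        _ ≤ 2 ^ 4 * q ^ 12 * (3 * num (.DD 4) q) := Nat.mul_le_mul_left _ hn.le
        _ = 3 * (2 ^ 4 * (q ^ 12 * num (.DD 4) q)) := by ring
    exact Nat.lt_of_mul_lt_mul_left h6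
  · have key : P r (num (.DD 4) (p ^ f)) ≤ 3 * (p ^ f + 1) ^ 3 ∨ P r (num (.DD 4) (p ^ f)) ≤ (p ^ f) ^ 4 + 1 := by
      obtain ⟨e, R, he, hR1, hR, hRe, hk⟩ := fac hr hr2 hq hrq
      rw [num_DD4 hq, hk _ (by norm_num), hk _ (by norm_num), hk _ (by norm_num)]
      rcases Nat.lt_or_ge 4 e with h | h
      · rw [if_neg (fun hd => by have := Nat.le_of_dvd (by norm_num) hd; omega),
          if_neg (fun hd => by have := Nat.le_of_dvd (by norm_num) hd; omega),
          if_neg (fun hd => by have := Nat.le_of_dvd (by norm_num) hd; omega)]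
        right; norm_num
      · have he2 : e = 1 ∨ e = 2 ∨ e = 3 ∨ e = 4 := by omega
        rcases he2 with rfl | rfl | rfl | rfl
        · left
          have h2 := (hRe rfl).1
          have h3 := P_three_le (r := r)
          norm_num [P_one, P_four_odd hr hr2]
          calc R * (R * P r 3) * R = P r 3 * R ^ 3 := by ring
            _ ≤ 3 * (p ^ f + 1) ^ 3 := Nat.mul_le_mul h3 (Nat.pow_le_pow_left h2 3)
        · right
          norm_num [P_two_odd hr hr2]
          have h5 : (p ^ f) ^ 2 ≤ (p ^ f) ^ 4 := Nat.pow_le_pow_right (by omega) (by norm_num)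
          omega
        · right
          norm_num [P_one]
          have h5 : (p ^ f) ^ 3 ≤ (p ^ f) ^ 4 := Nat.pow_le_pow_right (by omega) (by norm_num)
          omega
        · right
          norm_num [P_one]
          exact hR
    rcases key with h1 | h1
    · refine finDD h hr hrp h1 ?_
      generalize p ^ f = q at *
      have h1 := pw (x := q) (Q := 2) (c := 6 * 3 ^ 4) (d := 1) (k := 12) (K := 28) hq (by norm_num)
        (by norm_num) (by norm_num)
      calc 6 * (3 * (q + 1) ^ 3) ^ 4 = 6 * 3 ^ 4 * (q + 1) ^ 12 := by ring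
        _ ≤ 1 * q ^ 28 := h1.le
        _ = q ^ (4 * (4 - 1) + 4 ^ 2) := by rw [one_mul]; norm_num
    · refine finDD h hr hrp h1 ?_
      generalize p ^ f = q at *
      have hq16 : 16 ≤ q ^ 4 := by
        calc 16 = 2 ^ 4 := by norm_num
          _ ≤ q ^ 4 := Nat.pow_le_pow_left hq 4
      have h1 := pw (x := q ^ 4) (Q := 16) (c := 6) (d := 1) (k := 4) (K := 7) hq16 (by norm_num)
        (by norm_num) (by norm_num)
      calc 6 * (q ^ 4 + 1) ^ 4 ≤ 1 * (q ^ 4) ^ 7 := h1.le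
        _ = q ^ (4 * (4 - 1) + 4 ^ 2) := by rw [one_mul, ← pow_mul]; norm_num

end Cfsg.Agent.H719.Quart
end

-- part: H719/Quart/Exc
section
/-!
# Fourth roots: the exceptional groups
-/

set_option autoImplicit false

namespace Cfsg.Agent.H719.Quart

open Finset Cfsg.Agent.H902.Lte Cfsg.Agent.H902.Art

theorem eq_of_dd_one {X : Sh} {p f M : ℕ} (h : Real X p f M) (hd : ∀ q, dd X q = 1) :
    M = (p ^ f) ^ NN X * num X (p ^ f) := by
  have := h.eq
  rwa [hd, one_mul] at this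

/-- `G₂` -/
theorem quart_G2 {p f M r : ℕ} (h : Real .G2 p f M) (h3 : p ^ f ≠ 3) (hr : r.Prime)
    (hrp : r ≠ p) : P r M ^ 4 < M := by
  have hq := h.q_ge
  have hrq := h.not_dvd_q hr hrp
  have hq3 : 3 ≤ p ^ f := h.ok
  have hle := h.P_other_le hr hrp
  have hM := eq_of_dd_one h fun _ => rfl
  have hq4 : 4 ≤ p ^ f := by omega
  have hnum : 7 * (p ^ f) ^ 8 ≤ 8 * num .G2 (p ^ f) := by
    show 7 * (p ^ f) ^ 8 ≤ 8 * (((p ^ f) ^ 2 - 1) * ((p ^ f) ^ 6 - 1))
    have h1 : 15 * (p ^ f) ^ 2 ≤ 16 * ((p ^ f) ^ 2 - 1) := by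
      have : 16 ≤ (p ^ f) ^ 2 := by nlinarith only [hq4]
      omega
    have h2 : 15 * (p ^ f) ^ 6 ≤ 16 * ((p ^ f) ^ 6 - 1) := by
      have : 4 ^ 6 ≤ (p ^ f) ^ 6 := Nat.pow_le_pow_left hq4 6
      omega
    have h3 := Nat.mul_le_mul h1 h2
    have h4 : (15 * (p ^ f) ^ 2) * (15 * (p ^ f) ^ 6) = 225 * (p ^ f) ^ 8 := by ring
    have h5 : (16 * ((p ^ f) ^ 2 - 1)) * (16 * ((p ^ f) ^ 6 - 1)) = 256 * (((p ^ f) ^ 2 - 1) * ((p ^ f) ^ 6 - 1)) := by
      ring
    rw [h4, h5] at h3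
    omega
  have fin : ∀ B : ℕ, P r (num .G2 (p ^ f)) ≤ B → 8 * B ^ 4 < 7 * (p ^ f) ^ 14 → P r M ^ 4 < M := by
    intro B h1 h2
    have h4 : 8 * P r M ^ 4 < 8 * M := by
      calc 8 * P r M ^ 4 ≤ 8 * B ^ 4 := Nat.mul_le_mul_left 8 (Nat.pow_le_pow_left (hle.trans h1) 4)
        _ < 7 * (p ^ f) ^ 14 := h2
        _ = (p ^ f) ^ 6 * (7 * (p ^ f) ^ 8) := by ring
        _ ≤ (p ^ f) ^ 6 * (8 * num .G2 (p ^ f)) := Nat.mul_le_mul_left _ hnum
        _ = 8 * ((p ^ f) ^ NN .G2 * num .G2 (p ^ f)) := by show _ = 8 * ((p ^ f) ^ 6 * _); ring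
        _ = 8 * M := by rw [← hM]
    omega
  have hsplit : P r (num .G2 (p ^ f)) = P r ((p ^ f) ^ (2 * 1) - 1) * P r ((p ^ f) ^ (2 * 3) - 1) :=
    P_mul (sub_one_ne hq (by norm_num)) (sub_one_ne hq (by norm_num))
  by_cases hr2 : r = 2
  · subst hr2
    have hodd := odd_q h hrp
    have hq5 : 5 ≤ p ^ f := by
      rcases hodd with ⟨k, hk⟩; omega
    have h5 := P_two_sq_sub_one_le (q := p ^ f) (by omega) hodd
    refine fin (4 * (p ^ f + 1) ^ 2) ?_ ?_
    · rw [hsplit, fac2 hq hodd (by norm_num), fac2 hq hodd (by norm_num), P_one, P2_3]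
      nlinarith only [h5]
    · generalize p ^ f = q at *
      have h1 := pw (x := q) (Q := 5) (c := 8 * 4 ^ 4) (d := 7) (k := 8) (K := 14) hq5 (by norm_num) (by norm_num)
        (by norm_num)
      calc 8 * (4 * (q + 1) ^ 2) ^ 4 = 8 * 4 ^ 4 * (q + 1) ^ 8 := by ring
        _ < 7 * q ^ 14 := h1
  · obtain ⟨e, R, he, hR1, hR, hRe, hk⟩ := fac hr hr2 hq hrq
    rw [hsplit, hk _ (by norm_num), hk _ (by norm_num)] at fin
    by_cases h1 : e = 1
    · subst h1
      have h2 := (hRe rfl).1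
      have h3 := P_three_le (r := r)
      refine fin (3 * (p ^ f + 1) ^ 2) ?_ ?_
      · norm_num [P_one]
        calc R * (R * P r 3) = P r 3 * R ^ 2 := by ring
          _ ≤ 3 * (p ^ f + 1) ^ 2 := Nat.mul_le_mul h3 (Nat.pow_le_pow_left h2 2)
      · generalize p ^ f = q at *
        have h1 := pw (x := q) (Q := 4) (c := 8 * 3 ^ 4) (d := 7) (k := 8) (K := 14) hq4 (by norm_num) (by norm_num)
          (by norm_num)
        calc 8 * (3 * (q + 1) ^ 2) ^ 4 = 8 * 3 ^ 4 * (q + 1) ^ 8 := by ring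
          _ < 7 * q ^ 14 := h1
    · rw [if_neg (fun hd => h1 (Nat.dvd_one.1 hd)), one_mul] at fin
      by_cases h3 : e = 3
      · subst h3
        refine fin ((p ^ f) ^ 3 + 1) ?_ ?_
        · norm_num [P_one]; exact hR
        · generalize p ^ f = q at *
          have hq64 : 64 ≤ q ^ 3 := by
            calc 64 = 4 ^ 3 := by norm_num
              _ ≤ q ^ 3 := Nat.pow_le_pow_left hq4 3
          have h1 := pw (x := q ^ 3) (Q := 64) (c := 8) (d := 7 * 16) (k := 4) (K := 4) hq64 (by norm_num)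
            (by norm_num) (by norm_num)
          have hq16 : 16 ≤ q ^ 2 := by nlinarith only [hq4]
          calc 8 * (q ^ 3 + 1) ^ 4 < 7 * 16 * (q ^ 3) ^ 4 := h1
            _ ≤ 7 * q ^ 2 * (q ^ 3) ^ 4 := Nat.mul_le_mul_right _ (Nat.mul_le_mul_left 7 hq16)
            _ = 7 * q ^ 14 := by ring
      · have h4 : ¬ e ∣ 3 := fun hd => by
          rcases (Nat.dvd_prime Nat.prime_three).1 hd with h5 | h5
          · exact h1 h5
          · exact h3 h5
        rw [if_neg h4] at fin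
        refine fin 1 le_rfl ?_
        have : 4 ^ 14 ≤ (p ^ f) ^ 14 := Nat.pow_le_pow_left hq4 14
        omega

theorem dvd_iff_twelve (e : ℕ) : e ∣ 6 → e = 1 ∨ e = 2 ∨ e = 3 ∨ e = 6 := by
  intro h
  have h1 := Nat.le_of_dvd (by norm_num) h
  interval_cases e
  · omega
  · omega
  · omega
  · omega
  · norm_num at h
  · norm_num at h
  · omega

/-- `³D₄` -/
theorem quart_TD4 {p f M r : ℕ} (h : Real .TD4 p f M) (hr : r.Prime)
    (hrp : r ≠ p) : P r M ^ 4 < M := by
  have hq := h.q_ge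
  have hrq := h.not_dvd_q hr hrp
  have hle := h.P_other_le hr hrp
  have hM := eq_of_dd_one h fun _ => rfl
  have hne1 : (p ^ f) ^ 2 - 1 ≠ 0 := sub_one_ne hq (by norm_num)
  have hne2 : (p ^ f) ^ 6 - 1 ≠ 0 := sub_one_ne hq (by norm_num)
  have hne4 : (p ^ f) ^ 4 - 1 ≠ 0 := sub_one_ne hq (by norm_num)
  have hnum : 3 * (p ^ f) ^ 16 ≤ 4 * num .TD4 (p ^ f) := by
    show 3 * (p ^ f) ^ 16 ≤ 4 * (((p ^ f) ^ 2 - 1) * ((p ^ f) ^ 6 - 1) * ((p ^ f) ^ 8 + (p ^ f) ^ 4 + 1))
    generalize p ^ f = q at *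
    have h1 : 3 * q ^ 2 ≤ 4 * (q ^ 2 - 1) := by
      have : 4 ≤ q ^ 2 := by nlinarith only [hq]
      omega
    have h2 : q ^ 14 ≤ (q ^ 6 - 1) * (q ^ 8 + q ^ 4 + 1) := by
      obtain ⟨t, ht⟩ := Nat.exists_eq_add_of_le' (Nat.one_le_pow 6 q (by omega))
      have h3 : t * (q ^ 8 + q ^ 4 + 1) + (q ^ 8 + q ^ 4 + 1) = q ^ 14 + q ^ 10 + q ^ 6 := by
        have : t * (q ^ 8 + q ^ 4 + 1) + (q ^ 8 + q ^ 4 + 1) = (t + 1) * (q ^ 8 + q ^ 4 + 1) := by ring
        rw [this, ← ht]; ring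
      have h4 : q ^ 8 ≤ q ^ 10 := Nat.pow_le_pow_right (by omega) (by norm_num)
      have h5 : q ^ 4 + 1 ≤ q ^ 6 := by
        have h6 : q ^ 6 = q ^ 2 * q ^ 4 := by ring
        have h7 : 4 ≤ q ^ 2 := by nlinarith only [hq]
        have h8 : 1 ≤ q ^ 4 := Nat.one_le_pow _ _ (by omega)
        rw [h6]; nlinarith only [h7, h8]
      rw [ht, Nat.add_sub_cancel]
      omega
    calc 3 * q ^ 16 = (3 * q ^ 2) * q ^ 14 := by ring
      _ ≤ (4 * (q ^ 2 - 1)) * ((q ^ 6 - 1) * (q ^ 8 + q ^ 4 + 1)) := Nat.mul_le_mul h1 h2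
      _ = _ := by ring
  have fin : ∀ B : ℕ, P r (num .TD4 (p ^ f)) ≤ B → 4 * B ^ 4 < 3 * (p ^ f) ^ 28 → P r M ^ 4 < M := by
    intro B h1 h2
    have h4 : 4 * P r M ^ 4 < 4 * M := by
      calc 4 * P r M ^ 4 ≤ 4 * B ^ 4 := Nat.mul_le_mul_left 4 (Nat.pow_le_pow_left (hle.trans h1) 4)
        _ < 3 * (p ^ f) ^ 28 := h2
        _ = (p ^ f) ^ 12 * (3 * (p ^ f) ^ 16) := by ring
        _ ≤ (p ^ f) ^ 12 * (4 * num .TD4 (p ^ f)) := Nat.mul_le_mul_left _ hnum
        _ = 4 * ((p ^ f) ^ NN .TD4 * num .TD4 (p ^ f)) := by show _ = 4 * ((p ^ f) ^ 12 * _); ring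
        _ = 4 * M := by rw [← hM]
    omega
  have hsplit : P r (num .TD4 (p ^ f)) = P r ((p ^ f) ^ 2 - 1) * P r ((p ^ f) ^ 6 - 1) *
      P r ((p ^ f) ^ 8 + (p ^ f) ^ 4 + 1) := by
    show P r (((p ^ f) ^ 2 - 1) * ((p ^ f) ^ 6 - 1) * ((p ^ f) ^ 8 + (p ^ f) ^ 4 + 1)) = _
    rw [P_mul (Nat.mul_ne_zero hne1 hne2) (by omega), P_mul hne1 hne2]
  by_cases hr2 : r = 2
  · subst hr2
    have hodd := odd_q h hrp
    have hq3 : 3 ≤ p ^ f := by
      rcases hodd with ⟨k, hk⟩; omega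
    have h5 := P_two_sq_sub_one_le (q := p ^ f) (by omega) hodd
    have h6 := two_part_six (q := p ^ f) (by omega) hodd
    refine fin (4 * (p ^ f + 1) ^ 2) ?_ ?_
    · have h2 : Odd ((p ^ f) ^ 8 + (p ^ f) ^ 4 + 1) := by
        have h3 : Even ((p ^ f) ^ 8 + (p ^ f) ^ 4) := (hodd.pow).add_odd (hodd.pow)
        exact h3.add_one
      rw [hsplit, P_two_of_odd h2, mul_one]
      calc _ ≤ (2 * (p ^ f + 1)) * (2 * (p ^ f + 1)) := Nat.mul_le_mul h5 h6
        _ = _ := by ring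
    · generalize p ^ f = q at *
      have h1 := pw (x := q) (Q := 3) (c := 4 * 4 ^ 4) (d := 3) (k := 8) (K := 28) hq3 (by norm_num) (by norm_num)
        (by norm_num)
      calc 4 * (4 * (q + 1) ^ 2) ^ 4 = 4 * 4 ^ 4 * (q + 1) ^ 8 := by ring
        _ < 3 * q ^ 28 := h1
  · obtain ⟨e, R, he, hR1, hR, hRe, hk⟩ := fac hr hr2 hq hrq
    -- the `r`-part of `q^8 + q^4 + 1`
    have h12 : P r ((p ^ f) ^ 8 + (p ^ f) ^ 4 + 1) * P r ((p ^ f) ^ (2 * 2) - 1) = P r ((p ^ f) ^ (2 * 6) - 1) := by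
      rw [← P_mul (by omega) (sub_one_ne hq (by norm_num))]
      congr 1
      obtain ⟨t, ht⟩ := Nat.exists_eq_add_of_le' (Nat.one_le_pow 4 (p ^ f) (by omega))
      have h4 : (p ^ f) ^ 8 = (t + 1) * (t + 1) := by rw [← ht]; ring
      have h6 : (p ^ f) ^ (2 * 6) = (t + 1) * (t + 1) * (t + 1) := by rw [← ht]; ring
      have h7 : (p ^ f) ^ (2 * 2) = t + 1 := ht
      rw [h6, h7, h4]
      have : (t + 1) * (t + 1) * (t + 1) = ((t + 1) * (t + 1) + (t + 1) + 1) * t + 1 := by ring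
      rw [this, Nat.add_sub_cancel, Nat.add_sub_cancel]
    have ha : P r ((p ^ f) ^ 2 - 1) = if e ∣ 1 then R * P r (1 / e) else 1 := hk 1 (by norm_num)
    have hb : P r ((p ^ f) ^ 6 - 1) = if e ∣ 3 then R * P r (3 / e) else 1 := hk 3 (by norm_num)
    rw [hk 2 (by norm_num), hk 6 (by norm_num)] at h12
    rw [hsplit, ha, hb] at fin
    have hR0 : 0 < R := hR1
    have hq28 : 2 ^ 28 ≤ (p ^ f) ^ 28 := Nat.pow_le_pow_left hq 28
    by_cases h6 : e ∣ 6
    · rcases dvd_iff_twelve e h6 with rfl | rfl | rfl | rfl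
      · have h2 := (hRe rfl).1
        have h3 := P_three_le (r := r)
        norm_num only [P_one, P_two_odd hr hr2, _root_.mul_one, _root_.ite_true, _root_.Cfsg.Agent.H719.Quart.P_one] at h12 fin
        have h5 : P r ((p ^ f) ^ 8 + (p ^ f) ^ 4 + 1) ≤ 3 := by
          have h7 : P r ((p ^ f) ^ 8 + (p ^ f) ^ 4 + 1) * R ≤ 3 * R := by
            rw [h12, mul_comm]; exact Nat.mul_le_mul_right R (P_six_le hr hr2)
          exact Nat.le_of_mul_le_mul_right h7 hR0
        refine fin (9 * (p ^ f + 1) ^ 2) ?_ ?_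
        · calc R * (R * P r 3) * P r ((p ^ f) ^ 8 + (p ^ f) ^ 4 + 1) =
                (P r 3 * P r ((p ^ f) ^ 8 + (p ^ f) ^ 4 + 1)) * R ^ 2 := by ring
            _ ≤ (3 * 3) * (p ^ f + 1) ^ 2 := Nat.mul_le_mul (Nat.mul_le_mul h3 h5) (Nat.pow_le_pow_left h2 2)
        · generalize p ^ f = q at *
          have h1 := pw (x := q) (Q := 2) (c := 4 * 9 ^ 4) (d := 3) (k := 8) (K := 28) hq (by norm_num) (by norm_num)
            (by norm_num)
          calc 4 * (9 * (q + 1) ^ 2) ^ 4 = 4 * 9 ^ 4 * (q + 1) ^ 8 := by ring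
            _ < 3 * q ^ 28 := h1
      · norm_num only [P_one, _root_.Cfsg.Agent.H719.Quart.P_one, _root_.mul_one, _root_.ite_true, _root_.ite_false, _root_.one_mul] at h12 fin
        have h5 : P r ((p ^ f) ^ 8 + (p ^ f) ^ 4 + 1) ≤ 3 := by
          have h3 := P_three_le (r := r)
          have h7 : P r ((p ^ f) ^ 8 + (p ^ f) ^ 4 + 1) * R ≤ 3 * R := by
            rw [h12, mul_comm]; exact Nat.mul_le_mul_right R h3
          exact Nat.le_of_mul_le_mul_right h7 hR0
        exact fin 3 h5 (by omega)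
      · norm_num only [P_one, P_two_odd hr hr2, _root_.ite_false, _root_.mul_one, _root_.ite_true, _root_.Cfsg.Agent.H719.Quart.P_one, _root_.one_mul] at h12 fin
        refine fin (((p ^ f) ^ 3 + 1) ^ 2) ?_ ?_
        · rw [h12]; nlinarith only [hR]
        · generalize p ^ f = q at *
          have hq8 : 8 ≤ q ^ 3 := by
            calc 8 = 2 ^ 3 := by norm_num
              _ ≤ q ^ 3 := Nat.pow_le_pow_left hq 3
          have h1 := pw (x := q ^ 3) (Q := 8) (c := 4) (d := 48) (k := 8) (K := 8) hq8 (by norm_num)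
            (by norm_num) (by norm_num)
          have hq4 : 16 ≤ q ^ 4 := by
            calc 16 = 2 ^ 4 := by norm_num
              _ ≤ q ^ 4 := Nat.pow_le_pow_left hq 4
          calc 4 * ((q ^ 3 + 1) ^ 2) ^ 4 = 4 * (q ^ 3 + 1) ^ 8 := by ring
            _ < 48 * (q ^ 3) ^ 8 := h1
            _ ≤ 3 * q ^ 4 * (q ^ 3) ^ 8 := Nat.mul_le_mul_right _ (by omega)
            _ = 3 * q ^ 28 := by ring
      · norm_num only [P_one, _root_.ite_false, _root_.mul_one, _root_.Cfsg.Agent.H719.Quart.P_one, _root_.ite_true, _root_.one_mul] at h12 fin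
        refine fin ((p ^ f) ^ 6 + 1) ?_ ?_
        · rw [h12]; exact hR
        · generalize p ^ f = q at *
          have hq64 : 64 ≤ q ^ 6 := by
            calc 64 = 2 ^ 6 := by norm_num
              _ ≤ q ^ 6 := Nat.pow_le_pow_left hq 6
          have h1 := pw (x := q ^ 6) (Q := 64) (c := 4) (d := 48) (k := 4) (K := 4) hq64 (by norm_num)
            (by norm_num) (by norm_num)
          have hq4 : 16 ≤ q ^ 4 := by
            calc 16 = 2 ^ 4 := by norm_num
              _ ≤ q ^ 4 := Nat.pow_le_pow_left hq 4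
          calc 4 * (q ^ 6 + 1) ^ 4 < 48 * (q ^ 6) ^ 4 := h1
            _ ≤ 3 * q ^ 4 * (q ^ 6) ^ 4 := Nat.mul_le_mul_right _ (by omega)
            _ = 3 * q ^ 28 := by ring
    · have h1 : ¬ e ∣ 1 := fun hd => h6 (hd.trans (by norm_num))
      have h3 : ¬ e ∣ 3 := fun hd => h6 (hd.trans (by norm_num))
      rw [if_neg h1, if_neg h3, one_mul, one_mul] at fin
      rw [if_neg h6] at h12
      exact fin 1 (Nat.le_of_dvd one_pos (Dvd.intro _ h12)) (by omega)

/-- `²E₆` -/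
theorem quart_TE6 {p f M r : ℕ} (h : Real .TE6 p f M) (hr : r.Prime) (hrp : r ≠ p) :
    P r M ^ 4 < M := by
  have hq := h.q_ge
  have hrq := h.not_dvd_q hr hrp
  by_cases h23 : p ^ f = 2 ∧ r = 3
  · obtain ⟨hq2, rfl⟩ := h23
    exact explicit h hr hrp hq2 (k := 10) (c := 56581525) (d := 3) (by norm_num [num])
      (by norm_num) (by decide) (by norm_num [NN])
  by_cases h32 : p ^ f = 3 ∧ r = 2
  · obtain ⟨hq2, rfl⟩ := h32
    exact explicit h hr hrp hq2 (k := 19) (c := 185999899774325) (d := 1) (by norm_num [num])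
      (by norm_num) (by decide) (by norm_num [NN])
  apply core' h hr hrp
  generalize p ^ f = q at *
  have h1 : P r (num .TE6 q) ≤ q ^ (2 * 9) := by
    refine Dom4.sub_prod_le2 hr hq hrq h23 h32 {0, 4, 2, 3, 8, 5} 9 (by decide) (N := num .TE6 q) ?_
    rw [Finset.prod_insert (by decide), Finset.prod_insert (by decide),
      Finset.prod_insert (by decide), Finset.prod_insert (by decide),
      Finset.prod_insert (by decide), Finset.prod_singleton]
    show (q ^ 2 - 1) * (q ^ 5 + 1) * (q ^ 6 - 1) * (q ^ 8 - 1) * (q ^ 9 + 1) * (q ^ 12 - 1) ∣ _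
    rw [mul_assoc, mul_assoc, mul_assoc, mul_assoc]
    exact mul_dvd_mul dvd_rfl (mul_dvd_mul (pow_add_one_dvd (by omega)) (mul_dvd_mul dvd_rfl
      (mul_dvd_mul dvd_rfl (mul_dvd_mul (pow_add_one_dvd (by omega)) dvd_rfl))))
  have h2 : q ^ 42 < 16 * num .TE6 q := by
    have := Nat.mul_lt_mul'' (Nat.mul_lt_mul'' (Nat.mul_lt_mul'' (Nat.mul_lt_mul''
      (Nat.mul_lt_mul'' (Dom4.half hq (le_refl 2)) (show q ^ 5 < q ^ 5 + 1 from Nat.lt_succ_self _))
      (Dom4.half hq (by norm_num : 2 ≤ 6))) (Dom4.half hq (by norm_num : 2 ≤ 8)))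
      (show q ^ 9 < q ^ 9 + 1 from Nat.lt_succ_self _)) (Dom4.half hq (by norm_num : 2 ≤ 12))
    calc q ^ 42 = q ^ 2 * q ^ 5 * q ^ 6 * q ^ 8 * q ^ 9 * q ^ 12 := by ring
      _ < _ := this
      _ = 16 * num .TE6 q := by
        show _ = 16 * ((q ^ 2 - 1) * (q ^ 5 + 1) * (q ^ 6 - 1) * (q ^ 8 - 1) * (q ^ 9 + 1) *
          (q ^ 12 - 1))
        ring
  have h3 : dd .TE6 q ≤ 3 := Nat.gcd_le_left _ (by norm_num)
  have h48 : 48 ≤ q ^ 6 := by
    have : 2 ^ 6 ≤ q ^ 6 := Nat.pow_le_pow_left hq 6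
    omega
  have h5 : 16 * (P r (num .TE6 q) ^ 4 * dd .TE6 q) < 16 * (q ^ 36 * num .TE6 q) := by
    calc 16 * (P r (num .TE6 q) ^ 4 * dd .TE6 q) ≤ 16 * ((q ^ (2 * 9)) ^ 4 * 3) :=
          Nat.mul_le_mul_left 16 (Nat.mul_le_mul (Nat.pow_le_pow_left h1 4) h3)
      _ = 48 * q ^ 72 := by rw [← pow_mul]; ring
      _ ≤ q ^ 6 * q ^ 72 := Nat.mul_le_mul_right _ h48
      _ = q ^ 36 * q ^ 42 := by ring
      _ < q ^ 36 * (16 * num .TE6 q) := Nat.mul_lt_mul_of_pos_left h2 (pow_pos (by omega) _)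
      _ = _ := by ring
  exact Nat.lt_of_mul_lt_mul_left h5

/-- Suzuki groups -/
theorem quart_Sz {p f M r : ℕ} (h : Real .Sz p f M) (hr : r.Prime) (hrp : r ≠ p) :
    P r M ^ 4 < M := by
  have hle := h.P_other_le hr hrp
  have hM := eq_of_dd_one h fun _ => rfl
  obtain ⟨hp2, hf, hf3⟩ := h.ok
  subst hp2
  obtain ⟨m, hm⟩ := hf
  have hm1 : 1 ≤ m := by omega
  set s := 2 ^ m with hs
  have hs2 : 2 ≤ s := (show 2 = 2 ^ 1 by norm_num) ▸ Nat.pow_le_pow_right (by norm_num) hm1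
  have hq : 2 ^ f = 2 * s ^ 2 := by rw [hm, hs, pow_succ, mul_comm, pow_mul, ← pow_mul, mul_comm 2 m, pow_mul]
  rw [hq] at hle hM
  have h1 : (2 * s ^ 2) ^ 2 + 1 = (2 * s ^ 2 + 2 * s + 1) * (2 * s ^ 2 + 1 - 2 * s) := by
    have h2 : 2 * s ≤ 2 * s ^ 2 + 1 := by nlinarith only []
    zify [h2]
    ring
  have hA : 2 * s ^ 2 - 1 ≠ 0 := by
    have : 1 ≤ s ^ 2 := Nat.one_le_pow _ _ (by omega)
    omega
  have hss : s ^ 2 = s * s := sq s
  have hss2 : 2 * s ≤ s * s := Nat.mul_le_mul_right s hs2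
  have hC : 2 * s ^ 2 + 1 - 2 * s ≠ 0 := by omega
  have hbnd : ∀ N, N ≠ 0 → N ≤ 2 * s ^ 2 + 2 * s + 1 → P r N ≤ 2 * s ^ 2 + 2 * s + 1 :=
    fun N h0 h => (P_le h0).trans h
  have hrs : ¬ r ∣ s := by
    intro h
    have := hr.dvd_of_dvd_pow (hs ▸ h)
    exact hrp ((Nat.prime_dvd_prime_iff_eq hr Nat.prime_two).1 this)
  have hB : P r (num .Sz (2 * s ^ 2)) ≤ 2 * s ^ 2 + 2 * s + 1 := by
    show P r ((2 * s ^ 2 - 1) * ((2 * s ^ 2) ^ 2 + 1)) ≤ _
    by_cases h2 : r ∣ 2 * s ^ 2 - 1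
    · have h3 : ¬ r ∣ (2 * s ^ 2) ^ 2 + 1 := by
        intro h4
        have h5 : (2 * s ^ 2) ^ 2 + 1 = (2 * s ^ 2 - 1) * (2 * s ^ 2 + 1) + 2 := by
          have h6 : 1 ≤ 2 * s ^ 2 := by omega
          zify [h6]; ring
        rw [h5] at h4
        have h6 := (Nat.dvd_add_right (h2.mul_right _)).1 h4
        exact hrp ((Nat.prime_dvd_prime_iff_eq hr Nat.prime_two).1 h6)
      rw [P_mul hA (by positivity), P_eq_one h3, mul_one]
      exact hbnd _ hA (by omega)
    · rw [P_mul hA (by positivity), P_eq_one h2, one_mul, h1, P_mul (by positivity) hC]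
      by_cases h3 : r ∣ 2 * s ^ 2 + 2 * s + 1
      · have h4 : ¬ r ∣ 2 * s ^ 2 + 1 - 2 * s := by
          intro h5
          have h6 := Nat.dvd_sub h3 h5
          have h7 : 2 * s ^ 2 + 2 * s + 1 - (2 * s ^ 2 + 1 - 2 * s) = 2 * 2 * s := by (clear * - hss hss2; omega)
          rw [h7, hr.dvd_mul, hr.dvd_mul] at h6
          rcases h6 with (h6 | h6) | h6
          · exact hrp ((Nat.prime_dvd_prime_iff_eq hr Nat.prime_two).1 h6)
          · exact hrp ((Nat.prime_dvd_prime_iff_eq hr Nat.prime_two).1 h6)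
          · exact hrs h6
        rw [P_eq_one h4, mul_one]
        exact hbnd _ (by positivity) le_rfl
      · rw [P_eq_one h3, one_mul]
        exact hbnd _ hC (by omega)
  have hM2 : M = 4 * s ^ 4 * ((2 * s ^ 2 - 1) * (4 * s ^ 4 + 1)) := by
    rw [hM]
    show (2 * s ^ 2) ^ 2 * ((2 * s ^ 2 - 1) * ((2 * s ^ 2) ^ 2 + 1)) = _
    have : (2 * s ^ 2) ^ 2 = 4 * s ^ 4 := by ring
    rw [this]
  refine lt_of_le_of_lt (Nat.pow_le_pow_left (hle.trans hB) 4) ?_
  rw [hM2]
  clear_value s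
  rcases Nat.lt_or_ge s 3 with h3 | h3
  · have : s = 2 := by omega
    subst this
    norm_num
  · have h4 : 2 * s ^ 2 + 2 * s + 1 ≤ 3 * s ^ 2 := by nlinarith only [h3]
    have h5 : s ^ 2 ≤ 2 * s ^ 2 - 1 := by
      have : 1 ≤ s ^ 2 := Nat.one_le_pow _ _ (by omega)
      omega
    have h9 : 9 ≤ s ^ 2 := by nlinarith only [h3]
    have hpos : 0 < s ^ 8 := pow_pos (by omega) _
    calc (2 * s ^ 2 + 2 * s + 1) ^ 4 ≤ (3 * s ^ 2) ^ 4 := Nat.pow_le_pow_left h4 4
      _ = 81 * s ^ 8 := by ring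
      _ < 16 * 9 * s ^ 8 := by omega
      _ ≤ 16 * s ^ 2 * s ^ 8 := Nat.mul_le_mul_right _ (Nat.mul_le_mul_left 16 h9)
      _ = 4 * s ^ 4 * (s ^ 2 * (4 * s ^ 4)) := by ring
      _ ≤ 4 * s ^ 4 * ((2 * s ^ 2 - 1) * (4 * s ^ 4 + 1)) :=
        Nat.mul_le_mul_left _ (Nat.mul_le_mul h5 (by omega))

/-- Ree groups -/
theorem quart_Ree {p f M r : ℕ} (h : Real .Ree p f M) (hr : r.Prime) (hrp : r ≠ p) :
    P r M ^ 4 < M := by
  have hle := h.P_other_le hr hrp
  have hM := eq_of_dd_one h fun _ => rfl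
  obtain ⟨hp2, hf, hf3⟩ := h.ok
  subst hp2
  have hodd : Odd (3 ^ f) := Odd.pow (by decide)
  have hq27 : 27 ≤ 3 ^ f := by
    calc 27 = 3 ^ 3 := by norm_num
      _ ≤ 3 ^ f := Nat.pow_le_pow_right (by norm_num) hf3
  obtain ⟨m, hm⟩ := hf
  have hm1 : 1 ≤ m := by omega
  have hq : 3 ^ f = 3 * (3 ^ m) ^ 2 := by rw [hm, pow_succ, mul_comm, pow_mul, ← pow_mul, mul_comm 2 m, pow_mul]
  have hs3 : 3 ≤ 3 ^ m := (show 3 = 3 ^ 1 by norm_num) ▸ Nat.pow_le_pow_right (by norm_num) hm1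
  have hrs : ¬ r ∣ 3 ^ m := fun h => hrp ((Nat.prime_dvd_prime_iff_eq hr Nat.prime_three).1 (hr.dvd_of_dvd_pow h))
  have hr3 : ¬ r ∣ 3 := fun h => hrp ((Nat.prime_dvd_prime_iff_eq hr Nat.prime_three).1 h)
  generalize 3 ^ m = s at *
  generalize 3 ^ f = q at *
  have hq0 : q - 1 ≠ 0 := by omega
  have hle2 : q ≤ q ^ 2 + 1 := by nlinarith only []
  have hfac : q ^ 3 + 1 = (q + 1) * (q ^ 2 + 1 - q) := by
    zify [hle2]; ring
  have hc0 : q ^ 2 + 1 - q ≠ 0 := by
    have : q < q ^ 2 + 1 := by nlinarith only []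
    omega
  have h3s : 3 * s ≤ q := by rw [hq]; nlinarith only [hq27, hq]
  have hsplit : P r (num .Ree q) = P r (q - 1) * (P r (q + 1) * P r (q ^ 2 + 1 - q)) := by
    show P r ((q - 1) * (q ^ 3 + 1)) = _
    rw [hfac, P_mul hq0 (by (clear * - hq27 hc0; positivity)), P_mul (by omega) hc0]
  have hB : P r (num .Ree q) ≤ 2 * (q + 1) := by
    rw [hsplit]
    by_cases hr2 : r = 2
    · subst hr2
      have h4 : Odd (q ^ 2 + 1 - q) := by
        obtain ⟨k, hk⟩ := hodd
        have h5 : q ^ 2 + 1 - q = 2 * (2 * k ^ 2 + k) + 1 := by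
          rw [hk] at hle2 ⊢
          zify [hle2]; ring
        rw [h5]; exact odd_two_mul_add_one _
      rw [P_two_of_odd h4, mul_one, ← P_mul hq0 (by omega)]
      have h5 : (q - 1) * (q + 1) = q ^ 2 - 1 := by
        have h6 : 1 ≤ q := by omega
        have h7 : 1 ≤ q ^ 2 := Nat.one_le_pow _ _ (by omega)
        zify [h6, h7]; ring
      rw [h5]
      exact P_two_sq_sub_one_le (by omega) hodd
    · have h22 : ∀ a : ℕ, r ∣ a → a = 2 → False := fun a h1 h2 => by
        rw [h2] at h1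
        exact hr2 ((Nat.prime_dvd_prime_iff_eq hr Nat.prime_two).1 h1)
      by_cases h1 : r ∣ q - 1
      · have h2 : ¬ r ∣ q + 1 := fun h => h22 _ (Nat.dvd_sub h h1) (by omega)
        have h3 : ¬ r ∣ q ^ 2 + 1 - q := by
          intro h
          have h4 : q ^ 2 + 1 - q = (q - 1) * q + 1 := by
            have h6 : 1 ≤ q := by omega
            zify [h6, hle2]; ring
          rw [h4] at h
          have h5 := (Nat.dvd_add_right (h1.mul_right q)).1 h
          exact hr.one_lt.ne' (Nat.dvd_one.1 h5)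
        rw [P_eq_one h2, P_eq_one h3]
        have := P_le (r := r) hq0
        omega
      · rw [P_eq_one h1, one_mul]
        by_cases h2 : r ∣ q + 1
        · have h3 : ¬ r ∣ q ^ 2 + 1 - q := by
            intro h
            -- `(q + 1)^2 = (q^2 - q + 1) + 3 q`
            have h5 : (q + 1) * (q + 1) = (q ^ 2 + 1 - q) + 3 * q := by
              zify [hle2]; ring
            have h6 : r ∣ 3 * q := by
              have : r ∣ (q ^ 2 + 1 - q) + 3 * q := by rw [← h5]; exact h2.mul_right _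
              exact (Nat.dvd_add_right h).1 this
            rcases (hr.dvd_mul).1 h6 with h7 | h7
            · exact hr3 h7
            · have h8 := (Nat.dvd_add_right h7).1 h2
              exact hr.one_lt.ne' (Nat.dvd_one.1 h8)
          rw [P_eq_one h3, mul_one]
          have := P_le (r := r) (show q + 1 ≠ 0 by omega)
          omega
        · rw [P_eq_one h2, one_mul]
          have h3s' : 3 * s ≤ q + 1 := by omega
          have h4 : q ^ 2 + 1 - q = (q + 3 * s + 1) * (q + 1 - 3 * s) := by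
            have h5 : (3 * (s : ℤ)) ^ 2 = 3 * q := by rw [hq]; push_cast; ring
            zify [hle2, h3s']
            have h6 : ((q : ℤ) + 3 * s + 1) * (q + 1 - 3 * s) = (q + 1) ^ 2 - (3 * s) ^ 2 := by ring
            rw [h6, h5]; ring
          have h5 : q + 1 - 3 * s ≠ 0 := by omega
          rw [h4, P_mul (by omega) h5]
          by_cases h6 : r ∣ q + 3 * s + 1
          · have h7 : ¬ r ∣ q + 1 - 3 * s := by
              intro h
              have h8 := Nat.dvd_sub h6 h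
              have h9 : q + 3 * s + 1 - (q + 1 - 3 * s) = 2 * 3 * s := by (clear * - h3s; omega)
              rw [h9, hr.dvd_mul, hr.dvd_mul] at h8
              rcases h8 with (h8 | h8) | h8
              · exact h22 _ h8 rfl
              · exact hr3 h8
              · exact hrs h8
            rw [P_eq_one h7, mul_one]
            have := P_le (r := r) (show q + 3 * s + 1 ≠ 0 by omega)
            omega
          · rw [P_eq_one h6, one_mul]
            have := P_le (r := r) h5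
            (clear * - this; omega)
  have h1 : 32 * (q + 1) ^ 4 < 1 * q ^ 7 :=
    pw (x := q) (Q := 27) (c := 32) (d := 1) (k := 4) (K := 7) hq27 (by norm_num) (by norm_num) (by norm_num)
  have hM2 : M = q ^ 3 * ((q - 1) * (q ^ 3 + 1)) := hM
  have h2 : q ≤ 2 * (q - 1) := by omega
  have h3 : 2 * P r M ^ 4 < 2 * M := by
    calc 2 * P r M ^ 4 ≤ 2 * (2 * (q + 1)) ^ 4 := Nat.mul_le_mul_left 2 (Nat.pow_le_pow_left (hle.trans hB) 4)
      _ = 32 * (q + 1) ^ 4 := by ring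
      _ < 1 * q ^ 7 := h1
      _ = q ^ 3 * (q * q ^ 3) := by ring
      _ ≤ q ^ 3 * ((2 * (q - 1)) * (q ^ 3 + 1)) := Nat.mul_le_mul_left _ (Nat.mul_le_mul h2 (by omega))
      _ = 2 * M := by rw [hM2]; ring
  omega

/-- large Ree groups -/
theorem quart_TF4 {p f M r : ℕ} (h : Real .TF4 p f M) (hr : r.Prime) (hrp : r ≠ p) :
    P r M ^ 4 < M := by
  have hq := h.q_ge
  have hrq := h.not_dvd_q hr hrp
  have hle := h.P_other_le hr hrp
  have hM := eq_of_dd_one h fun _ => rfl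
  obtain ⟨hp2, hf, hf3⟩ := h.ok
  subst hp2
  have hq8 : 8 ≤ 2 ^ f := by
    calc 8 = 2 ^ 3 := by norm_num
      _ ≤ 2 ^ f := Nat.pow_le_pow_right (by norm_num) hf3
  generalize 2 ^ f = q at *
  have h1 : 1 ≤ q := by omega
  have hne1 : q - 1 ≠ 0 := by omega
  have hne4 : q ^ 4 - 1 ≠ 0 := sub_one_ne hq (by norm_num)
  have hnum : q ^ 14 ≤ 4 * num .TF4 q := by
    show q ^ 14 ≤ 4 * ((q - 1) * (q ^ 3 + 1) * (q ^ 4 - 1) * (q ^ 6 + 1))
    have h2 : q ≤ 2 * (q - 1) := by omega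
    have h3 : q ^ 4 ≤ 2 * (q ^ 4 - 1) := by
      have : 2 ^ 4 ≤ q ^ 4 := Nat.pow_le_pow_left hq 4
      omega
    calc q ^ 14 = q * q ^ 3 * q ^ 4 * q ^ 6 := by ring
      _ ≤ (2 * (q - 1)) * (q ^ 3 + 1) * (2 * (q ^ 4 - 1)) * (q ^ 6 + 1) :=
        Nat.mul_le_mul (Nat.mul_le_mul (Nat.mul_le_mul h2 (by omega)) h3) (by omega)
      _ = _ := by ring
  have fin : ∀ B : ℕ, P r (num .TF4 q) ≤ B → 4 * B ^ 4 < q ^ 26 → P r M ^ 4 < M := by
    intro B h1 h2
    have h4 : 4 * P r M ^ 4 < 4 * M := by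
      calc 4 * P r M ^ 4 ≤ 4 * B ^ 4 := Nat.mul_le_mul_left 4 (Nat.pow_le_pow_left (hle.trans h1) 4)
        _ < q ^ 26 := h2
        _ = q ^ 12 * q ^ 14 := by ring
        _ ≤ q ^ 12 * (4 * num .TF4 q) := Nat.mul_le_mul_left _ hnum
        _ = 4 * (q ^ NN .TF4 * num .TF4 q) := by show _ = 4 * (q ^ 12 * _); ring
        _ = 4 * M := by rw [← hM]
    omega
  obtain ⟨e, R, he, hR1, hR, hRe, hk⟩ := fac hr hrp hq hrq
  have hsplit : P r (num .TF4 q) ≤ P r (q ^ (2 * 1) - 1) * P r (q ^ (2 * 3) - 1) * P r (q ^ (2 * 2) - 1) *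
      P r (q ^ (2 * 6) - 1) := by
    show P r ((q - 1) * (q ^ 3 + 1) * (q ^ 4 - 1) * (q ^ 6 + 1)) ≤ _
    rw [P_mul (Nat.mul_ne_zero (Nat.mul_ne_zero hne1 (by omega)) hne4) (by omega),
      P_mul (Nat.mul_ne_zero hne1 (by omega)) hne4, P_mul hne1 (by omega)]
    refine Nat.mul_le_mul (Nat.mul_le_mul (Nat.mul_le_mul ?_ ?_) le_rfl) ?_
    · refine P_mono hr (sub_one_ne hq (by norm_num)) ?_
      have := pow_sub_one_dvd (q := q) (a := 1) (b := 2) (by norm_num)
      rwa [pow_one] at this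
    · exact P_mono hr (sub_one_ne hq (by norm_num)) (pow_add_one_dvd h1)
    · exact P_mono hr (sub_one_ne hq (by norm_num)) (pow_add_one_dvd h1)
  rw [hk _ (by norm_num), hk _ (by norm_num), hk _ (by norm_num), hk _ (by norm_num)] at hsplit
  have hq26 : 8 ^ 26 ≤ q ^ 26 := Nat.pow_le_pow_left hq8 26
  by_cases h6 : e ∣ 6
  · rcases dvd_iff_twelve e h6 with rfl | rfl | rfl | rfl
    · have h2 := (hRe rfl).1
      have h3 := P_three_le (r := r)
      have h36 := P_six_le hr hrp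
      norm_num [P_one, P_two_odd hr hrp] at hsplit
      refine fin (9 * (q + 1) ^ 4) ?_ ?_
      · calc P r (num .TF4 q) ≤ R * (R * P r 3) * R * (R * P r 6) := hsplit
          _ = (P r 3 * P r 6) * R ^ 4 := by ring
          _ ≤ (3 * 3) * (q + 1) ^ 4 := Nat.mul_le_mul (Nat.mul_le_mul h3 h36) (Nat.pow_le_pow_left h2 4)
      · have h1 := pw (x := q) (Q := 8) (c := 4 * 9 ^ 4) (d := 1) (k := 16) (K := 26) hq8 (by norm_num) (by norm_num)
          (by norm_num)
        calc 4 * (9 * (q + 1) ^ 4) ^ 4 = 4 * 9 ^ 4 * (q + 1) ^ 16 := by ring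
          _ < 1 * q ^ 26 := h1
          _ = q ^ 26 := one_mul _
    · norm_num [P_one] at hsplit
      have h3 := P_three_le (r := r)
      refine fin (3 * (q ^ 2 + 1) ^ 2) ?_ ?_
      · calc P r (num .TF4 q) ≤ R * (R * P r 3) := hsplit
          _ = P r 3 * R ^ 2 := by ring
          _ ≤ 3 * (q ^ 2 + 1) ^ 2 := Nat.mul_le_mul h3 (Nat.pow_le_pow_left hR 2)
      · have hq64 : 64 ≤ q ^ 2 := by nlinarith only [hq8]
        have h1 := pw (x := q ^ 2) (Q := 64) (c := 4 * 3 ^ 4) (d := 1) (k := 8) (K := 13) hq64 (by norm_num) (by norm_num)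
          (by norm_num)
        calc 4 * (3 * (q ^ 2 + 1) ^ 2) ^ 4 = 4 * 3 ^ 4 * (q ^ 2 + 1) ^ 8 := by ring
          _ < 1 * (q ^ 2) ^ 13 := h1
          _ = q ^ 26 := by rw [one_mul, ← pow_mul]
    · norm_num [P_one, P_two_odd hr hrp] at hsplit
      refine fin ((q ^ 3 + 1) ^ 2) ?_ ?_
      · calc P r (num .TF4 q) ≤ R * R := hsplit
          _ = R ^ 2 := by ring
          _ ≤ (q ^ 3 + 1) ^ 2 := Nat.pow_le_pow_left hR 2
      · have hq512 : 512 ≤ q ^ 3 := by
          calc 512 = 8 ^ 3 := by norm_num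
            _ ≤ q ^ 3 := Nat.pow_le_pow_left hq8 3
        have hq64 : 64 ≤ q ^ 2 := by nlinarith only [hq8]
        have h1 := pw (x := q ^ 3) (Q := 512) (c := 4) (d := 64) (k := 8) (K := 8) hq512 (by norm_num)
          (by norm_num) (by norm_num)
        calc 4 * ((q ^ 3 + 1) ^ 2) ^ 4 = 4 * (q ^ 3 + 1) ^ 8 := by ring
          _ < 64 * (q ^ 3) ^ 8 := h1
          _ ≤ q ^ 2 * (q ^ 3) ^ 8 := Nat.mul_le_mul_right _ hq64
          _ = q ^ 26 := by ring
    · norm_num [P_one] at hsplit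
      refine fin (q ^ 6 + 1) (hsplit.trans hR) ?_
      have hq6 : 8 ^ 6 ≤ q ^ 6 := Nat.pow_le_pow_left hq8 6
      have hq64 : 64 ≤ q ^ 2 := by nlinarith only [hq8]
      have h1 := pw (x := q ^ 6) (Q := 8 ^ 6) (c := 4) (d := 64) (k := 4) (K := 4) hq6 (by norm_num)
        (by norm_num) (by norm_num)
      calc 4 * (q ^ 6 + 1) ^ 4 < 64 * (q ^ 6) ^ 4 := h1
        _ ≤ q ^ 2 * (q ^ 6) ^ 4 := Nat.mul_le_mul_right _ hq64
        _ = q ^ 26 := by ring
  · have h1 : ¬ e ∣ 1 := fun hd => h6 (hd.trans (by norm_num))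
    have h2 : ¬ e ∣ 2 := fun hd => h6 (hd.trans (by norm_num))
    have h3 : ¬ e ∣ 3 := fun hd => h6 (hd.trans (by norm_num))
    rw [if_neg h1, if_neg h3, if_neg h2, if_neg h6] at hsplit
    refine fin 1 hsplit ?_
    omega

end Cfsg.Agent.H719.Quart
end

-- part: H719/Quart/TypeU
section
/-!
# Fourth roots: the unitary groups
-/

set_option autoImplicit false

namespace Cfsg.Agent.H719.Quart

open Finset Cfsg.Agent.H902.Lte Cfsg.Agent.H902.Art

/-! ### explicit orders -/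

def pr (l : List (ℕ × ℕ)) : ℕ := (l.map fun x => x.1 ^ x.2).prod

theorem pr_cons (x : ℕ × ℕ) (l : List (ℕ × ℕ)) : pr (x :: l) = x.1 ^ x.2 * pr l := by
  simp [pr]

theorem pr_ne {l : List (ℕ × ℕ)} (hp : ∀ x ∈ l, x.1.Prime) : pr l ≠ 0 := by
  induction l with
  | nil => simp [pr]
  | cons x l ih =>
    rw [pr_cons]
    exact Nat.mul_ne_zero (pow_ne_zero _ (hp x (by simp)).ne_zero) (ih fun y hy => hp y (by simp [hy]))

theorem P_pr {r : ℕ} {l : List (ℕ × ℕ)} (hr : r.Prime) (hp : ∀ x ∈ l, x.1.Prime) :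
    P r (pr l) = pr (l.filter fun x => x.1 = r) := by
  induction l with
  | nil => simp [pr, P]
  | cons x l ih =>
    have hx := hp x (by simp)
    rw [pr_cons, P_mul (pow_ne_zero _ hx.ne_zero) (pr_ne fun y hy => hp y (by simp [hy])),
      ih fun y hy => hp y (by simp [hy])]
    by_cases h : x.1 = r
    · rw [List.filter_cons_of_pos (by simpa using h), pr_cons]
      congr 1
      rw [h]
      have := P_pow_self (r := r) (k := x.2) (a := 1) hr hr.not_dvd_one
      rwa [mul_one] at this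
    · rw [List.filter_cons_of_neg (by simpa using h), P_eq_one, one_mul]
      intro hd
      exact h ((Nat.prime_dvd_prime_iff_eq hr hx).1 (hr.dvd_of_dvd_pow hd)).symm

/-- an explicit order -/
theorem list_check {N p : ℕ} (l : List (ℕ × ℕ)) (hN : pr l = N) (hp : ∀ x ∈ l, x.1.Prime)
    (hc : ∀ x ∈ l, x.1 ≠ p → pr (l.filter fun y => y.1 = x.1) ^ 4 < N) (h1 : 1 < N) {r : ℕ}
    (hr : r.Prime) (hrp : r ≠ p) : P r N ^ 4 < N := by
  have h2 := P_pr hr hp
  rw [hN] at h2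
  by_cases h : ∃ x ∈ l, x.1 = r
  · obtain ⟨x, hx, hxr⟩ := h
    have h3 := hc x hx (by rw [hxr]; exact hrp)
    rw [h2]
    rwa [hxr] at h3
  · have h3 : l.filter (fun x => x.1 = r) = [] := by
      rw [List.filter_eq_nil_iff]
      intro x hx hxr
      exact h ⟨x, hx, by simpa using hxr⟩
    rw [h2, h3]
    simpa [pr] using h1

/-- an explicit group -/
theorem list_real {X : Sh} {p f M r : ℕ} (h : Real X p f M) (hr : r.Prime) (hrp : r ≠ p) {q : ℕ} (hq : p ^ f = q)
    (d : ℕ) (hd : dd X q = d) (l : List (ℕ × ℕ)) (hN : d * pr l = q ^ NN X * num X q)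
    (hp : ∀ x ∈ l, x.1.Prime) (hc : ∀ x ∈ l, ¬ x.1 ∣ q → pr (l.filter fun y => y.1 = x.1) ^ 4 < pr l)
    (h1 : 1 < pr l) : P r M ^ 4 < M := by
  have hdpos : 0 < d := by
    have := h.dd_ne
    rw [hq, hd] at this
    omega
  have hM : M = pr l := by
    have h2 := h.eq
    rw [hq, hd, ← hN] at h2
    exact Nat.eq_of_mul_eq_mul_left hdpos h2
  rw [hM]
  refine list_check (p := p) l rfl hp (fun x hx hxp => hc x hx ?_) h1 hr hrp
  rw [← hq]
  intro hd
  exact hxp ((Nat.prime_dvd_prime_iff_eq (hp x hx) h.hp).1 ((hp x hx).dvd_of_dvd_pow hd))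

/-! ### odd primes -/

theorem PU_split {r q n : ℕ} (hr : r.Prime) (hr2 : r ≠ 2) (hq : 2 ≤ q) (hrq : ¬ r ∣ q) (hn : 2 ≤ n) :
    (r ∣ q + 1 ∧ P r (num (.U n) q) = (P r (q + 1)) ^ (n - 1) * r ^ padicValNat r n.factorial) ∨
      ∃ e R, 2 ≤ e ∧ 1 ≤ R ∧ R ≤ q ^ e ∧ (Even e → R ≤ q ^ (e / 2) + 1) ∧
        P r (num (.U n) q) = R ^ (n / e) * r ^ padicValNat r (n / e).factorial := by
  set x : ℤ := -(q : ℤ) with hx
  have hN : num (.U n) q * (x - 1).natAbs = (W x n).natAbs := by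
    rw [hx, ← num_U hq (by omega)]
    congr 1
    omega
  have hy : (x - 1).natAbs = q + 1 := by omega
  have hxa : |x| = q := abs_eq_cases (Or.inr hx)
  have hx2 : 2 ≤ |x| := by rw [hxa]; exact_mod_cast hq
  have hrx : ¬ (r : ℤ) ∣ x := by
    intro h; exact not_dvd_cast hrq ((dvd_neg).1 (hx ▸ h))
  have hW0 : (W x n).natAbs ≠ 0 := Int.natAbs_ne_zero.2 (W_ne_zero hx2 n)
  have hN0 : num (.U n) q ≠ 0 := by
    intro h0; rw [h0, zero_mul] at hN; exact hW0 hN.symm
  have hP : P r (num (.U n) q) * P r (q + 1) = P r (W x n).natAbs := by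
    rw [← P_mul hN0 (by omega), ← hy, hN]
  have he := order_pos (q := q) hr hrx
  have hodd := PW_odd hr hr2 hx2 hrx n
  set e := orderOf (x : ZMod r) with hedef
  by_cases h : r ∣ q + 1
  · left
    refine ⟨h, ?_⟩
    have h1 : (r : ℤ) ∣ x ^ 1 - 1 := by rw [pow_one]; exact Int.natCast_dvd.2 (by rw [hy]; exact h)
    have h2 : e ∣ 1 := (dvd_pow_sub_one_iff 1).1 h1
    have h3 : e = 1 := Nat.dvd_one.1 h2
    rw [h3, Nat.div_one, pow_one, hy] at hodd
    rw [hodd] at hP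
    have h5 : (P r (q + 1)) ^ n = (P r (q + 1)) ^ (n - 1) * P r (q + 1) := by
      rw [← pow_succ]; congr 1; omega
    rw [h5] at hP
    apply Nat.eq_of_mul_eq_mul_right (P_pos (r := r) (a := q + 1) hr)
    rw [hP]; ring
  · right
    rw [P_eq_one h, mul_one] at hP
    have he2 : 2 ≤ e := by
      by_contra hcon
      have h3 : e = 1 := by omega
      have h1 : (r : ℤ) ∣ x ^ 1 - 1 := (dvd_pow_sub_one_iff 1).2 (by rw [← hedef, h3])
      rw [pow_one] at h1
      exact h (hy ▸ Int.natCast_dvd.1 h1)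
    have hne : (x ^ e - 1).natAbs ≠ 0 := Int.natAbs_ne_zero.2 (pow_sub_one_ne_zero hx2 (by omega))
    have h6 : (x ^ e).natAbs = q ^ e := by
      rw [Int.natAbs_pow]
      congr 1
      omega
    refine ⟨e, P r (x ^ e - 1).natAbs, he2, P_pos hr, ?_, ?_, hP.trans hodd⟩
    · have h1 : (x - 1).natAbs ∣ (x ^ e - 1).natAbs := by
        rw [Int.natAbs_dvd_natAbs]
        have := sub_dvd_pow_sub_pow x 1 e
        rwa [one_pow] at this
      rw [hy] at h1
      have hcop : Nat.Coprime (P r (x ^ e - 1).natAbs) (q + 1) :=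
        Nat.Coprime.pow_left _ ((Nat.Prime.coprime_iff_not_dvd hr).2 h)
      have h2 : P r (x ^ e - 1).natAbs * (q + 1) ∣ (x ^ e - 1).natAbs :=
        Nat.Coprime.mul_dvd_of_dvd_of_dvd hcop (P_dvd _ _) h1
      have h3 := Nat.le_of_dvd (Nat.pos_of_ne_zero hne) h2
      have h4 : (x ^ e - 1).natAbs ≤ q ^ e + 1 := by
        have h5 := Int.natAbs_sub_le (x ^ e) 1
        rw [h6] at h5
        simpa only [_root_.ge_iff_le, _root_.isUnit_one, _root_.Int.natAbs_of_isUnit] using h5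
      have h9 : P r (x ^ e - 1).natAbs * 2 ≤ P r (x ^ e - 1).natAbs * (q + 1) :=
        Nat.mul_le_mul_left _ (by omega)
      have h10 : 1 ≤ q ^ e := Nat.one_le_pow _ _ (by omega)
      omega
    · intro hev
      obtain ⟨j, hj⟩ := hev
      have h7 : (x ^ e - 1).natAbs = q ^ (2 * j) - 1 := by
        have h8 : x ^ e - 1 = ((q ^ (2 * j) - 1 : ℕ) : ℤ) := by
          rw [Nat.cast_sub (Nat.one_le_pow _ _ (by omega)), hx, (show Even e from ⟨j, hj⟩).neg_pow,
            show e = 2 * j by omega]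
          push_cast; rfl
        rw [h8, Int.natAbs_natCast]
      rw [h7, show e / 2 = j by omega]
      exact P_sq_sub_one_le hr hr2 hq (by omega)

/-- `r`-parts of small factorials, odd `r` -/
theorem facP {r : ℕ} (hr : r.Prime) (n : ℕ) : r ^ padicValNat r n.factorial = P r n.factorial := by
  rw [P, Nat.factorization_def _ hr]

theorem fac1 {r : ℕ} (hr : r.Prime) : r ^ padicValNat r (Nat.factorial 1) = 1 := by
  rw [facP hr]; exact P_one

theorem fac0 {r : ℕ} (hr : r.Prime) : r ^ padicValNat r (Nat.factorial 0) = 1 := by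
  rw [facP hr]; exact P_one

theorem fac_two {r : ℕ} (hr : r.Prime) (hr2 : r ≠ 2) : r ^ padicValNat r (Nat.factorial 2) = 1 := by
  rw [facP hr]; exact P_two_odd hr hr2

theorem fac_four {r : ℕ} (hr : r.Prime) (hr2 : r ≠ 2) : r ^ padicValNat r (Nat.factorial 4) ≤ 3 := by
  rw [facP hr]
  have h : Nat.factorial 4 = 2 * (4 * 3) := rfl
  rw [h, P_mul (by norm_num) (by norm_num), P_mul (by norm_num) (by norm_num), P_two_odd hr hr2,
    P_four_odd hr hr2, one_mul, one_mul]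
  exact P_three_le

theorem fac_five {r : ℕ} (hr : r.Prime) (hr2 : r ≠ 2) : r ^ padicValNat r (Nat.factorial 5) ≤ 5 := by
  rw [facP hr]
  have h : Nat.factorial 5 = 2 * (4 * (3 * 5)) := rfl
  rw [h, P_mul (by norm_num) (by norm_num), P_mul (by norm_num) (by norm_num), P_two_odd hr hr2,
    P_four_odd hr hr2, one_mul, one_mul, P_mul (by norm_num) (by norm_num)]
  by_cases h3 : r = 3
  · subst h3
    rw [P_eq_one (a := 5) (by norm_num), mul_one]
    exact P_three_le.trans (by norm_num)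
  · rw [P_eq_one (a := 3) (fun h => h3 ((Nat.prime_dvd_prime_iff_eq hr Nat.prime_three).1 h)), one_mul]
    exact P_le (by norm_num)

/-! ### `n = 4` -/

theorem dd_U_le {q n : ℕ} (hn : 0 < n) : dd (.U n) q ≤ n := Nat.gcd_le_left _ hn

theorem dd_U_le' {q n : ℕ} : dd (.U n) q ≤ q + 1 := Nat.gcd_le_right _ (by omega)

/-- reduction -/
theorem finU {n p f M r B D K : ℕ} (h : Real (.U n) p f M) (hr : r.Prime) (hrp : r ≠ p)
    (hB : P r (num (.U n) (p ^ f)) ≤ B) (hD : dd (.U n) (p ^ f) ≤ D) (hK : K + 1 = n ^ 2)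
    (hb : 2 * D * B ^ 4 ≤ (p ^ f) ^ K) : P r M ^ 4 < M := by
  apply core' h hr hrp
  have hn : 3 ≤ n := h.ok.1
  have hq := h.q_ge
  set q := p ^ f
  have h1 := numU_gt hq (show 2 ≤ n by omega)
  have hexp : K = n * (n - 1) / 2 + (n * (n + 1) / 2 - 1) := by
    obtain ⟨m, rfl⟩ := Nat.exists_eq_add_of_le' (show 1 ≤ n by omega)
    rw [Nat.add_sub_cancel]
    have h2 : (m + 1) * (m + 1 + 1) / 2 = (m + 1) * m / 2 + (m + 1) := by
      have : (m + 1) * (m + 1 + 1) = (m + 1) * m + 2 * (m + 1) := by ring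
      rw [this, Nat.add_mul_div_left _ _ (by norm_num)]
    have h3 : (m + 1) * m / 2 * 2 = (m + 1) * m := two_mul_half (m + 1)
    have h4 : (m + 1) ^ 2 = (m + 1) * m + (m + 1) := by ring
    omega
  have h2 : 2 * (P r (num (.U n) q) ^ 4 * dd (.U n) q) < 2 * (q ^ NN (.U n) * num (.U n) q) := by
    calc 2 * (P r (num (.U n) q) ^ 4 * dd (.U n) q) ≤ 2 * (B ^ 4 * D) :=
          Nat.mul_le_mul_left 2 (Nat.mul_le_mul (Nat.pow_le_pow_left hB 4) hD)
      _ = 2 * D * B ^ 4 := by ring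
      _ ≤ q ^ K := hb
      _ = q ^ (n * (n - 1) / 2) * q ^ (n * (n + 1) / 2 - 1) := by rw [← pow_add, hexp]
      _ < q ^ (n * (n - 1) / 2) * (2 * num (.U n) q) := Nat.mul_lt_mul_of_pos_left h1 (pow_pos (by omega) _)
      _ = 2 * (q ^ NN (.U n) * num (.U n) q) := by
          show _ = 2 * (q ^ (n * (n - 1) / 2) * num (.U n) q); ring
  exact Nat.lt_of_mul_lt_mul_left h2

/-- the `2`-part: the two constituents -/
theorem A_le {q : ℕ} (hq : 3 ≤ q) (hodd : Odd q) : P 2 (q + 1) * P 2 (q ^ 2 - 1) ≤ 2 * (q + 1) ^ 2 := by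
  rcases P_two_mul hq hodd (y := q + 1) (z := q - 1) (Or.inr ⟨rfl, rfl⟩) with h1 | h1
  · refine h1.trans ?_
    have : q - 1 ≤ q + 1 := by omega
    nlinarith only [hq, this]
  · exact h1

theorem PU_two {q n : ℕ} (hq : 3 ≤ q) (hodd : Odd q) (hn : 3 ≤ n) :
    P 2 (num (.U n) q) = (P 2 (q + 1) * P 2 (q ^ 2 - 1)) ^ ((n + 1) / 2 - 1) *
      (P 2 (q ^ 2 - 1)) ^ (n / 2 + 1 - (n + 1) / 2) * 2 ^ padicValNat 2 (n / 2).factorial := by
  have hN : num (.U n) q * (-(q : ℤ) - 1).natAbs = (W (-(q : ℤ)) n).natAbs := by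
    rw [← num_U (by omega) (by omega)]
    congr 1
    omega
  have h := PLU_two hq hodd hn (Or.inr rfl) hN
  have hy : (-(q : ℤ) - 1).natAbs = q + 1 := by omega
  rwa [hy] at h

theorem quart_U4_aux {p f M r : ℕ} (h : Real (.U 4) p f M) (h14 : 14 ≤ p ^ f) (hr : r.Prime) (hrp : r ≠ p) :
    P r M ^ 4 < M := by
  have hq := h.q_ge
  have hrq := h.not_dvd_q hr hrp
  by_cases hr2 : r = 2
  · subst hr2
    have hodd := odd_q h hrp
    -- here the `2`-part of `dd` is needed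
    apply core h hr hrp
    have h1 := PU_two (n := 4) (by omega) hodd (by norm_num)
    have h2 : 2 ^ padicValNat 2 (Nat.factorial (4 / 2)) = 2 := by
      rw [facP Nat.prime_two]; exact P_two_two
    rw [h2] at h1
    have hA := A_le (by omega) hodd
    have hB := P_two_sq_sub_one_le (by omega) hodd
    have hP : P 2 (num (.U 4) (p ^ f)) ≤ 8 * (p ^ f + 1) ^ 3 := by
      rw [h1]
      calc (P 2 (p ^ f + 1) * P 2 ((p ^ f) ^ 2 - 1)) ^ ((4 + 1) / 2 - 1) *
            P 2 ((p ^ f) ^ 2 - 1) ^ (4 / 2 + 1 - (4 + 1) / 2) * 2 =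
            (P 2 (p ^ f + 1) * P 2 ((p ^ f) ^ 2 - 1)) * P 2 ((p ^ f) ^ 2 - 1) * 2 := by norm_num
        _ ≤ (2 * (p ^ f + 1) ^ 2) * (2 * (p ^ f + 1)) * 2 :=
            Nat.mul_le_mul_right 2 (Nat.mul_le_mul hA hB)
        _ = 8 * (p ^ f + 1) ^ 3 := by ring
    have hd : dd (.U 4) (p ^ f) = 2 ∨ dd (.U 4) (p ^ f) = 4 := by
      show Nat.gcd 4 (p ^ f + 1) = 2 ∨ Nat.gcd 4 (p ^ f + 1) = 4
      have h3 : 2 ∣ Nat.gcd 4 (p ^ f + 1) := by
        apply Nat.dvd_gcd (by norm_num)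
        rcases hodd with ⟨k, hk⟩
        exact ⟨k + 1, by omega⟩
      have h4 : Nat.gcd 4 (p ^ f + 1) ∣ 4 := Nat.gcd_dvd_left _ _
      have h5 := Nat.le_of_dvd (by norm_num) h4
      have h6 : Nat.gcd 4 (p ^ f + 1) ≠ 0 := by
        intro h; rw [h] at h4; norm_num at h4
      obtain ⟨c, hc⟩ := h3
      have h7 : c = 1 ∨ c = 2 := by omega
      rcases h7 with rfl | rfl
      · left; omega
      · right; omega
    have hn := numU_gt hq (n := 4) (by norm_num)
    have hdP : P 2 (dd (.U 4) (p ^ f)) = dd (.U 4) (p ^ f) := by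
      rcases hd with h | h <;> rw [h]
      · exact P_two_two
      · exact P2_4
    rw [hdP]
    have hd8 : dd (.U 4) (p ^ f) * 8 ≤ dd (.U 4) (p ^ f) ^ 4 := by
      rcases hd with h | h <;> rw [h] <;> norm_num
    generalize dd (.U 4) (p ^ f) = d at *
    generalize p ^ f = q at *
    have h7 := pw (x := q) (Q := 14) (c := 8 ^ 4) (d := 4) (k := 12) (K := 15) h14 (by norm_num) (by norm_num)
      (by norm_num)
    have h8 : P 2 (num (.U 4) q) ^ 4 < 8 * (q ^ 6 * num (.U 4) q) := by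
      calc P 2 (num (.U 4) q) ^ 4 ≤ (8 * (q + 1) ^ 3) ^ 4 := Nat.pow_le_pow_left hP 4
        _ = 8 ^ 4 * (q + 1) ^ 12 := by ring
        _ < 4 * q ^ 15 := h7
        _ = 4 * (q ^ 6 * q ^ (4 * (4 + 1) / 2 - 1)) := by norm_num; ring
        _ ≤ 4 * (q ^ 6 * (2 * num (.U 4) q)) := Nat.mul_le_mul_left 4 (Nat.mul_le_mul_left _ hn.le)
        _ = 8 * (q ^ 6 * num (.U 4) q) := by ring
    have hd0 : 0 < d := by rcases hd with rfl | rfl <;> norm_num
    show _ < d ^ 4 * (q ^ 6 * num (.U 4) q)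
    calc P 2 (num (.U 4) q) ^ 4 * d < 8 * (q ^ 6 * num (.U 4) q) * d := Nat.mul_lt_mul_of_pos_right h8 hd0
      _ = (d * 8) * (q ^ 6 * num (.U 4) q) := by ring
      _ ≤ d ^ 4 * (q ^ 6 * num (.U 4) q) := Nat.mul_le_mul_right _ hd8
  · have fin : ∀ B : ℕ, P r (num (.U 4) (p ^ f)) ≤ B → 8 * B ^ 4 ≤ (p ^ f) ^ 15 → P r M ^ 4 < M := by
      intro B h1 h2
      exact finU h hr hrp h1 (dd_U_le (by norm_num)) (K := 15) (by norm_num) h2
    rcases PU_split hr hr2 hq hrq (n := 4) (by norm_num) with ⟨-, h1⟩ | ⟨e, R, he, hR1, hRe, hRev, h1⟩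
    · refine fin (3 * (p ^ f + 1) ^ 3) ?_ ?_
      · rw [h1, mul_comm]
        exact Nat.mul_le_mul (fac_four hr hr2) (Nat.pow_le_pow_left (P_le (by omega)) _)
      · generalize p ^ f = q at *
        have h7 := pw (x := q) (Q := 14) (c := 8 * 3 ^ 4) (d := 1) (k := 12) (K := 15) h14 (by norm_num)
          (by norm_num) (by norm_num)
        calc 8 * (3 * (q + 1) ^ 3) ^ 4 = 8 * 3 ^ 4 * (q + 1) ^ 12 := by ring
          _ ≤ 1 * q ^ 15 := h7.le
          _ = q ^ 15 := one_mul _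
    · rw [h1] at fin
      have hcase : e = 2 ∨ e = 3 ∨ e = 4 ∨ 5 ≤ e := by omega
      rcases hcase with rfl | rfl | rfl | h5
      · have h2 : R ≤ p ^ f + 1 := by
          have := hRev (by decide)
          rwa [Nat.div_self (by norm_num), pow_one] at this
        refine fin ((p ^ f + 1) ^ 2) ?_ ?_
        · show R ^ 2 * r ^ padicValNat r (Nat.factorial 2) ≤ _
          rw [fac_two hr hr2, mul_one]
          exact Nat.pow_le_pow_left h2 2
        · generalize p ^ f = q at *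
          have h7 := pw (x := q) (Q := 14) (c := 8) (d := 1) (k := 8) (K := 15) h14 (by norm_num)
            (by norm_num) (by norm_num)
          calc 8 * ((q + 1) ^ 2) ^ 4 = 8 * (q + 1) ^ 8 := by ring
            _ ≤ 1 * q ^ 15 := h7.le
            _ = q ^ 15 := one_mul _
      · refine fin ((p ^ f) ^ 3) ?_ ?_
        · show R ^ 1 * r ^ padicValNat r (Nat.factorial 1) ≤ _
          rw [fac1 hr, mul_one, pow_one]
          exact hRe
        · generalize p ^ f = q at *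
          have h8 : 8 ≤ q ^ 3 := by
            calc 8 = 2 ^ 3 := by norm_num
              _ ≤ q ^ 3 := Nat.pow_le_pow_left hq 3
          calc 8 * (q ^ 3) ^ 4 ≤ q ^ 3 * (q ^ 3) ^ 4 := Nat.mul_le_mul_right _ h8
            _ = q ^ 15 := by ring
      · have h2 : R ≤ (p ^ f) ^ 2 + 1 := hRev (by decide)
        refine fin ((p ^ f) ^ 2 + 1) ?_ ?_
        · show R ^ 1 * r ^ padicValNat r (Nat.factorial 1) ≤ _
          rw [fac1 hr, mul_one, pow_one]
          exact h2
        · generalize p ^ f = q at *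
          have hq2 : 196 ≤ q ^ 2 := by nlinarith only [h14]
          have h7 := pw (x := q ^ 2) (Q := 196) (c := 8) (d := 1) (k := 4) (K := 7) hq2 (by norm_num)
            (by norm_num) (by norm_num)
          calc 8 * (q ^ 2 + 1) ^ 4 ≤ 1 * (q ^ 2) ^ 7 := h7.le
            _ = q ^ 14 := by rw [one_mul, ← pow_mul]
            _ ≤ q ^ 15 := Nat.pow_le_pow_right (by omega) (by norm_num)
      · have hz : 4 / e = 0 := Nat.div_eq_of_lt (by omega)
        rw [hz, pow_zero, one_mul, fac0 hr] at fin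
        refine fin 1 le_rfl ?_
        have : 2 ^ 15 ≤ (p ^ f) ^ 15 := Nat.pow_le_pow_left hq 15
        omega

end Cfsg.Agent.H719.Quart
end

private theorem dce_0b5535f6e934 : _root_.True := by
  try have : _root_.True := by simp only [_root_.Cfsg.Agent.H902.Art.NN.eq_13]
  try have : _root_.True := by simp only [_root_.Cfsg.Agent.H902.Art.NN.eq_15]
  try have : _root_.True := by simp only [_root_.Cfsg.Agent.H902.Art.NN.eq_1]
  try have : _root_.True := by simp only [_root_.Cfsg.Agent.H902.Art.NN.eq_14]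
  try have : _root_.True := by simp only [_root_.Cfsg.Agent.H902.Art.NN.eq_11]
  try have : _root_.True := by simp only [_root_.Cfsg.Agent.H902.Art.NN.eq_3]
  try have : _root_.True := by simp only [_root_.Cfsg.Agent.H902.Art.NN.eq_5]
  try have : _root_.True := by simp only [_root_.Cfsg.Agent.H719.Quart.pr.eq_1]
  try have : _root_.True := by simp only [_root_.Cfsg.Agent.H902.Art.NN.eq_9]
  try have : _root_.True := by simp only [_root_.Cfsg.Agent.H902.Art.NN.eq_7]
  try have : _root_.True := by simp only [_root_.Cfsg.Agent.H902.Art.NN.eq_10]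
  try have : _root_.True := by simp only [_root_.Cfsg.Agent.H902.Art.NN.eq_4]
  try have : _root_.True := by simp only [_root_.Cfsg.Agent.H902.Art.NN.eq_8]
  try have : _root_.True := by simp only [_root_.Cfsg.Agent.H902.Art.NN.eq_2]
  try have : _root_.True := by simp only [_root_.Cfsg.Agent.H902.Art.NN.eq_12]
  try have : _root_.True := by simp only [_root_.Cfsg.Agent.H902.Art.NN.eq_6]
  exact _root_.True.intro
end
end

-- part: H719/Quart/SameTop_mg
section
prune_inst 0x4010000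
set_option linter.all false
open scoped Cfsg.Agent.FastGrp

-- part: H719/Quart/SameP
section
/-!
# Equal characteristic: the part of the order prime to the characteristic determines the order
-/

set_option autoImplicit false

namespace Cfsg.Agent.H719.Quart

open Finset Cfsg.Agent.H902.Lte Cfsg.Agent.H902.Art
open Cfsg.Agent.H66.Cod (Eqn)

/-! ### exponents -/

/-- lower exponent -/
def LE : Sh → ℕ
  | .L n => n * (n + 1) / 2 - 2
  | .C m => m * (m + 1) - 1
  | .U n => n * (n + 1) / 2 - 2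
  | .D m => m ^ 2 - 1
  | .DD m => m ^ 2 - 1
  | .G2 => 7
  | .F4 => 24
  | .E6 => 36
  | .E7 => 63
  | .E8 => 120
  | .TE6 => 41
  | .TD4 => 15
  | .Sz => 2
  | .Ree => 3
  | .TF4 => 13

/-- upper exponent -/
def UE : Sh → ℕ
  | .L n => n * (n + 1) / 2 - 1
  | .C m => m * (m + 1)
  | .U n => n * (n + 1) / 2 - 1
  | .D m => m ^ 2
  | .DD m => m ^ 2 + 1
  | .G2 => 8
  | .F4 => 28
  | .E6 => 42
  | .E7 => 70
  | .E8 => 128
  | .TE6 => 42
  | .TD4 => 17
  | .Sz => 3
  | .Ree => 4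
  | .TF4 => 14

theorem halfL {q a N : ℕ} (hq : 2 ≤ q) (ha : 1 ≤ a) (h : q ^ a < 2 * N) : q ^ (a - 1) ≤ N := by
  obtain ⟨b, rfl⟩ := Nat.exists_eq_add_of_le' ha
  rw [Nat.add_sub_cancel]
  rw [pow_succ] at h
  have h1 : q ^ b * 2 ≤ q ^ b * q := Nat.mul_le_mul_left _ hq
  omega

theorem tri {n : ℕ} (hn : 2 ≤ n) : 3 ≤ n * (n + 1) / 2 := by
  rw [Nat.le_div_iff_mul_le (by norm_num)]; nlinarith

theorem lo_num {X : Sh} {p f M : ℕ} (h : Real X p f M) : (p ^ f) ^ LE X ≤ num X (p ^ f) := by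
  have hq := h.q_ge
  have hok := h.ok
  cases X with
  | L n =>
    have hn : 2 ≤ n := hok.1
    have h1 := numL_gt hq hn
    have h3 := tri hn
    have h2 := halfL hq (by omega) h1
    have h4 : LE (.L n) = n * (n + 1) / 2 - 1 - 1 := by show n * (n + 1) / 2 - 2 = _; omega
    rw [h4]; exact h2
  | C m =>
    have hm : 2 ≤ m := hok.1
    have h1 := prodC_gt hq (show 1 ≤ m by omega)
    have h3 : 1 ≤ m * (m + 1) := by nlinarith only [hm]
    show (p ^ f) ^ (m * (m + 1) - 1) ≤ ∏ i ∈ range m, ((p ^ f) ^ (2 * (i + 1)) - 1)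
    obtain ⟨b, hb⟩ := Nat.exists_eq_add_of_le' h3
    rw [hb] at h1 ⊢
    rw [Nat.add_sub_cancel]
    rw [pow_succ] at h1
    have h5 : (p ^ f) ^ b * 2 ≤ (p ^ f) ^ b * (p ^ f) := Nat.mul_le_mul_left _ hq
    omega
  | U n =>
    have hn : 3 ≤ n := hok.1
    have h1 := numU_gt hq (show 2 ≤ n by omega)
    have h3 := tri (show 2 ≤ n by omega)
    have h2 := halfL hq (by omega) h1
    have h4 : LE (.U n) = n * (n + 1) / 2 - 1 - 1 := by show n * (n + 1) / 2 - 2 = _; omega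
    rw [h4]; exact h2
  | D m =>
    have hm : 4 ≤ m := hok
    have h1 := numD_gt hq hm
    show (p ^ f) ^ (m ^ 2 - 1) ≤ _
    obtain ⟨b, hb⟩ := Nat.exists_eq_add_of_le' (show 1 ≤ m ^ 2 by nlinarith only [hm])
    rw [hb] at h1 ⊢
    rw [Nat.add_sub_cancel]
    rw [pow_succ] at h1
    have h5 : (p ^ f) ^ b * 2 ≤ (p ^ f) ^ b * (p ^ f) := Nat.mul_le_mul_left _ hq
    omega
  | DD m =>
    have hm : 4 ≤ m := hok
    have h1 := numDD_gt hq hm
    show (p ^ f) ^ (m ^ 2 - 1) ≤ _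
    obtain ⟨b, hb⟩ := Nat.exists_eq_add_of_le' (show 1 ≤ m ^ 2 by nlinarith only [hm])
    rw [hb] at h1 ⊢
    rw [Nat.add_sub_cancel]
    rw [pow_succ] at h1
    have h5 : (p ^ f) ^ b * 2 ≤ (p ^ f) ^ b * (p ^ f) := Nat.mul_le_mul_left _ hq
    omega
  | G2 =>
    show (p ^ f) ^ 7 ≤ ((p ^ f) ^ 2 - 1) * ((p ^ f) ^ 6 - 1)
    generalize p ^ f = q at *
    have h1 : 3 * q ^ 2 ≤ 4 * (q ^ 2 - 1) := by
      have : 4 ≤ q ^ 2 := by nlinarith
      omega
    have h2 : 63 * q ^ 6 ≤ 64 * (q ^ 6 - 1) := by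
      have : 2 ^ 6 ≤ q ^ 6 := Nat.pow_le_pow_left hq 6
      omega
    have h3 := Nat.mul_le_mul h1 h2
    have h4 : (3 * q ^ 2) * (63 * q ^ 6) = 189 * (q * q ^ 7) := by ring
    have h5 : (4 * (q ^ 2 - 1)) * (64 * (q ^ 6 - 1)) = 256 * ((q ^ 2 - 1) * (q ^ 6 - 1)) := by ring
    rw [h4, h5] at h3
    have h6 : 2 * q ^ 7 ≤ q * q ^ 7 := Nat.mul_le_mul_right _ hq
    omega
  | F4 => exact H66.Cod.F4_low hq
  | E6 => exact H66.Cod.E6_low hq
  | E7 => exact H66.Cod.E7_low hq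
  | E8 => exact H66.Cod.E8_low hq
  | TE6 =>
    show (p ^ f) ^ 41 ≤ ((p ^ f) ^ 2 - 1) * ((p ^ f) ^ 5 + 1) * ((p ^ f) ^ 6 - 1) * ((p ^ f) ^ 8 - 1) *
      ((p ^ f) ^ 9 + 1) * ((p ^ f) ^ 12 - 1)
    generalize p ^ f = q at *
    have h1 : 3 * q ^ 2 ≤ 4 * (q ^ 2 - 1) := by
      have : 4 ≤ q ^ 2 := by nlinarith
      omega
    have h2 : 63 * q ^ 6 ≤ 64 * (q ^ 6 - 1) := by
      have : 2 ^ 6 ≤ q ^ 6 := Nat.pow_le_pow_left hq 6
      omega
    have h3 : 63 * q ^ 8 ≤ 64 * (q ^ 8 - 1) := by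
      have : 2 ^ 8 ≤ q ^ 8 := Nat.pow_le_pow_left hq 8
      omega
    have h4 : 63 * q ^ 12 ≤ 64 * (q ^ 12 - 1) := by
      have : 2 ^ 12 ≤ q ^ 12 := Nat.pow_le_pow_left hq 12
      omega
    have h5 := Nat.mul_le_mul (Nat.mul_le_mul (Nat.mul_le_mul (Nat.mul_le_mul (Nat.mul_le_mul h1
      (Nat.le_add_right (q ^ 5) 1)) h2) h3) (Nat.le_add_right (q ^ 9) 1)) h4
    have h6 : 3 * q ^ 2 * q ^ 5 * (63 * q ^ 6) * (63 * q ^ 8) * q ^ 9 * (63 * q ^ 12) = 750141 * (q * q ^ 41) := by ring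
    have h7 : 4 * (q ^ 2 - 1) * (q ^ 5 + 1) * (64 * (q ^ 6 - 1)) * (64 * (q ^ 8 - 1)) * (q ^ 9 + 1) *
        (64 * (q ^ 12 - 1)) = 1048576 * ((q ^ 2 - 1) * (q ^ 5 + 1) * (q ^ 6 - 1) * (q ^ 8 - 1) * (q ^ 9 + 1) *
        (q ^ 12 - 1)) := by ring
    rw [h6, h7] at h5
    have h8 : 2 * q ^ 41 ≤ q * q ^ 41 := Nat.mul_le_mul_right _ hq
    omega
  | TD4 =>
    show (p ^ f) ^ 15 ≤ ((p ^ f) ^ 2 - 1) * ((p ^ f) ^ 6 - 1) * ((p ^ f) ^ 8 + (p ^ f) ^ 4 + 1)
    generalize p ^ f = q at *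
    have h1 : 3 * q ^ 2 ≤ 4 * (q ^ 2 - 1) := by
      have : 4 ≤ q ^ 2 := by nlinarith
      omega
    have h2 : 63 * q ^ 6 ≤ 64 * (q ^ 6 - 1) := by
      have : 2 ^ 6 ≤ q ^ 6 := Nat.pow_le_pow_left hq 6
      omega
    have h5 := Nat.mul_le_mul (Nat.mul_le_mul h1 h2) (show q ^ 8 ≤ q ^ 8 + q ^ 4 + 1 by omega)
    have h6 : 3 * q ^ 2 * (63 * q ^ 6) * q ^ 8 = 189 * (q * q ^ 15) := by ring
    have h7 : 4 * (q ^ 2 - 1) * (64 * (q ^ 6 - 1)) * (q ^ 8 + q ^ 4 + 1) =
      256 * ((q ^ 2 - 1) * (q ^ 6 - 1) * (q ^ 8 + q ^ 4 + 1)) := by ring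
    rw [h6, h7] at h5
    have h8 : 2 * q ^ 15 ≤ q * q ^ 15 := Nat.mul_le_mul_right _ hq
    omega
  | Sz =>
    show (p ^ f) ^ 2 ≤ (p ^ f - 1) * ((p ^ f) ^ 2 + 1)
    generalize p ^ f = q at *
    have : 1 * (q ^ 2 + 1) ≤ (q - 1) * (q ^ 2 + 1) := Nat.mul_le_mul_right _ (by omega)
    omega
  | Ree =>
    show (p ^ f) ^ 3 ≤ (p ^ f - 1) * ((p ^ f) ^ 3 + 1)
    generalize p ^ f = q at *
    have : 1 * (q ^ 3 + 1) ≤ (q - 1) * (q ^ 3 + 1) := Nat.mul_le_mul_right _ (by omega)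
    omega
  | TF4 =>
    show (p ^ f) ^ 13 ≤ (p ^ f - 1) * ((p ^ f) ^ 3 + 1) * ((p ^ f) ^ 4 - 1) * ((p ^ f) ^ 6 + 1)
    have hf : 3 ≤ f := hok.2.2
    have hq8 : 8 ≤ p ^ f := by
      calc 8 = 2 ^ 3 := by norm_num
        _ ≤ p ^ 3 := Nat.pow_le_pow_left h.hp.two_le 3
        _ ≤ p ^ f := Nat.pow_le_pow_right h.hp.pos hf
    generalize p ^ f = q at *
    have h1 : 7 * q ≤ 8 * (q - 1) := by omega
    have h2 : 7 * q ^ 4 ≤ 8 * (q ^ 4 - 1) := by
      have : 2 ^ 4 ≤ q ^ 4 := Nat.pow_le_pow_left hq 4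
      omega
    have h5 := Nat.mul_le_mul (Nat.mul_le_mul (Nat.mul_le_mul h1 (Nat.le_add_right (q ^ 3) 1)) h2)
      (Nat.le_add_right (q ^ 6) 1)
    have h6 : 7 * q * q ^ 3 * (7 * q ^ 4) * q ^ 6 = 49 * (q * q ^ 13) := by ring
    have h7 : 8 * (q - 1) * (q ^ 3 + 1) * (8 * (q ^ 4 - 1)) * (q ^ 6 + 1) =
      64 * ((q - 1) * (q ^ 3 + 1) * (q ^ 4 - 1) * (q ^ 6 + 1)) := by ring
    rw [h6, h7] at h5
    have h8 : 2 * q ^ 13 ≤ q * q ^ 13 := Nat.mul_le_mul_right _ hq
    omega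

theorem up_num {X : Sh} {p f M : ℕ} (h : Real X p f M) : num X (p ^ f) ≤ (p ^ f) ^ UE X := by
  have hq := h.q_ge
  have hok := h.ok
  have hsub : ∀ q k : ℕ, q ^ k - 1 ≤ q ^ k := fun q k => Nat.sub_le _ _
  have hup : ∀ n : ℕ, 1 ≤ n → n * (n + 1) / 2 - 1 = (n - 1) * (n - 1 + 3) / 2 := by
    intro n hn
    obtain ⟨k, rfl⟩ := Nat.exists_eq_add_of_le' hn
    rw [Nat.add_sub_cancel]
    have : (k + 1) * (k + 1 + 1) = k * (k + 3) + 2 := by ring
    omega
  have hev : ∀ k : ℕ, k * (k + 3) / 2 * 2 = k * (k + 3) := by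
    intro k
    apply Nat.div_mul_cancel
    have : k * (k + 3) = k * (k + 1) + 2 * k := by ring
    rw [this]
    exact dvd_add (Nat.even_mul_succ_self k).two_dvd (dvd_mul_right _ _)
  cases X with
  | L n =>
    have hn : 2 ≤ n := hok.1
    have h1 := numL_sq_le (q := p ^ f) (n - 1)
    show num (.L n) (p ^ f) ≤ (p ^ f) ^ (n * (n + 1) / 2 - 1)
    rw [hup n (by omega)]
    apply le_of_sq_le
    rw [← pow_mul, hev]
    exact h1
  | U n =>
    have hn : 3 ≤ n := hok.1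
    have h1 := numU_sq_le hq (n - 1)
    show num (.U n) (p ^ f) ≤ (p ^ f) ^ (n * (n + 1) / 2 - 1)
    rw [hup n (by omega)]
    apply le_of_sq_le
    rw [← pow_mul, hev]
    exact h1
  | C m => exact prodC_le m
  | D m =>
    have hm : 4 ≤ m := hok
    obtain ⟨k, rfl⟩ := Nat.exists_eq_add_of_le' (show 1 ≤ m by omega)
    have h1 : num (.D (k + 1)) (p ^ f) ≤ (p ^ f) ^ (k + 1) * (p ^ f) ^ (k * (k + 1)) :=
      Nat.mul_le_mul (hsub _ _) (prodC_le k)
    rw [← pow_add] at h1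
    have h2 : UE (.D (k + 1)) = k + 1 + k * (k + 1) := by show (k + 1) ^ 2 = _; ring
    rw [h2]; exact h1
  | DD m =>
    have hm : 4 ≤ m := hok
    obtain ⟨k, rfl⟩ := Nat.exists_eq_add_of_le' (show 1 ≤ m by omega)
    have h0 : (p ^ f) ^ (k + 1) + 1 ≤ (p ^ f) ^ (k + 1 + 1) := H66.Cod.hp1 hq _
    have h1 : num (.DD (k + 1)) (p ^ f) ≤ (p ^ f) ^ (k + 1 + 1) * (p ^ f) ^ (k * (k + 1)) :=
      Nat.mul_le_mul h0 (prodC_le k)
    rw [← pow_add] at h1
    have h2 : UE (.DD (k + 1)) = k + 1 + 1 + k * (k + 1) := by show (k + 1) ^ 2 + 1 = _; ring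
    rw [h2]; exact h1
  | G2 =>
    calc ((p ^ f) ^ 2 - 1) * ((p ^ f) ^ 6 - 1) ≤ (p ^ f) ^ 2 * (p ^ f) ^ 6 := Nat.mul_le_mul (hsub _ _) (hsub _ _)
      _ = (p ^ f) ^ 8 := by rw [← pow_add]
  | F4 =>
    calc ((p ^ f) ^ 2 - 1) * ((p ^ f) ^ 6 - 1) * ((p ^ f) ^ 8 - 1) * ((p ^ f) ^ 12 - 1) ≤
          (p ^ f) ^ 2 * (p ^ f) ^ 6 * (p ^ f) ^ 8 * (p ^ f) ^ 12 :=
          Nat.mul_le_mul (Nat.mul_le_mul (Nat.mul_le_mul (hsub _ _) (hsub _ _)) (hsub _ _)) (hsub _ _)
      _ = (p ^ f) ^ 28 := by rw [← pow_add, ← pow_add, ← pow_add]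
  | E6 =>
    show ((p ^ f) ^ 2 - 1) * ((p ^ f) ^ 5 - 1) * ((p ^ f) ^ 6 - 1) * ((p ^ f) ^ 8 - 1) * ((p ^ f) ^ 9 - 1) *
      ((p ^ f) ^ 12 - 1) ≤ _
    calc _ ≤ (p ^ f) ^ 2 * (p ^ f) ^ 5 * (p ^ f) ^ 6 * (p ^ f) ^ 8 * (p ^ f) ^ 9 * (p ^ f) ^ 12 :=
          Nat.mul_le_mul (Nat.mul_le_mul (Nat.mul_le_mul (Nat.mul_le_mul (Nat.mul_le_mul (hsub _ _) (hsub _ _))
            (hsub _ _)) (hsub _ _)) (hsub _ _)) (hsub _ _)
      _ = (p ^ f) ^ 42 := by rw [← pow_add, ← pow_add, ← pow_add, ← pow_add, ← pow_add]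
  | E7 =>
    show ((p ^ f) ^ 2 - 1) * ((p ^ f) ^ 6 - 1) * ((p ^ f) ^ 8 - 1) * ((p ^ f) ^ 10 - 1) * ((p ^ f) ^ 12 - 1) *
      ((p ^ f) ^ 14 - 1) * ((p ^ f) ^ 18 - 1) ≤ _
    calc _ ≤ (p ^ f) ^ 2 * (p ^ f) ^ 6 * (p ^ f) ^ 8 * (p ^ f) ^ 10 * (p ^ f) ^ 12 * (p ^ f) ^ 14 * (p ^ f) ^ 18 :=
          Nat.mul_le_mul (Nat.mul_le_mul (Nat.mul_le_mul (Nat.mul_le_mul (Nat.mul_le_mul (Nat.mul_le_mul
            (hsub _ _) (hsub _ _)) (hsub _ _)) (hsub _ _)) (hsub _ _)) (hsub _ _)) (hsub _ _)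
      _ = (p ^ f) ^ 70 := by rw [← pow_add, ← pow_add, ← pow_add, ← pow_add, ← pow_add, ← pow_add]
  | E8 =>
    show ((p ^ f) ^ 2 - 1) * ((p ^ f) ^ 8 - 1) * ((p ^ f) ^ 12 - 1) * ((p ^ f) ^ 14 - 1) * ((p ^ f) ^ 18 - 1) *
      ((p ^ f) ^ 20 - 1) * ((p ^ f) ^ 24 - 1) * ((p ^ f) ^ 30 - 1) ≤ _
    calc _ ≤ (p ^ f) ^ 2 * (p ^ f) ^ 8 * (p ^ f) ^ 12 * (p ^ f) ^ 14 * (p ^ f) ^ 18 * (p ^ f) ^ 20 * (p ^ f) ^ 24 *
            (p ^ f) ^ 30 :=
          Nat.mul_le_mul (Nat.mul_le_mul (Nat.mul_le_mul (Nat.mul_le_mul (Nat.mul_le_mul (Nat.mul_le_mul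
            (Nat.mul_le_mul (hsub _ _) (hsub _ _)) (hsub _ _)) (hsub _ _)) (hsub _ _)) (hsub _ _)) (hsub _ _))
            (hsub _ _)
      _ = (p ^ f) ^ 128 := by rw [← pow_add, ← pow_add, ← pow_add, ← pow_add, ← pow_add, ← pow_add, ← pow_add]
  | TE6 =>
    show ((p ^ f) ^ 2 - 1) * ((p ^ f) ^ 5 + 1) * ((p ^ f) ^ 6 - 1) * ((p ^ f) ^ 8 - 1) * ((p ^ f) ^ 9 + 1) *
      ((p ^ f) ^ 12 - 1) ≤ (p ^ f) ^ 42
    generalize p ^ f = q at *
    have h1 : (q ^ 2 - 1) * (q ^ 5 + 1) ≤ q ^ 7 := by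
      obtain ⟨t, ht⟩ := Nat.exists_eq_add_of_le' (Nat.one_le_pow 2 q (by omega))
      have h2 : q ^ 7 = (t + 1) * q ^ 5 := by rw [← ht]; ring
      have h3 : q ^ 2 ≤ q ^ 5 := Nat.pow_le_pow_right (by omega) (by norm_num)
      rw [h2, ht, Nat.add_sub_cancel]
      linarith only [ht, h3]
    have h4 : (q ^ 8 - 1) * (q ^ 9 + 1) ≤ q ^ 17 := by
      obtain ⟨t, ht⟩ := Nat.exists_eq_add_of_le' (Nat.one_le_pow 8 q (by omega))
      have h2 : q ^ 17 = (t + 1) * q ^ 9 := by rw [← ht]; ring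
      have h3 : q ^ 8 ≤ q ^ 9 := Nat.pow_le_pow_right (by omega) (by norm_num)
      rw [h2, ht, Nat.add_sub_cancel]
      linarith only [ht, h3]
    calc (q ^ 2 - 1) * (q ^ 5 + 1) * (q ^ 6 - 1) * (q ^ 8 - 1) * (q ^ 9 + 1) * (q ^ 12 - 1) =
          ((q ^ 2 - 1) * (q ^ 5 + 1)) * (q ^ 6 - 1) * ((q ^ 8 - 1) * (q ^ 9 + 1)) * (q ^ 12 - 1) := by ring
      _ ≤ q ^ 7 * q ^ 6 * q ^ 17 * q ^ 12 :=
          Nat.mul_le_mul (Nat.mul_le_mul (Nat.mul_le_mul h1 (hsub _ _)) h4) (hsub _ _)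
      _ = q ^ 42 := by ring
  | TD4 =>
    show ((p ^ f) ^ 2 - 1) * ((p ^ f) ^ 6 - 1) * ((p ^ f) ^ 8 + (p ^ f) ^ 4 + 1) ≤ (p ^ f) ^ 17
    generalize p ^ f = q at *
    have h1 : q ^ 8 + q ^ 4 + 1 ≤ q ^ 9 := by
      have h2 := H66.Cod.hp1 hq 4
      have h3 : q ^ (4 + 1) ≤ q ^ 8 := Nat.pow_le_pow_right (by omega) (by norm_num)
      have h4 : q ^ 9 = q * q ^ 8 := by ring
      have h5 : 2 * q ^ 8 ≤ q * q ^ 8 := Nat.mul_le_mul_right _ hq
      rw [h4]; omega
    calc (q ^ 2 - 1) * (q ^ 6 - 1) * (q ^ 8 + q ^ 4 + 1) ≤ q ^ 2 * q ^ 6 * q ^ 9 :=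
          Nat.mul_le_mul (Nat.mul_le_mul (hsub _ _) (hsub _ _)) h1
      _ = q ^ 17 := by ring
  | Sz =>
    show (p ^ f - 1) * ((p ^ f) ^ 2 + 1) ≤ (p ^ f) ^ 3
    generalize p ^ f = q at *
    obtain ⟨t, ht⟩ := Nat.exists_eq_add_of_le' (show 1 ≤ q by omega)
    rw [ht, Nat.add_sub_cancel]
    nlinarith only []
  | Ree =>
    show (p ^ f - 1) * ((p ^ f) ^ 3 + 1) ≤ (p ^ f) ^ 4
    generalize p ^ f = q at *
    have h1 : (q - 1) * (q ^ 3 + 1) + q ^ 3 + 1 = q ^ 4 + q := by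
      have : 1 ≤ q := by omega
      zify [this]; ring
    have h2 : q ^ 1 ≤ q ^ 3 := Nat.pow_le_pow_right (by omega) (by norm_num)
    rw [pow_one] at h2
    omega
  | TF4 =>
    show (p ^ f - 1) * ((p ^ f) ^ 3 + 1) * ((p ^ f) ^ 4 - 1) * ((p ^ f) ^ 6 + 1) ≤ (p ^ f) ^ 14
    generalize p ^ f = q at *
    have h1 : (q - 1) * (q ^ 3 + 1) ≤ q ^ 4 := by
      have h1 : (q - 1) * (q ^ 3 + 1) + q ^ 3 + 1 = q ^ 4 + q := by
        have : 1 ≤ q := by omega
        zify [this]; ring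
      have h2 : q ^ 1 ≤ q ^ 3 := Nat.pow_le_pow_right (by omega) (by norm_num)
      rw [pow_one] at h2
      omega
    have h4 : (q ^ 4 - 1) * (q ^ 6 + 1) ≤ q ^ 10 := by
      obtain ⟨t, ht⟩ := Nat.exists_eq_add_of_le' (Nat.one_le_pow 4 q (by omega))
      have h2 : q ^ 10 = (t + 1) * q ^ 6 := by rw [← ht]; ring
      have h3 : q ^ 4 ≤ q ^ 6 := Nat.pow_le_pow_right (by omega) (by norm_num)
      rw [h2, ht, Nat.add_sub_cancel]
      linarith only [ht, h3]
    calc (q - 1) * (q ^ 3 + 1) * (q ^ 4 - 1) * (q ^ 6 + 1) = ((q - 1) * (q ^ 3 + 1)) * ((q ^ 4 - 1) * (q ^ 6 + 1)) := by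
          ring
      _ ≤ q ^ 4 * q ^ 10 := Nat.mul_le_mul h1 h4
      _ = q ^ 14 := by ring

/-! ### the comparison -/

theorem exp_ineq {X Y : Sh} {p f g N M : ℕ} (hX : Real X p f N) (hY : Real Y p g M)
    (hE : Eqn X Y (p ^ f) (p ^ g)) : p ^ (f * LE X) ≤ dd X (p ^ f) * p ^ (g * UE Y) := by
  have h1 := lo_num hX
  have h2 := up_num hY
  have h3 : 1 ≤ dd Y (p ^ g) := Nat.pos_of_ne_zero hY.dd_ne
  rw [pow_mul, pow_mul]
  calc (p ^ f) ^ LE X ≤ num X (p ^ f) := h1
    _ ≤ dd Y (p ^ g) * num X (p ^ f) := Nat.le_mul_of_pos_left _ h3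
    _ = dd X (p ^ f) * num Y (p ^ g) := hE
    _ ≤ dd X (p ^ f) * (p ^ g) ^ UE Y := Nat.mul_le_mul_left _ h2

theorem contra {X Y : Sh} {p f g N M e : ℕ} (hX : Real X p f N) (hY : Real Y p g M)
    (hE : Eqn X Y (p ^ f) (p ^ g)) (hd : dd X (p ^ f) < p ^ e) (hc : g * UE Y + e ≤ f * LE X) : False := by
  have h := exp_ineq hX hY hE
  have hp := hX.hp
  have h2 : p ^ (g * UE Y) * p ^ e ≤ p ^ (f * LE X) := by
    rw [← pow_add]
    exact Nat.pow_le_pow_right hp.pos hc
  have h3 : 0 < p ^ (g * UE Y) := pow_pos hp.pos _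
  have h4 : p ^ (g * UE Y) * dd X (p ^ f) < p ^ (g * UE Y) * p ^ e := Nat.mul_lt_mul_of_pos_left hd h3
  have h5 : dd X (p ^ f) * p ^ (g * UE Y) = p ^ (g * UE Y) * dd X (p ^ f) := mul_comm _ _
  omega

theorem lt_pow_c {p c D e d : ℕ} (hp : 2 ≤ p) (hd : d ≤ D) (hD : D < 2 ^ c) (hce : c ≤ e) : d < p ^ e :=
  calc d ≤ D := hd
    _ < 2 ^ c := hD
    _ ≤ p ^ c := Nat.pow_le_pow_left hp c
    _ ≤ p ^ e := Nat.pow_le_pow_right (by omega) hce

end Cfsg.Agent.H719.Quart
end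

-- part: H719/Quart/SameOne
section
/-!
# Equal characteristic: the part of the order prime to the characteristic determines the order, II
-/

set_option autoImplicit false

namespace Cfsg.Agent.H719.Quart

open Finset Cfsg.Agent.H902.Lte Cfsg.Agent.H902.Art
open Cfsg.Agent.H66.Cod (Eqn Tgt)

/-! ### pairs of shapes with one large exponent -/

theorem dd_C_lt {m q : ℕ} (hq : 2 ≤ q) : dd (.C m) q < q := by
  have h : Nat.gcd 2 (q - 1) ≤ q - 1 := Nat.gcd_le_right _ (by omega)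
  show Nat.gcd 2 (q - 1) < q
  omega

/-- different values of `kap` -/
theorem typB_diff {X Y : Sh} {p f g N M : ℕ} (hX : Real X p f N) (hY : Real Y p g M)
    (hE : Eqn X Y (p ^ f) (p ^ g)) (hD : f * DM X = g * DM Y)
    (hXB : X = .C 2 ∨ X = .G2 ∨ X = .TD4 ∨ X = .TF4) (hYB : Y = .L 2 ∨ Y = .U 3 ∨ Y = .Sz ∨ Y = .Ree) :
    False := by
  have hq := hX.q_ge
  have hf := hX.hf
  refine contra hX hY hE (e := f) ?_ ?_
  · rcases hXB with rfl | rfl | rfl | rfl
    · exact dd_C_lt hq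
    · show 1 < p ^ f; omega
    · show 1 < p ^ f; omega
    · show 1 < p ^ f; omega
  · rcases hXB with rfl | rfl | rfl | rfl <;> rcases hYB with rfl | rfl | rfl | rfl
    all_goals
      simp only [DM, LE, UE] at hD ⊢
      norm_num only [_root_.ite_false, _root_.mul_eq_mul_right_iff, _root_.or_false] at hD ⊢
      (clear * - hD hf; omega)

/-- equal values of `kap` -/
theorem typB_same {X Y : Sh} {p f g N M : ℕ} (hX : Real X p f N) (hY : Real Y p g M)
    (hc : Eqn X Y (p ^ f) (p ^ g)) (hD : f * DM X = g * DM Y) (h : SpecB X Y) : False := by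
  unfold Eqn at hc
  have hqX := hX.q_ge
  have hqY := hY.q_ge
  have hf := hX.hf
  have hg := hY.hf
  have hp := hX.hp
  have eL2 : ∀ q, num (.L 2) q = q ^ 2 - 1 := by
    intro q
    show ∏ i ∈ range 1, (q ^ (i + 2) - 1) = _
    rw [Finset.prod_range_one]
  have eU3 : ∀ q, num (.U 3) q = (q ^ 2 - 1) * (q ^ 3 + 1) := by
    intro q
    show ∏ i ∈ range 2, (if Even i then q ^ (i + 2) - 1 else q ^ (i + 2) + 1) = _
    rw [Finset.prod_range_succ, Finset.prod_range_one]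
    simp only [_root_.Even.zero, ↓ _root_.reduceIte, _root_.zero_add, _root_.Nat.not_even_one, _root_.Nat.reduceAdd]
  have eC2 : ∀ q, num (.C 2) q = (q ^ 2 - 1) * (q ^ 4 - 1) := by
    intro q
    show ∏ i ∈ range 2, (q ^ (2 * (i + 1)) - 1) = _
    rw [Finset.prod_range_succ, Finset.prod_range_one]
  have dL2 : ∀ q, dd (.L 2) q ≤ 2 := fun q => Nat.gcd_le_left _ (by norm_num)
  have dC2 : ∀ q, dd (.C 2) q ≤ 2 := fun q => Nat.gcd_le_left _ (by norm_num)
  have dU3 : ∀ q, dd (.U 3) q ≤ 3 := fun q => Nat.gcd_le_left _ (by norm_num)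
  have dU3' : ∀ q, 1 ≤ dd (.U 3) q := fun q => Nat.gcd_pos_of_pos_left _ (by norm_num)
  have dSz : ∀ q, dd .Sz q = 1 := fun q => rfl
  have dRee : ∀ q, dd .Ree q = 1 := fun q => rfl
  have dG2 : ∀ q, dd .G2 q = 1 := fun q => rfl
  have dTD4 : ∀ q, dd .TD4 q = 1 := fun q => rfl
  have dTF4 : ∀ q, dd .TF4 q = 1 := fun q => rfl
  have pw : ∀ a b : ℕ, p ^ (a * b) = (p ^ b) ^ a := fun a b => by rw [mul_comm, pow_mul]
  rcases h with ⟨rfl, rfl⟩ | ⟨rfl, rfl⟩ | ⟨rfl, rfl⟩ | ⟨rfl, rfl⟩ | ⟨rfl, rfl⟩ | ⟨rfl, rfl⟩ | ⟨rfl, rfl⟩ | ⟨rfl, rfl⟩ |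
    ⟨rfl, rfl⟩ | ⟨rfl, rfl⟩ | ⟨rfl, rfl⟩ | ⟨rfl, rfl⟩
  · -- L2, U3
    have h2 : f * 2 = g * 6 := hD
    have h1 : f = 3 * g := by omega
    subst h1
    rw [pw, eL2, eU3] at hc
    exact ar_L2U3 hqY (dU3' _) (dL2 _) hc
  · -- L2, Sz
    have h2 : f * 2 = g * 4 := hD
    have h1 : f = 2 * g := by omega
    subst h1
    rw [pw, eL2, dSz, one_mul] at hc
    exact ar_L2Sz hqY (dL2 _) hc
  · -- L2, Ree
    have h2 : f * 2 = g * 6 := hD
    have h1 : f = 3 * g := by omega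
    subst h1
    rw [pw, eL2, dRee, one_mul] at hc
    exact ar_L2Ree hqY (dL2 _) hc
  · -- U3, Ree
    have h2 : f * 6 = g * 6 := hD
    have h1 : f = g := by omega
    subst h1
    rw [eU3, dRee, one_mul] at hc
    have hok : p = 3 ∧ Odd f ∧ 3 ≤ f := hY.ok
    refine ar_U3Ree ?_ (dU3 _) hc
    rw [hok.1]; exact Nat.le_self_pow (by omega) 3
  · -- U3, Sz
    have h2 : f * 6 = g * 4 := hD
    obtain ⟨k, hk⟩ : ∃ k, g = 3 * k := ⟨g / 3, by omega⟩
    have h1 : f = 2 * k := by omega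
    subst h1 hk
    have ht : 2 ≤ p ^ k := hp.two_le.trans (Nat.le_self_pow (by omega) p)
    rw [pw, pw, eU3, dSz, one_mul] at hc
    exact ar_U3Sz ht (dU3 _) hc
  · -- Sz, Ree
    have h1 : p = 2 ∧ Odd f ∧ 3 ≤ f := hX.ok
    have h2 : p = 3 ∧ Odd g ∧ 3 ≤ g := hY.ok
    omega
  · -- C2, G2
    have h2 : f * 4 = g * 6 := hD
    obtain ⟨k, hk⟩ : ∃ k, g = 2 * k := ⟨g / 2, by omega⟩
    have h1 : f = 3 * k := by omega
    subst h1 hk
    have ht : 2 ≤ p ^ k := hp.two_le.trans (Nat.le_self_pow (by omega) p)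
    rw [pw, pw, eC2, dG2, one_mul] at hc
    exact ar_C2G2 ht (dC2 _) hc
  · -- C2, TD4
    have h2 : f * 4 = g * 12 := hD
    have h1 : f = 3 * g := by omega
    subst h1
    rw [pw, eC2, dTD4, one_mul] at hc
    exact ar_C2TD4 hqY (dC2 _) hc
  · -- C2, TF4
    have h2 : f * 4 = g * 12 := hD
    have h1 : f = 3 * g := by omega
    subst h1
    rw [pw, eC2, dTF4, one_mul] at hc
    exact ar_C2TF4 hqY (dC2 _) hc
  · -- G2, TD4
    have h2 : f * 6 = g * 12 := hD
    have h1 : f = 2 * g := by omega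
    subst h1
    rw [pw, dTD4, dG2, one_mul, one_mul] at hc
    exact ar_G2TD4 hqY hc
  · -- G2, TF4
    have h2 : f * 6 = g * 12 := hD
    have h1 : f = 2 * g := by omega
    subst h1
    rw [pw, dTF4, dG2, one_mul, one_mul] at hc
    exact ar_G2TF4 hqY hc
  · -- TD4, TF4
    have h2 : f * 12 = g * 12 := hD
    have h1 : f = g := by omega
    subst h1
    rw [dTF4, dTD4, one_mul, one_mul] at hc
    exact ar_TD4TF4 hqY hc

/-- the shapes with one large exponent -/
theorem typB_eq {X Y : Sh} {p f g N M : ℕ} (hX : Real X p f N) (hY : Real Y p g M)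
    (hE : Eqn X Y (p ^ f) (p ^ g)) (hD : f * DM X = g * DM Y) (hBX : ¬ DM X < 2 * BM X)
    (hBY : ¬ DM Y < 2 * BM Y) : X = Y := by
  have hTX := typB hX hBX
  have hTY := typB hY hBY
  by_cases hk : kap X = kap Y
  · rcases pairsB hTX hTY hk with h | h | h
    · exact h
    · exact (typB_same hX hY hE hD h).elim
    · exact (typB_same hY hX hE.symm hD.symm h).elim
  · exfalso
    have cl : ∀ {Z : Sh} {D k : ℕ}, TypB Z D k → ((k = 4 ∧ (Z = .C 2 ∨ Z = .G2 ∨ Z = .TD4 ∨ Z = .TF4)) ∨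
        (k = 2 ∧ (Z = .L 2 ∨ Z = .U 3 ∨ Z = .Sz ∨ Z = .Ree))) := by
      intro Z D k h
      cases h <;> simp
    rcases cl hTX with ⟨h1, h2⟩ | ⟨h1, h2⟩ <;> rcases cl hTY with ⟨h3, h4⟩ | ⟨h3, h4⟩
    · exact hk (h1.trans h3.symm)
    · exact typB_diff hX hY hE hD h2 h4
    · exact typB_diff hY hX hE.symm hD.symm h4 h2
    · exact hk (h1.trans h3.symm)

/-! ### pairs of shapes with two large exponents -/

/-- the pairs of shapes with two large exponents and the same ratio, none of them `L_n` (`n ≥ 4`), `F₄`, `E₆`, `E₇`,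
`E₈` -/
def PairN (X Y : Sh) : Prop :=
  (∃ n, 3 ≤ n ∧ X = .D (n + 1) ∧ Y = .C n) ∨ (∃ n, 4 ≤ n ∧ X = .C n ∧ Y = .DD n) ∨
    (∃ n, 4 ≤ n ∧ X = .D (n + 1) ∧ Y = .DD n) ∨ (X = .C 3 ∧ Y = .L 3) ∨ (X = .D 4 ∧ Y = .L 3) ∨
    (X = .L 3 ∧ Y = .U 4) ∨ (X = .TE6 ∧ Y = .L 3) ∨ (X = .C 3 ∧ Y = .U 4) ∨ (X = .TE6 ∧ Y = .C 3) ∨
    (X = .D 4 ∧ Y = .U 4) ∨ (X = .D 4 ∧ Y = .TE6) ∨ (X = .TE6 ∧ Y = .U 4) ∨
    (∃ n, 2 ≤ n ∧ X = .U (2 * n + 2) ∧ Y = .U (2 * n + 1))

theorem pairsN {X Y : Sh} {D d k D' d' k' : ℕ} (hX : TypA X D d k) (hY : TypA Y D' d' k')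
    (hD : D * d' = D' * d) (h1 : ¬ Tgt X) (h2 : ¬ Tgt Y) : X = Y ∨ PairN X Y ∨ PairN Y X := by
  have t1 : ∀ n, 4 ≤ n → Tgt (.L n) := fun n hn => Or.inl ⟨n, hn, rfl⟩
  have t2 : Tgt .F4 := by unfold Tgt; simp
  have t3 : Tgt .E6 := by unfold Tgt; simp
  have t4 : Tgt .E7 := by unfold Tgt; simp
  have t5 : Tgt .E8 := by unfold Tgt; simp
  have tL : ∀ n, ¬ Tgt (.L n) → n < 4 := fun n h => by
    by_contra hcon
    exact h (t1 n (by omega))
  cases hX <;> cases hY <;>
    first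
      | exact Or.inl rfl
      | exact absurd t2 h1
      | exact absurd t3 h1
      | exact absurd t4 h1
      | exact absurd t5 h1
      | exact absurd t2 h2
      | exact absurd t3 h2
      | exact absurd t4 h2
      | exact absurd t5 h2
      | (exfalso; omega)
      | (left; congr 1; omega)
      | (exfalso; have hL := tL _ h1; omega)
      | (exfalso; have hL := tL _ h2; omega)
      | (right; left; unfold PairN; simp only [_root_.reduceCtorEq, _root_.Cfsg.Agent.H902.Art.Sh.C.injEq, _root_.false_and, _root_.and_false, _root_.exists_const, _root_.and_self, _root_.Cfsg.Agent.H902.Art.Sh.L.injEq, _root_.or_self, _root_.and_true, _root_.Cfsg.Agent.H902.Art.Sh.U.injEq, _root_.Nat.reduceEqDiff, _root_.or_false, _root_.false_or, _root_.Cfsg.Agent.H902.Art.Sh.DD.injEq, _root_.exists_eq_right_right', _root_.ne_eq, _root_.OfNat.ofNat_ne_zero, _root_.not_false_eq_true, _root_.mul_eq_left₀, _root_.Nat.add_right_cancel_iff, _root_.mul_eq_mul_left_iff,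 _root_.Cfsg.Agent.H902.Art.Sh.D.injEq, _root_.true_and, _root_.or_true]; done)
      | (right; right; unfold PairN; simp only [_root_.reduceCtorEq, _root_.and_self, _root_.and_false, _root_.exists_const, _root_.Cfsg.Agent.H902.Art.Sh.C.injEq, _root_.Cfsg.Agent.H902.Art.Sh.L.injEq, _root_.false_and, _root_.or_self, _root_.or_false, _root_.false_or, _root_.Cfsg.Agent.H902.Art.Sh.U.injEq, _root_.Nat.reduceEqDiff, _root_.ne_eq, _root_.OfNat.ofNat_ne_zero, _root_.not_false_eq_true, _root_.mul_eq_left₀, _root_.Cfsg.Agent.H902.Art.Sh.D.injEq, _root_.true_and, _root_.exists_eq_right_right', _root_.and_true, _root_.or_true, _root_.Nat.add_right_cancel_iff, _root_.mul_eq_mul_left_iff, _root_.Cfsg.Agent.H902.Art.Sh.DD.injEq]; done)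
      | (have hL := tL _ h1; right; left; unfold PairN; simp only [_root_.reduceCtorEq, _root_.Cfsg.Agent.H902.Art.Sh.C.injEq, _root_.false_and, _root_.and_false, _root_.exists_const, _root_.and_self, _root_.Cfsg.Agent.H902.Art.Sh.L.injEq, _root_.or_self, _root_.and_true, _root_.Cfsg.Agent.H902.Art.Sh.U.injEq, _root_.Nat.reduceEqDiff, _root_.or_false, _root_.false_or]; omega)
      | (have hL := tL _ h1; right; right; unfold PairN; simp only [_root_.reduceCtorEq, _root_.and_self, _root_.and_false, _root_.exists_const, _root_.Cfsg.Agent.H902.Art.Sh.C.injEq, _root_.Cfsg.Agent.H902.Art.Sh.L.injEq, _root_.false_and, _root_.or_self, _root_.or_false, _root_.false_or, _root_.Cfsg.Agent.H902.Art.Sh.D.injEq, _root_.true_and]; omega)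
      | (have hL := tL _ h2; right; left; unfold PairN; simp only [_root_.reduceCtorEq, _root_.and_self, _root_.and_false, _root_.exists_const, _root_.Cfsg.Agent.H902.Art.Sh.C.injEq, _root_.Cfsg.Agent.H902.Art.Sh.L.injEq, _root_.false_and, _root_.or_self, _root_.or_false, _root_.false_or, _root_.Cfsg.Agent.H902.Art.Sh.U.injEq, _root_.Nat.reduceEqDiff, _root_.ne_eq, _root_.OfNat.ofNat_ne_zero, _root_.not_false_eq_true, _root_.mul_eq_left₀, _root_.Cfsg.Agent.H902.Art.Sh.D.injEq, _root_.true_and]; omega)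
      | (have hL := tL _ h2; right; right; unfold PairN; simp; omega)
      | (right; left; exact Or.inl ⟨_, by assumption, by congr 1; omega, rfl⟩)
      | (right; right; exact Or.inl ⟨_, by assumption, by congr 1; omega, rfl⟩)
      | (right; left; exact Or.inr (Or.inl ⟨_, by assumption, by congr 1; (clear * - hD; omega), rfl⟩))
      | (right; right; exact Or.inr (Or.inl ⟨_, by assumption, by congr 1; omega, rfl⟩))
      | (right; left; exact Or.inr (Or.inr (Or.inl ⟨_, by assumption, by congr 1; omega, rfl⟩)))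
      | (right; right; exact Or.inr (Or.inr (Or.inl ⟨_, by assumption, by congr 1; omega, rfl⟩)))
      | (right; left; unfold PairN; simp only [_root_.reduceCtorEq, _root_.and_self, _root_.and_false, _root_.exists_const, _root_.Cfsg.Agent.H902.Art.Sh.C.injEq, _root_.and_true, _root_.Cfsg.Agent.H902.Art.Sh.U.injEq, _root_.Nat.reduceEqDiff, _root_.false_and, _root_.or_self, _root_.or_false, _root_.false_or, _root_.ne_eq, _root_.OfNat.ofNat_ne_zero, _root_.not_false_eq_true, _root_.mul_eq_left₀, _root_.Nat.add_right_cancel_iff, _root_.mul_eq_mul_left_iff, _root_.exists_eq_right_right', _root_.Cfsg.Agent.H902.Art.Sh.D.injEq, _root_.true_and]; omega)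
      | (right; right; unfold PairN; simp only [_root_.reduceCtorEq, _root_.Cfsg.Agent.H902.Art.Sh.C.injEq, _root_.false_and, _root_.and_false, _root_.exists_const, _root_.and_self, _root_.true_and, _root_.or_self, _root_.or_false, _root_.false_or, _root_.and_true, _root_.Cfsg.Agent.H902.Art.Sh.U.injEq, _root_.Nat.reduceEqDiff, _root_.Cfsg.Agent.H902.Art.Sh.D.injEq, _root_.Nat.add_right_cancel_iff, _root_.mul_eq_mul_left_iff, _root_.OfNat.ofNat_ne_zero, _root_.exists_eq_right_right']; omega)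

theorem pairN_false {X Y : Sh} {p f g N M : ℕ} (hX : Real X p f N) (hY : Real Y p g M)
    (hE : Eqn X Y (p ^ f) (p ^ g)) (hD : f * DM X = g * DM Y) (h : PairN X Y) : False := by
  have hp := hX.hp
  have hf := hX.hf
  have hg := hY.hf
  have hq := hX.q_ge
  rcases h with ⟨n, hn, rfl, rfl⟩ | ⟨n, hn, rfl, rfl⟩ | ⟨n, hn, rfl, rfl⟩ | ⟨rfl, rfl⟩ | ⟨rfl, rfl⟩ | ⟨rfl, rfl⟩ |
    ⟨rfl, rfl⟩ | ⟨rfl, rfl⟩ | ⟨rfl, rfl⟩ | ⟨rfl, rfl⟩ | ⟨rfl, rfl⟩ | ⟨rfl, rfl⟩ | ⟨n, hn, rfl, rfl⟩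
  · have h1 : f = g := by
      have h2 : f * (2 * n) = g * (2 * n) := hD
      exact Nat.eq_of_mul_eq_mul_right (by omega) h2
    subst h1
    refine contra hX hY hE (e := 3 * f) (lt_pow_c hp.two_le dd_D_le (c := 3) (by norm_num) (by omega)) ?_
    show f * (n * (n + 1)) + 3 * f ≤ f * ((n + 1) ^ 2 - 1)
    have h3 : n * (n + 1) + 3 ≤ (n + 1) ^ 2 - 1 := by
      have : (n + 1) ^ 2 = n * (n + 1) + n + 1 := by ring
      omega
    calc f * (n * (n + 1)) + 3 * f = f * (n * (n + 1) + 3) := by ring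
      _ ≤ _ := Nat.mul_le_mul_left _ h3
  · have h1 : f = g := by
      have h2 : f * (2 * n) = g * (2 * n) := hD
      exact Nat.eq_of_mul_eq_mul_right (by omega) h2
    subst h1
    refine contra hX hY hE (e := f) (dd_C_lt hq) ?_
    show f * (n ^ 2 + 1) + f ≤ f * (n * (n + 1) - 1)
    have h3 : n ^ 2 + 1 + 1 ≤ n * (n + 1) - 1 := by
      have : n * (n + 1) = n ^ 2 + n := by ring
      omega
    calc f * (n ^ 2 + 1) + f = f * (n ^ 2 + 1 + 1) := by ring
      _ ≤ _ := Nat.mul_le_mul_left _ h3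
  · have h1 : f = g := by
      have h2 : f * (2 * n) = g * (2 * n) := hD
      exact Nat.eq_of_mul_eq_mul_right (by omega) h2
    subst h1
    refine contra hX hY hE (e := 3 * f) (lt_pow_c hp.two_le dd_D_le (c := 3) (by norm_num) (by omega)) ?_
    show f * (n ^ 2 + 1) + 3 * f ≤ f * ((n + 1) ^ 2 - 1)
    have h3 : n ^ 2 + 1 + 3 ≤ (n + 1) ^ 2 - 1 := by
      have : (n + 1) ^ 2 = n ^ 2 + 2 * n + 1 := by ring
      omega
    calc f * (n ^ 2 + 1) + 3 * f = f * (n ^ 2 + 1 + 3) := by ring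
      _ ≤ _ := Nat.mul_le_mul_left _ h3
  · have h2 : f * 6 = g * 3 := hD
    refine contra hX hY hE (e := f) (dd_C_lt hq) ?_
    show g * 5 + f ≤ f * 11
    omega
  · have h2 : f * 6 = g * 3 := hD
    refine contra hX hY hE (e := 3 * f) (lt_pow_c hp.two_le dd_D_le (c := 3) (by norm_num) (by omega)) ?_
    show g * 5 + 3 * f ≤ f * 15
    omega
  · have h2 : f * 3 = g * 6 := hD
    have h1 : f = 2 * g := by omega
    subst h1
    have hqq : p ^ (2 * g) = (p ^ g) ^ 2 := by rw [mul_comm, pow_mul]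
    rw [hqq] at hE
    unfold Eqn at hE
    refine ar_L3U4 hY.q_ge (a := dd (.U 4) (p ^ g)) (b := dd (.L 3) ((p ^ g) ^ 2)) (Nat.gcd_pos_of_pos_left _ (by norm_num))
      (gcd3 _) ?_
    have e1 : num (.L 3) ((p ^ g) ^ 2) = (((p ^ g) ^ 2) ^ 2 - 1) * (((p ^ g) ^ 2) ^ 3 - 1) := by
      show ∏ i ∈ range 2, (((p ^ g) ^ 2) ^ (i + 2) - 1) = _
      rw [Finset.prod_range_succ, Finset.prod_range_one]
    have e2 : num (.U 4) (p ^ g) = ((p ^ g) ^ 2 - 1) * ((p ^ g) ^ 3 + 1) * ((p ^ g) ^ 4 - 1) := by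
      show ∏ i ∈ range 3, (if Even i then (p ^ g) ^ (i + 2) - 1 else (p ^ g) ^ (i + 2) + 1) = _
      rw [Finset.prod_range_succ, Finset.prod_range_succ, Finset.prod_range_one]
      simp only [_root_.Even.zero, ↓ _root_.reduceIte, _root_.zero_add, _root_.Nat.not_even_one, _root_.Nat.reduceAdd, _root_.even_two]
    rw [e1, e2] at hE
    exact hE
  · have h2 : f * 18 = g * 3 := hD
    have hd : dd .TE6 (p ^ f) ≤ 3 := Nat.gcd_le_left _ (by norm_num)
    refine contra hX hY hE (e := 2 * f) (lt_pow_c hp.two_le hd (c := 2) (by norm_num) (by omega)) ?_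
    show g * 5 + 2 * f ≤ f * 41
    omega
  · have h2 : f * 6 = g * 6 := hD
    refine contra hX hY hE (e := f) (dd_C_lt hq) ?_
    show g * 9 + f ≤ f * 11
    omega
  · have h2 : f * 18 = g * 6 := hD
    have hd : dd .TE6 (p ^ f) ≤ 3 := Nat.gcd_le_left _ (by norm_num)
    refine contra hX hY hE (e := 2 * f) (lt_pow_c hp.two_le hd (c := 2) (by norm_num) (by omega)) ?_
    show g * 12 + 2 * f ≤ f * 41
    omega
  · have h2 : f * 6 = g * 6 := hD
    refine contra hX hY hE (e := 3 * f) (lt_pow_c hp.two_le dd_D_le (c := 3) (by norm_num) (by omega)) ?_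
    show g * 9 + 3 * f ≤ f * 15
    omega
  · have h2 : f * 6 = g * 18 := hD
    refine contra hX hY hE (e := f) (lt_pow_c hp.two_le dd_D_le (c := 3) (by norm_num) (by omega)) ?_
    show g * 42 + f ≤ f * 15
    omega
  · have h2 : f * 18 = g * 6 := hD
    have hd : dd .TE6 (p ^ f) ≤ 3 := Nat.gcd_le_left _ (by norm_num)
    refine contra hX hY hE (e := 2 * f) (lt_pow_c hp.two_le hd (c := 2) (by norm_num) (by omega)) ?_
    show g * 9 + 2 * f ≤ f * 41
    omega
  · have hD1 : DM (.U (2 * n + 2)) = 4 * n + 2 := by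
      show (if Even (2 * n + 2) then 2 * (2 * n + 2 - 1) else 2 * (2 * n + 2)) = _
      rw [if_pos ⟨n + 1, by ring⟩]; omega
    have hD2 : DM (.U (2 * n + 1)) = 4 * n + 2 := by
      show (if Even (2 * n + 1) then 2 * (2 * n + 1 - 1) else 2 * (2 * n + 1)) = _
      rw [if_neg (Nat.not_even_iff_odd.2 ⟨n, rfl⟩)]; omega
    rw [hD1, hD2] at hD
    have h1 : f = g := Nat.eq_of_mul_eq_mul_right (by omega) hD
    subst h1
    have hd : dd (.U (2 * n + 2)) (p ^ f) < p ^ (2 * f) := by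
      refine lt_of_le_of_lt dd_U_le' ?_
      have : p ^ (2 * f) = p ^ f * p ^ f := by rw [two_mul, pow_add]
      rw [this]; nlinarith only [hq]
    refine contra hX hY hE (e := 2 * f) hd ?_
    show f * ((2 * n + 1) * (2 * n + 1 + 1) / 2 - 1) + 2 * f ≤ f * ((2 * n + 2) * (2 * n + 2 + 1) / 2 - 2)
    have h3 : (2 * n + 1) * (2 * n + 1 + 1) / 2 = (2 * n + 1) * (n + 1) := by
      have : (2 * n + 1) * (2 * n + 1 + 1) = 2 * ((2 * n + 1) * (n + 1)) := by ring
      rw [this, Nat.mul_div_cancel_left _ (by norm_num)]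
    have h4 : (2 * n + 2) * (2 * n + 2 + 1) / 2 = (2 * n + 1) * (n + 1) + (2 * n + 2) := by
      have : (2 * n + 2) * (2 * n + 2 + 1) = 2 * ((2 * n + 1) * (n + 1) + (2 * n + 2)) := by ring
      rw [this, Nat.mul_div_cancel_left _ (by norm_num)]
    rw [h3, h4]
    calc f * ((2 * n + 1) * (n + 1) - 1) + 2 * f = f * ((2 * n + 1) * (n + 1) - 1 + 2) := by ring
      _ ≤ _ := Nat.mul_le_mul_left _ (by (clear * - hn; omega))

/-- the pairs with one shape among `L_n` (`n ≥ 4`), `F₄`, `E₆`, `E₇`, `E₈` -/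
theorem tgt_eq {X Y : Sh} {p f g N M : ℕ} (hT : Tgt X) (hX : Real X p f N) (hY : Real Y p g M)
    (hE : Eqn X Y (p ^ f) (p ^ g)) (hD : f * DM X = g * DM Y) (hTX : TypA X (DM X) (DM X - BM X) (kap X))
    (hTY : TypA Y (DM Y) (DM Y - BM Y) (kap Y)) (hcr : DM X * (DM Y - BM Y) = DM Y * (DM X - BM X)) : X = Y := by
  have hf := hX.hf
  have hg := hY.hf
  have hdX := H66.Cod.dd_pos hX
  have hdY := H66.Cod.dd_pos hY
  have tp : ∀ e : ℕ, 1 ≤ e → 2 ≤ p ^ e := fun e he => hX.hp.two_le.trans (Nat.le_self_pow (by omega) p)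
  have hq : ∀ a b : ℕ, p ^ (a * b) = (p ^ b) ^ a := fun a b => by rw [mul_comm, pow_mul]
  rcases H66.Cod.pairs_tgt hT hTX hTY hcr with h | ⟨n, hn, rfl, h⟩ | ⟨rfl, rfl⟩ | ⟨rfl, rfl⟩ | ⟨rfl, h⟩ |
      ⟨rfl, h⟩ | ⟨rfl, h⟩ | ⟨rfl, h⟩
  · exact h
  · exfalso
    have h1 : f = 2 * g := by
      have h2 : f * n = g * (2 * n) := by
        rcases h with rfl | rfl | rfl
        · exact hD
        · exact hD
        · exact hD
      have h3 : f * n = (2 * g) * n := by rw [h2]; ring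
      exact Nat.eq_of_mul_eq_mul_right (by omega) h3
    subst h1
    rw [hq 2 g] at hE hdX
    rcases h with rfl | rfl | rfl
    · exact H66.Cod.ser_LC hn (tp g hg) hE hdX
    · exact H66.Cod.ser_LD hn (tp g hg) hE hdX
    · exact H66.Cod.ser_LDD hn (tp g hg) hE hdY
  · exfalso
    have h1 : f = 3 * g := by
      have h2 : f * 4 = g * 12 := hD
      omega
    subst h1
    rw [hq 3 g] at hE hdX
    exact H66.Cod.E6_L4 (tp g hg) hE.symm hdX
  · exfalso
    have h1 : f = 6 * g := by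
      have h2 : f * 5 = g * 30 := hD
      omega
    subst h1
    rw [hq 6 g] at hE hdX
    exact H66.Cod.E8_L5 (tp g hg) hE.symm hdX
  · exfalso
    rcases h with rfl | rfl | rfl | rfl | rfl
    · have h1 : g = 4 * f := by
        have h2 : f * 12 = g * 3 := hD
        omega
      subst h1
      rw [hq 4 f] at hE hdY
      exact H66.Cod.F4_L3 (tp f hf) hE hdY
    · have h1 : g = 2 * f := by
        have h2 : f * 12 = g * 6 := hD
        omega
      subst h1
      rw [hq 2 f] at hE hdY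
      exact H66.Cod.F4_C3 (tp f hf) hE hdY
    · have h1 : g = 2 * f := by
        have h2 : f * 12 = g * 6 := hD
        omega
      subst h1
      rw [hq 2 f] at hE hdY
      exact H66.Cod.F4_U4 (tp f hf) hE hdY
    · have h1 : g = 2 * f := by
        have h2 : f * 12 = g * 6 := hD
        omega
      subst h1
      rw [hq 2 f] at hE
      exact H66.Cod.F4_D4 (tp f hf) hE
    · obtain ⟨e, rfl⟩ : ∃ e, f = 3 * e := by
        have h2 : f * 12 = g * 18 := hD
        exact ⟨f / 3, by omega⟩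
      have h1 : g = 2 * e := by
        have h2 : 3 * e * 12 = g * 18 := hD
        omega
      subst h1
      rw [hq 3 e, hq 2 e] at hE
      exact H66.Cod.F4_TE6 (tp e (by omega)) hE
  · exfalso
    rcases h with rfl | rfl | rfl | rfl
    · have h1 : g = 3 * f := by
        have h2 : f * 12 = g * 4 := hD
        omega
      subst h1
      rw [hq 3 f] at hE hdY
      exact H66.Cod.E6_L4 (tp f hf) hE hdY
    all_goals
      obtain ⟨e, rfl⟩ : ∃ e, f = 2 * e := by
        have h2 : f * 12 = g * 8 := hD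
        exact ⟨f / 2, by (clear * - h2; solve | lia | omega)⟩
      have h1 : g = 3 * e := by
        have h2 : 2 * e * 12 = g * 8 := hD
        (clear * - h2; solve | lia | omega)
      subst h1
      rw [hq 2 e, hq 3 e] at hE
      rw [hq 3 e] at hdY
    · exact H66.Cod.E6_C4 (tp e (by omega)) hE hdY
    · exact H66.Cod.E6_DD4 (tp e (by omega)) hE hdY
    · exact H66.Cod.E6_D5 (tp e (by omega)) hE hdY
  · exfalso
    have h1 : g = f := by
      rcases h with rfl | rfl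
      · have h2 : f * 18 = g * 18 := hD
        omega
      · have h2 : f * 18 = g * 18 := hD
        omega
    subst h1
    rcases h with rfl | rfl
    · exact H66.Cod.E7_U9 (tp g hg) hE hdY
    · exact H66.Cod.E7_U10 (tp g hg) hE hdY
  · exfalso
    rcases h with rfl | h
    · have h1 : g = 6 * f := by
        have h2 : f * 30 = g * 5 := hD
        omega
      subst h1
      rw [hq 6 f] at hE hdY
      exact H66.Cod.E8_L5 (tp f hf) hE hdY
    · have h1 : g = 3 * f := by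
        rcases h with rfl | rfl | rfl
        · have h2 : f * 30 = g * 10 := hD
          omega
        · have h2 : f * 30 = g * 10 := hD
          omega
        · have h2 : f * 30 = g * 10 := hD
          omega
      subst h1
      rw [hq 3 f] at hE hdY
      rcases h with rfl | rfl | rfl
      · exact H66.Cod.E8_C5 (tp f hf) hE hdY
      · exact H66.Cod.E8_DD5 (tp f hf) hE hdY
      · exact H66.Cod.E8_D6 (tp f hf) hE hdY

/-- the shapes with two large exponents -/
theorem typA_eq {X Y : Sh} {p f g N M : ℕ} (hX : Real X p f N) (hY : Real Y p g M)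
    (hE : Eqn X Y (p ^ f) (p ^ g)) (hD : f * DM X = g * DM Y) (hBX : DM X < 2 * BM X)
    (hBY : DM Y < 2 * BM Y) (hcr : DM X * (DM Y - BM Y) = DM Y * (DM X - BM X)) : X = Y := by
  have hTX := typA hX hBX
  have hTY := typA hY hBY
  by_cases h1 : Tgt X
  · exact tgt_eq h1 hX hY hE hD hTX hTY hcr
  by_cases h2 : Tgt Y
  · exact (tgt_eq h2 hY hX hE.symm hD.symm hTY hTX hcr.symm).symm
  rcases pairsN hTX hTY hcr h1 h2 with h | h | h
  · exact h
  · exact (pairN_false hX hY hE hD h).elim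
  · exact (pairN_false hY hX hE.symm hD.symm h).elim

end Cfsg.Agent.H719.Quart
end

-- part: H719/Quart/SameTop
section
/-!
# Equal characteristic: the part of the order prime to the characteristic determines the order, III
-/

set_option autoImplicit false

namespace Cfsg.Agent.H719.Quart

open Finset Cfsg.Agent.H902.Lte Cfsg.Agent.H902.Art
open Cfsg.Agent.H66.Cod (Eqn Tgt)

/-- the finite check in characteristic two -/
theorem fin_two3 : ∀ v ∈ List.range' 1 21, ∀ a ∈ ents 2 v, ∀ w ∈ List.range' 1 21,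
    ∀ b ∈ ents 2 w, w ≤ v → _root_.Cfsg.Agent.H902.Art.val 2 a = 2 ^ (v - w) * _root_.Cfsg.Agent.H902.Art.val 2 b → v = w := by
  rw [Cfsg.Agent.H902.EntsFast.ents_eq, Cfsg.Agent.H902.EntsFast.val_eqF]
  (first | (set_option backward.isDefEq.respectTransparency.types false in set_option synthInstance.maxSize 99999 in (exact _root_.Cfsg.Agent.FastDec.of (by decide +kernel))) | decide +kernel)

/-- a bound for the exponent of the characteristic, one large exponent given -/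
theorem bd_DM {X : Sh} {p f N : ℕ} (hX : Real X p f N) (h6 : f * DM X ≤ 6) : f * NN X ≤ 21 := by
  have hf := hX.hf
  have h1 := four_NN hX
  have h2 := kap_le hX
  have h3 : DM X ≤ 6 := by nlinarith only [h6, hf]
  have h4 : 4 * (f * NN X) = (f * DM X) * kap X := by
    calc 4 * (f * NN X) = f * (4 * NN X) := by ring
      _ = f * (DM X * kap X) := by rw [h1]
      _ = (f * DM X) * kap X := by ring
  have h5 : (f * DM X) * kap X ≤ 6 * 10 := Nat.mul_le_mul h6 (by omega)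
  omega

theorem bd_typA {X : Sh} {D d k f : ℕ} (h : TypA X D d k) (hf : 1 ≤ f) (h6 : f * (D - d) ≤ 6) : f * (D * k) ≤ 84 := by
  have hDd : d < D := by cases h <;> omega
  have hf6 : f ≤ 6 := by
    by_contra hcon
    have : 7 * 1 ≤ f * (D - d) := Nat.mul_le_mul (by omega) (by omega)
    omega
  have hD6 : D - d ≤ 6 := by
    calc D - d = 1 * (D - d) := (one_mul _).symm
      _ ≤ f * (D - d) := Nat.mul_le_mul_right _ hf
      _ ≤ 6 := h6
  cases h with
  | L _ h =>
    have hn : D ≤ 7 := by omega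
    interval_cases D <;> interval_cases f <;> omega
  | C n h =>
    have hn : n ≤ 4 := by omega
    interval_cases n <;> interval_cases f <;> omega
  | U4 => interval_cases f <;> omega
  | Ue n h =>
    have hn : n ≤ 3 := by omega
    interval_cases n; interval_cases f <;> omega
  | Uo n h =>
    have hn : n ≤ 2 := by omega
    interval_cases n; interval_cases f <;> omega
  | D n h =>
    have hn : n ≤ 5 := by omega
    interval_cases n <;> interval_cases f <;> omega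
  | DD n h =>
    have hn : n ≤ 4 := by omega
    interval_cases n; interval_cases f <;> omega
  | F4 => interval_cases f <;> omega
  | E6 => interval_cases f <;> omega
  | E7 => interval_cases f <;> omega
  | E8 => interval_cases f <;> omega
  | TE6 => interval_cases f <;> omega

/-- a bound for the exponent of the characteristic, the second large exponent given -/
theorem bd_BM {X : Sh} {p f N : ℕ} (hX : Real X p f N) (hB : DM X < 2 * BM X) (h6 : f * BM X ≤ 6) :
    f * NN X ≤ 21 := by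
  have h1 := four_NN hX
  have hlt := BM_lt hX
  have h2 : DM X - (DM X - BM X) = BM X := by omega
  have h3 := bd_typA (typA hX hB) hX.hf (by rw [h2]; exact h6)
  have h4 : 4 * (f * NN X) = f * (DM X * kap X) := by rw [← h1]; ring
  omega

/-- shapes with one large exponent: a bound -/
theorem bd_typB {X : Sh} {p f N : ℕ} (hX : Real X p f N) (hB : ¬ DM X < 2 * BM X) : f * NN X ≤ f * DM X := by
  have h1 := four_NN hX
  have h2 : kap X ≤ 4 := by
    have := typB hX hB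
    generalize kap X = k at *
    generalize DM X = D at *
    cases this <;> omega
  apply Nat.mul_le_mul_left
  have h3 : DM X * kap X ≤ DM X * 4 := Nat.mul_le_mul_left _ h2
  omega

/-- `f · BM X ≤ 2` for shapes with two large exponents -/
theorem small_BM {X : Sh} {p f N : ℕ} (hX : Real X p f N) (hB : DM X < 2 * BM X) (h2 : f * BM X ≤ 2) :
    X = .L 3 ∧ f = 1 := by
  have hA := typA hX hB
  have hlt := BM_lt hX
  have hf := hX.hf
  have hB1 : 1 ≤ BM X := by omega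
  have hB2 : BM X ≤ 2 := by nlinarith only [h2, hf]
  have hD : DM X = 3 := by
    have := DM_ge hX
    omega
  have hX3 := DM_eq_three hX hD
  refine ⟨hX3, ?_⟩
  subst hX3
  have h3 : f * 2 ≤ 2 := h2
  omega

section top

variable {X Y : Sh} {p f g N M k : ℕ}

/-- equal exponents of the characteristic give `k = 1` -/
theorem one_of_exp (hX : Real X p f N) (hY : Real Y p g M) (hk : N = k * M) (hkp : k = P p k)
    (h : f * NN X = g * NN Y) : k = 1 := by
  have h1 := H66.Cod.exps hX hY hk hkp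
  rw [← pow_mul, ← pow_mul, h] at h1
  have h2 : 0 < p ^ (g * NN Y) := pow_pos hX.hp.pos _
  have h3 : k * p ^ (g * NN Y) = 1 * p ^ (g * NN Y) := by rw [one_mul]; exact h1.symm
  exact Nat.eq_of_mul_eq_mul_right h2 h3

/-- equal shapes -/
theorem one_of_shape (hX : Real X p f N) (hY : Real Y p g M) (hk : N = k * M) (hkp : k = P p k)
    (h : X = Y) (hD : f * DM X = g * DM Y) : k = 1 := by
  subst h
  have h1 := DM_ge hX
  have h2 : f = g := Nat.eq_of_mul_eq_mul_right (by omega) hD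
  subst h2
  exact one_of_exp hX hY hk hkp rfl

theorem one_of_small (hX : Real X 2 f N) (hY : Real Y 2 g M) (hk : N = k * M) (hkp : k = P 2 k)
    (h : f * NN X ≤ 21) : k = 1 := by
  have hf := hX.hf
  have hg := hY.hf
  have hNX := NN_pos hX
  have hNY := NN_pos hY
  have hle := H66.Cod.exp_le hX hY hk hkp
  have hexp := H66.Cod.exps hX hY hk hkp
  have h1 : f * NN X ∈ List.range' 1 21 := by
    rw [List.mem_range'_1]
    have : 1 ≤ f * NN X := Nat.mul_pos hf hNX
    omega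
  have h2 : g * NN Y ∈ List.range' 1 21 := by
    rw [List.mem_range'_1]
    have : 1 ≤ g * NN Y := Nat.mul_pos hg hNY
    omega
  have h3 : _root_.Cfsg.Agent.H902.Art.val 2 (X, f) = 2 ^ (f * NN X - g * NN Y) * _root_.Cfsg.Agent.H902.Art.val 2 (Y, g) := by
    rw [val_eq hX, val_eq hY, hk]
    congr 1
    have h4 : 2 ^ (f * NN X - g * NN Y) * 2 ^ (g * NN Y) = k * 2 ^ (g * NN Y) := by
      rw [← pow_add, Nat.sub_add_cancel hle, pow_mul, pow_mul, hexp]
    exact (Nat.eq_of_mul_eq_mul_right (pow_pos (by norm_num) _) h4).symm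
  exact one_of_exp hX hY hk hkp (fin_two3 _ h1 _ (mem_ents hX rfl) _ h2 _ (mem_ents hY rfl) hle h3)

/-- **The same characteristic**: if the orders of two groups of Lie type in characteristic `p` differ by a power of
`p`, they are equal. -/
theorem same_one (hX : Real X p f N) (hY : Real Y p g M) (hk : N = k * M) (hkp : k = P p k) : k = 1 := by
  have hf := hX.hf
  have hg := hY.hf
  have hNX := NN_pos hX
  have hNY := NN_pos hY
  have hle := H66.Cod.exp_le hX hY hk hkp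
  have hgeX := DM_ge hX
  have hgeY := DM_ge hY
  have hltX := BM_lt hX
  have hltY := BM_lt hY
  have hE : Eqn X Y (p ^ f) (p ^ g) := H66.Cod.cross2 hX hY hk hkp
  by_cases hsmall : p = 2 ∧ f * NN X ≤ 21
  · obtain ⟨rfl, h⟩ := hsmall
    exact one_of_small hX hY hk hkp h
  have hdXY : ∀ r : ℕ, r.Prime → r ≠ p → r ∣ N → r ∣ M := by
    intro r hr hrp hrN
    rw [hk] at hrN
    rcases hr.dvd_mul.1 hrN with h | h
    · exfalso
      rw [hkp, P] at h
      exact hrp ((Nat.prime_dvd_prime_iff_eq hr hX.hp).1 (hr.dvd_of_dvd_pow h))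
    · exact h
  have hdYX : ∀ r : ℕ, r.Prime → r ≠ p → r ∣ M → r ∣ N := by
    intro r hr hrp hrM
    rw [hk]
    exact hrM.mul_left _
  -- the case `L₂(p)`
  by_cases h2 : f * DM X ≤ 2
  · have hD2 : DM X ≤ 2 := by nlinarith only [hf, h2]
    have hX2 := DM_eq_two hX hD2
    subst hX2
    have h3 : f * 2 ≤ 2 := h2
    have h4 : f = 1 := by omega
    subst h4
    apply one_of_exp hX hY hk hkp
    have h5 : 1 * NN (.L 2) = 1 := rfl
    rw [h5] at hle ⊢
    have : 1 ≤ g * NN Y := Nat.mul_pos hg hNY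
    omega
  have h6X : ¬ (p = 2 ∧ f * DM X = 6) := fun h => hsmall ⟨h.1, bd_DM hX h.2.le⟩
  have hD1 := H66.Cod.DM_le2 hX hY hdXY (by omega) h6X
  have hD2 := H66.Cod.DM_le2 hY hX hdYX (by omega) (fun h => hsmall ⟨h.1, bd_DM hX (hD1.trans h.2.le)⟩)
  have hD : f * DM X = g * DM Y := le_antisymm hD1 hD2
  by_cases hBX : DM X < 2 * BM X
  · -- two large exponents
    by_cases h3 : f * BM X ≤ 2
    · obtain ⟨rfl, rfl⟩ := small_BM hX hBX h3
      have h4 : 1 * 3 = g * DM Y := hD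
      have h5 : g ≤ 1 := by
        by_contra hcon
        have h7 : 2 ≤ g := by omega
        have h8 : 2 * 2 ≤ g * DM Y := Nat.mul_le_mul h7 hgeY.1
        omega
      have h6 : g = 1 := by omega
      subst h6
      exact one_of_shape hX hY hk hkp (DM_eq_three hY (by omega)).symm hD
    have hB1 := H66.Cod.BM_le2 hX hY hdXY hBX hD (by omega) (fun h => hsmall ⟨h.1, bd_BM hX hBX h.2.le⟩)
    have hBY : DM Y < 2 * BM Y := by
      have h5 : g * DM Y < g * (2 * BM Y) := by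
        calc g * DM Y = f * DM X := hD.symm
          _ < f * (2 * BM X) := Nat.mul_lt_mul_of_pos_left hBX hf
          _ = 2 * (f * BM X) := by ring
          _ ≤ 2 * (g * BM Y) := Nat.mul_le_mul_left _ hB1
          _ = g * (2 * BM Y) := by ring
      exact Nat.lt_of_mul_lt_mul_left h5
    have hB2 := H66.Cod.BM_le2 hY hX hdYX hBY hD.symm (by omega)
      (fun h => hsmall ⟨h.1, bd_BM hX hBX (hB1.trans h.2.le)⟩)
    have hBB : f * BM X = g * BM Y := le_antisymm hB1 hB2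
    have hdd : f * (DM X - BM X) = g * (DM Y - BM Y) := by
      rw [Nat.mul_sub, Nat.mul_sub, hD, hBB]
    have hcr : DM X * (DM Y - BM Y) = DM Y * (DM X - BM X) := by
      have h7 : f * g * (DM X * (DM Y - BM Y)) = f * g * (DM Y * (DM X - BM X)) := by
        calc f * g * (DM X * (DM Y - BM Y)) = (f * DM X) * (g * (DM Y - BM Y)) := by ring
          _ = (g * DM Y) * (f * (DM X - BM X)) := by rw [hD, hdd]
          _ = f * g * (DM Y * (DM X - BM X)) := by ring
      exact Nat.eq_of_mul_eq_mul_left (Nat.mul_pos hf hg) h7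
    exact one_of_shape hX hY hk hkp (typA_eq hX hY hE hD hBX hBY hcr) hD
  · -- one large exponent
    have hBY : ¬ DM Y < 2 * BM Y := by
      intro hBY
      by_cases h3 : g * BM Y ≤ 2
      · obtain ⟨rfl, rfl⟩ := small_BM hY hBY h3
        have h4 : f * DM X = 1 * 3 := hD
        have h5 : f ≤ 1 := by
          by_contra hcon
          have h7 : 2 ≤ f := by omega
          have h8 : 2 * 2 ≤ f * DM X := Nat.mul_le_mul h7 hgeX.1
          omega
        have h6 : f = 1 := by omega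
        subst h6
        have h7 := DM_eq_three hX (by omega)
        subst h7
        exact hBX (by decide)
      have h4 : ¬ (p = 2 ∧ g * BM Y = 6) := by
        rintro ⟨h5, h6⟩
        apply hsmall
        refine ⟨h5, (bd_typB hX hBX).trans ?_⟩
        rw [hD]
        have h7 : g * DM Y ≤ g * (2 * BM Y) := Nat.mul_le_mul_left _ hBY.le
        have h8 : g * (2 * BM Y) = 2 * (g * BM Y) := by ring
        omega
      have hB1 := H66.Cod.BM_le2 hY hX hdYX hBY hD.symm (by omega) h4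
      apply hBX
      have h5 : f * DM X < f * (2 * BM X) := by
        calc f * DM X = g * DM Y := hD
          _ < g * (2 * BM Y) := Nat.mul_lt_mul_of_pos_left hBY hg
          _ = 2 * (g * BM Y) := by ring
          _ ≤ 2 * (f * BM X) := Nat.mul_le_mul_left _ hB1
          _ = f * (2 * BM X) := by ring
      exact Nat.lt_of_mul_lt_mul_left h5
    exact one_of_shape hX hY hk hkp (typB_eq hX hY hE hD hBX hBY) hD

end top

end Cfsg.Agent.H719.Quart
end

-- part: H725/Cd/Small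
section
/-!
# Codegrees of simple groups (helper725, S4795): the small groups

`M` a given small number; the orders `N` of groups of Lie type in a characteristic `r` other than `p` with
`M = k N`, `k |N|_r² < N`.
-/

set_option autoImplicit false

namespace Cfsg.Agent.H725.Cd

open Cfsg.Agent.H902.Art Cfsg.Agent.OrdDiv

/-- the factorization by trial division -/
def facAux : ℕ → ℕ → ℕ → List (ℕ × ℕ)
  | 0, _, _ => []
  | k + 1, p, n =>
    if n ≤ 1 then [] else
      if n % p = 0 then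
        let e := (List.range 60).foldl (fun a i => if n % p ^ (i + 1) = 0 then i + 1 else a) 0
        (p, e) :: facAux k (p + 1) (n / p ^ e)
      else facAux k (p + 1) n

/-- the factorization of a number whose prime divisors are less than `80` -/
def fac (n : ℕ) : List (ℕ × ℕ) := facAux 80 2 n

/-- the test -/
def chk (p M : ℕ) : Bool :=
  (fac M).all fun x => (x.1 == p) || (List.range (x.2 + 1)).all fun v => (ents x.1 v).all fun a =>
    !(M % val x.1 a == 0 && decide (M / val x.1 a * (x.1 ^ v) ^ 2 < val x.1 a)) || val x.1 a == M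

theorem of_chk {p M₀ : ℕ} (hv : valid (fac M₀) M₀ = true) (hc : chk p M₀ = true) {Y : H902.Art.Sh} {r g k N : ℕ}
    (hY : H902.Art.Real Y r g N) (hk : M₀ = k * N) (hrp : r ≠ p) (hlt : k * P r N ^ 2 < N) : N = M₀ := by
  have hr := hY.hp
  have hM₀ : M₀ ≠ 0 := (valid_pos hv).ne'
  have hN : N ≠ 0 := by rintro rfl; exact hM₀ (by rw [hk, mul_zero])
  have hk0 : k ≠ 0 := by rintro rfl; exact hM₀ (by rw [hk, zero_mul])
  have hexp := P_prime_exp hY
  have hpos : 1 ≤ N.factorization r := by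
    rw [← hexp]
    exact Nat.mul_pos hY.hf (NN_pos hY)
  have hd : r ^ N.factorization r ∣ M₀ := (P_dvd r N).trans (by rw [hk]; exact dvd_mul_left _ _)
  obtain ⟨e, he, hle⟩ := exists_pair hv hr hpos hd
  unfold chk at hc
  rw [List.all_eq_true] at hc
  have h1 := hc _ he
  have h2 : (r == p) = false := by simpa using hrp
  simp only [h2, Bool.false_or] at h1
  rw [List.all_eq_true] at h1
  have h3 := h1 (N.factorization r) (List.mem_range.2 (by omega))
  rw [List.all_eq_true] at h3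
  have h4 := h3 _ (mem_ents hY hexp)
  rw [val_eq hY] at h4
  by_contra hne
  have h5 : (N == M₀) = false := by simpa using hne
  have h6 : M₀ / N = k := by rw [hk]; exact Nat.mul_div_cancel _ (Nat.pos_of_ne_zero hN)
  rw [h5, Bool.or_false, h6] at h4
  have h7 : M₀ % N = 0 := by rw [hk]; exact Nat.mul_mod_left _ _
  rw [h7] at h4
  have h8 : k * (r ^ N.factorization r) ^ 2 < N := hlt
  simp [h8] at h4

/-- the small groups: `(p, order)` -/
def smallL : List (ℕ × ℕ) :=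
  [(3, 25920), (5, 4680000), (7, 138297600), (3, 1721606400), (17, 1004497044480), (3, 4245696), (2, 25920),
    (3, 3265920), (2, 1451520), (3, 4585351680), (2, 13685760), (3, 258190571520), (2, 9196830720),
    (2, 227787103272960), (3, 65784756654489600), (2, 174182400), (3, 4952179814400), (3, 6065280),
    (3, 6048), (7, 5663616), (2, 5515776)]

theorem small_valid : ∀ x ∈ smallL, valid (fac x.2) x.2 = true := by decide +kernel

private def smallB : List (ℕ × ℕ) := [(2, 14), (3, 8), (5, 2), (7, 1), (11, 1), (13, 1), (19, 1), (29, 1), (41, 1), (43, 1), (61, 1)]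

private theorem small_b : ∀ x ∈ smallL, ∀ y ∈ fac x.2, y.1 = x.1 ∨ ∃ b ∈ smallB, b.1 = y.1 ∧ y.2 ≤ b.2 := by decide +kernel

private theorem small_c : (smallB.all fun b => (List.range (b.2 + 1)).all fun v => (ents b.1 v).all fun a =>
    smallL.all fun x => (b.1 == x.1) ||
      (!(x.2 % val b.1 a == 0 && decide (x.2 / val b.1 a * (b.1 ^ v) ^ 2 < val b.1 a)) || val b.1 a == x.2)) = true := by
  rw [Cfsg.Agent.H902.EntsFast.ents_eq, Cfsg.Agent.H902.EntsFast.val_eqF]
  decide +kernel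

theorem small_chk : ∀ x ∈ smallL, chk x.1 x.2 = true := fun x hx => List.all_eq_true.2 fun y hy => by
  rcases small_b x hx y hy with h | ⟨b, hb, h1, h2⟩
  · rw [h, BEq.rfl, Bool.true_or]
  · by_cases h : (y.1 == x.1) = true
    · rw [h, Bool.true_or]
    · rw [Bool.or_eq_true]
      refine Or.inr (List.all_eq_true.2 fun v hv => List.all_eq_true.2 fun a ha => ?_)
      rw [← h1] at h ha ⊢
      exact ((Bool.or_eq_true _ _).mp (List.all_eq_true.1 (List.all_eq_true.1 (List.all_eq_true.1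
        (List.all_eq_true.1 small_c b hb) v (List.mem_range.2 (by have := List.mem_range.1 hv; omega))) a ha) x hx)).resolve_left h

theorem small_iso {p M₀ : ℕ} (hx : (p, M₀) ∈ smallL) {Y : H902.Art.Sh} {r g k N : ℕ}
    (hY : H902.Art.Real Y r g N) (hk : M₀ = k * N) (hrp : r ≠ p) (hlt : k * P r N ^ 2 < N) : N = M₀ :=
  of_chk (small_valid _ hx) (small_chk _ hx) hY hk hrp hlt

end Cfsg.Agent.H725.Cd
end

-- part: H725/Cd/U3
section
/-!
# Codegrees of simple groups (helper725, S4795): `H = U_3(q)` in cross characteristic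
-/

set_option autoImplicit false

namespace Cfsg.Agent.H725.Cd

open Finset Cfsg.Agent.H902.Art

theorem num_U3 (q : ℕ) : num (.U 3) q = (q ^ 2 - 1) * (q ^ 3 + 1) := by
  show ∏ i ∈ range 2, (if Even i then q ^ (i + 2) - 1 else q ^ (i + 2) + 1) = _
  rw [Finset.prod_range_succ, Finset.prod_range_one]
  simp only [_root_.Even.zero, ↓ _root_.reduceIte, _root_.zero_add, _root_.Nat.not_even_one, _root_.Nat.reduceAdd]

/-- the order of `U_3(q)`, `q = t + 3` -/
theorem U3_eq {p f M : ℕ} (h : H902.Art.Real (.U 3) p f M) : ∃ t, p ^ f = t + 3 ∧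
    Nat.gcd 3 (t + 4) * M = (t + 3) ^ 3 * ((t + 2) * (t + 4) ^ 2 * (t ^ 2 + 5 * t + 7)) := by
  have hok : 3 ≤ 3 ∧ (3 = 3 → 3 ≤ p ^ f) := h.ok
  have hq := hok.2 rfl
  obtain ⟨t, ht⟩ := Nat.exists_eq_add_of_le' hq
  refine ⟨t, ht, ?_⟩
  have h1 := h.eq
  rw [num_U3, ht] at h1
  have h2 : dd (.U 3) (t + 3) = Nat.gcd 3 (t + 4) := rfl
  have h3 : NN (.U 3) = 3 := rfl
  rw [h2, h3] at h1
  rw [h1]
  have h4 : (t + 3) ^ 2 - 1 = (t + 2) * (t + 4) := by
    have : (t + 3) ^ 2 = (t + 2) * (t + 4) + 1 := by ring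
    rw [this, Nat.add_sub_cancel]
  rw [h4]
  ring

/-- the `r`-part -/
theorem U3_P {p f M : ℕ} (h : H902.Art.Real (.U 3) p f M) {t : ℕ} (ht : p ^ f = t + 3)
    (hE : Nat.gcd 3 (t + 4) * M = (t + 3) ^ 3 * ((t + 2) * (t + 4) ^ 2 * (t ^ 2 + 5 * t + 7)))
    {r : ℕ} (hr : r.Prime) (hrp : r ≠ p) :
    P r (Nat.gcd 3 (t + 4)) * P r M = P r (t + 2) * P r (t + 4) ^ 2 * P r (t ^ 2 + 5 * t + 7) := by
  have h1 := h.not_dvd_q hr hrp
  rw [ht] at h1
  have h0 : Nat.gcd 3 (t + 4) ≠ 0 := by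
    intro h2
    have := Nat.eq_zero_of_gcd_eq_zero_left h2
    omega
  rw [← P_mul h0 h.M_ne, hE, P_mul (by positivity) (by (clear * -; positivity)), P_mul (by positivity) (by (clear * -; positivity)),
    P_mul (by positivity) (by positivity), P_eq_one (fun h2 => h1 (hr.dvd_of_dvd_pow h2)), one_mul, pow_two,
    P_mul (by positivity) (by positivity), ← pow_two]

theorem gcd_three (n : ℕ) : (3 ∣ n ∧ Nat.gcd 3 n = 3) ∨ (¬ 3 ∣ n ∧ Nat.gcd 3 n = 1) := by
  by_cases h : 3 ∣ n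
  · left; exact ⟨h, Nat.gcd_eq_left h⟩
  · right; exact ⟨h, (Nat.Prime.coprime_iff_not_dvd Nat.prime_three).2 h⟩

set_option maxHeartbeats 1000000 in
/-- `r`-parts: either `|U_3(q)|_r ^ 4 < |U_3(q)|` or `q + 1` is a power of `r` -/
theorem U3_or {p f M : ℕ} (h : H902.Art.Real (.U 3) p f M) {t : ℕ} (ht : p ^ f = t + 3)
    (hE : Nat.gcd 3 (t + 4) * M = (t + 3) ^ 3 * ((t + 2) * (t + 4) ^ 2 * (t ^ 2 + 5 * t + 7)))
    {r : ℕ} (hr : r.Prime) (hrp : r ≠ p) :
    P r M ^ 4 < M ∨ (P r (t + 4) = t + 4 ∧ ((r ≠ 2 ∧ P r M = (t + 4) ^ 2) ∨ (r = 2 ∧ P r M = 2 * (t + 4) ^ 2))) := by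
  have hP := U3_P h ht hE hr hrp
  have hrq := h.not_dvd_q hr hrp
  rw [ht] at hrq
  have hM0 := h.M_ne
  have hPM : 0 < P r M := P_pos hr
  -- the order is not too small
  have hdM : (t + 3) ^ 3 * ((t + 2) * (t + 4) ^ 2 * (t ^ 2 + 5 * t + 7)) ≤ 3 * M := by
    rw [← hE]
    exact Nat.mul_le_mul_right _ (Nat.gcd_le_left _ (by norm_num))
  set E := (t + 3) ^ 3 * ((t + 2) * (t + 4) ^ 2 * (t ^ 2 + 5 * t + 7)) with hEdef
  by_cases hA : r ∣ t + 4
  · by_cases hr2 : r = 2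
    · -- `r = 2`
      subst hr2
      have hC : P 2 (t ^ 2 + 5 * t + 7) = 1 := by
        apply P_eq_one
        have : Odd (t ^ 2 + 5 * t + 7) := by
          have : Even t := by
            obtain ⟨c, hc⟩ := hA
            exact ⟨c - 2, by (clear * - hc; omega)⟩
          obtain ⟨c, rfl⟩ := this
          exact ⟨2 * c ^ 2 + 5 * c + 3, by ring⟩
        exact fun h2 => (Nat.not_even_iff_odd.2 this) (even_iff_two_dvd.2 h2)
      have hd : P 2 (Nat.gcd 3 (t + 4)) = 1 := by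
        apply P_eq_one
        rcases gcd_three (t + 4) with h2 | h2 <;> rw [h2.2] <;> norm_num
      rw [hC, hd, one_mul, mul_one] at hP
      obtain ⟨c, hc⟩ := hA
      rcases Nat.even_or_odd c with ⟨c', hc'⟩ | hodd
      · -- `4 ∣ t + 4`
        have e2 : P 2 (t + 2) = 2 := by
          have h3 : t + 2 = 2 * (2 * (c' - 1) + 1) := by (clear * - hc hc'; omega)
          rw [h3]
          exact P_two_two_mul ⟨c' - 1, rfl⟩
        rw [e2] at hP
        rcases P_two_eq_or (a := t + 4) (by omega) with h3 | h3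
        · right
          refine ⟨h3, Or.inr ⟨rfl, by rw [hP, h3]⟩⟩
        · left
          have h4 : 6561 * (P 2 M) ^ 4 ≤ 16 * (t + 4) ^ 8 := by
            calc 6561 * (P 2 M) ^ 4 = 16 * (3 * P 2 (t + 4)) ^ 8 := by rw [hP]; ring
              _ ≤ 16 * (t + 4) ^ 8 := Nat.mul_le_mul_left _ (Nat.pow_le_pow_left h3 8)
          have h5 : 48 * (t + 4) ^ 8 + (6513 * t ^ 8 + 155928 * t ^ 7 + 1625307 * t ^ 6 + 9636663 * t ^ 5 +
            35553390 * t ^ 4 + 83570565 * t ^ 3 + 122158914 * t ^ 2 + 101413920 * t + 36535200) = 6561 * E := by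
            rw [hEdef]; ring
          have h6 : 48 * (t + 4) ^ 8 < 6561 * E := by
            rw [← h5]; exact Nat.lt_add_of_pos_right (Nat.succ_pos _)
          clear h5
          generalize (t + 4) ^ 8 = X at h4 h6
          omega
      · -- `t + 4 = 2 c`, `c` odd
        have e2 : P 2 (t + 4) = 2 := by
          rw [hc]
          exact P_two_two_mul hodd
        left
        have h3 : P 2 M ≤ 4 * (t + 2) := by
          rw [hP, e2]
          have := P_le (r := 2) (a := t + 2) (by omega)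
          (clear * - this; omega)
        have h4 : (P 2 M) ^ 4 ≤ 256 * (t + 2) ^ 4 := by
          calc (P 2 M) ^ 4 ≤ (4 * (t + 2)) ^ 4 := Nat.pow_le_pow_left h3 4
            _ = _ := by ring
        obtain ⟨s, rfl⟩ : ∃ s, t = s + 2 := ⟨t - 2, by obtain ⟨e, he⟩ := hodd; (clear * - hc he; omega)⟩
        have h5 : 768 * (s + 2 + 2) ^ 4 + (s ^ 8 + 40 * s ^ 7 + 699 * s ^ 6 + 6971 * s ^ 5 + 42632 * s ^ 4 +
          160461 * s ^ 3 + 355632 * s ^ 2 + 412692 * s + 181392) = E := by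
          rw [hEdef]; ring
        have h6 : 768 * (s + 2 + 2) ^ 4 < E := by
          rw [← h5]; exact Nat.lt_add_of_pos_right (Nat.succ_pos _)
        clear h5
        generalize (s + 2 + 2) ^ 4 = X at h4 h6
        omega
    · -- `r` odd
      have hB : P r (t + 2) = 1 := by
        apply P_eq_one
        intro h2
        have h3 := Nat.dvd_sub hA h2
        have h4 : t + 4 - (t + 2) = 2 := by omega
        rw [h4] at h3
        exact hr2 ((Nat.prime_dvd_prime_iff_eq hr Nat.prime_two).1 h3)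
      have hPa : P r M = P r (t + 4) ^ 2 := by
        by_cases hr3 : r = 3
        · subst hr3
          have hg : Nat.gcd 3 (t + 4) = 3 := Nat.gcd_eq_left hA
          have h33 : P 3 3 = 3 := by
            have := P_pow_self (r := 3) (k := 1) (a := 1) Nat.prime_three (by norm_num)
            simpa using this
          have hC : P 3 (t ^ 2 + 5 * t + 7) = 3 := by
            obtain ⟨c, hc⟩ := hA
            obtain ⟨b, hb⟩ : ∃ b, c = b + 2 := ⟨c - 2, by omega⟩
            have ht2 : t = 3 * b + 2 := by omega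
            have h5 : t ^ 2 + 5 * t + 7 = 3 ^ 1 * (3 * (b ^ 2 + 3 * b + 2) + 1) := by rw [ht2]; ring
            rw [h5, P_pow_self Nat.prime_three]
            · norm_num
            · omega
          rw [hg, h33, hB, hC, one_mul] at hP
          have : 3 * P 3 M = 3 * P 3 (t + 4) ^ 2 := by rw [hP]; ring
          exact Nat.eq_of_mul_eq_mul_left (by norm_num) this
        · have hC : P r (t ^ 2 + 5 * t + 7) = 1 := by
            apply P_eq_one
            intro h2
            have h3 : r ∣ (t + 4) * (t + 1) := hA.mul_right _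
            have h4 := Nat.dvd_sub h2 h3
            have h5 : t ^ 2 + 5 * t + 7 - (t + 4) * (t + 1) = 3 := by
              have : t ^ 2 + 5 * t + 7 = (t + 4) * (t + 1) + 3 := by ring
              omega
            rw [h5] at h4
            exact hr3 ((Nat.prime_dvd_prime_iff_eq hr Nat.prime_three).1 h4)
          have hd : P r (Nat.gcd 3 (t + 4)) = 1 := by
            apply P_eq_one
            intro h2
            exact hr3 ((Nat.prime_dvd_prime_iff_eq hr Nat.prime_three).1 (h2.trans (Nat.gcd_dvd_left _ _)))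
          rw [hd, hB, hC, one_mul, one_mul, mul_one] at hP
          exact hP
      rcases P_eq_or hr (a := t + 4) (by omega) with h3 | h3
      · right
        exact ⟨h3, Or.inl ⟨hr2, by rw [hPa, h3]⟩⟩
      · left
        have h4 : 256 * (P r M) ^ 4 ≤ (t + 4) ^ 8 := by
          calc 256 * (P r M) ^ 4 = (2 * P r (t + 4)) ^ 8 := by rw [hPa]; ring
            _ ≤ (t + 4) ^ 8 := Nat.pow_le_pow_left h3 8
        have h5 : (t + 4) ^ 8 + (84 * t ^ 8 + 2008 * t ^ 7 + 20887 * t ^ 6 + 123491 * t ^ 5 + 453830 * t ^ 4 +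
          1061001 * t ^ 3 + 1539242 * t ^ 2 + 1264288 * t + 448544) = 85 * E := by
          rw [hEdef]; ring
        have h6 : (t + 4) ^ 8 < 85 * E := by
          rw [← h5]; exact Nat.lt_add_of_pos_right (Nat.succ_pos _)
        clear h5
        generalize (t + 4) ^ 8 = X at h4 h6
        omega
  · left
    have hA1 : P r (t + 4) = 1 := P_eq_one hA
    have hd : P r (Nat.gcd 3 (t + 4)) = 1 := by
      apply P_eq_one
      intro h2
      exact hA (h2.trans (Nat.gcd_dvd_right _ _))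
    rw [hd, hA1, one_mul, one_pow, mul_one] at hP
    have hBC : P r (t + 2) = 1 ∨ P r (t ^ 2 + 5 * t + 7) = 1 := by
      by_contra hcon
      push Not at hcon
      have h1 : r ∣ t + 2 := by
        by_contra h2; exact hcon.1 (P_eq_one h2)
      have h2 : r ∣ t ^ 2 + 5 * t + 7 := by
        by_contra h2; exact hcon.2 (P_eq_one h2)
      have h3 : r ∣ (t + 2) * (t + 3) := h1.mul_right _
      have h4 := Nat.dvd_sub h2 h3
      have h5 : t ^ 2 + 5 * t + 7 - (t + 2) * (t + 3) = 1 := by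
        have : t ^ 2 + 5 * t + 7 = (t + 2) * (t + 3) + 1 := by ring
        omega
      rw [h5] at h4
      exact hr.one_lt.ne' (Nat.dvd_one.1 h4)
    have hC3 : (t ^ 2 + 5 * t + 7) ^ 4 < E := by
      have h5 : (t ^ 2 + 5 * t + 7) ^ 3 + (4 * t ^ 5 + 53 * t ^ 4 + 282 * t ^ 3 + 750 * t ^ 2 + 993 * t + 521) =
        (t + 3) ^ 3 * ((t + 2) * (t + 4) ^ 2) := by ring
      calc (t ^ 2 + 5 * t + 7) ^ 4 = (t ^ 2 + 5 * t + 7) ^ 3 * (t ^ 2 + 5 * t + 7) := by ring
        _ < ((t + 3) ^ 3 * ((t + 2) * (t + 4) ^ 2)) * (t ^ 2 + 5 * t + 7) := by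
          apply Nat.mul_lt_mul_of_pos_right _ (by (clear * -; positivity))
          rw [← h5]; exact Nat.lt_add_of_pos_right (Nat.succ_pos _)
        _ = E := by rw [hEdef]; ring
    rcases gcd_three (t + 4) with ⟨h3, h4⟩ | ⟨h3, h4⟩
    · -- `d = 3`
      rw [h4] at hE
      have hr3 : r ≠ 3 := by rintro rfl; exact hA h3
      have hle : 3 * P r M ≤ t ^ 2 + 5 * t + 7 := by
        rcases hBC with h5 | h5
        · rw [hP, h5, one_mul]
          have h6 : 3 ∣ t ^ 2 + 5 * t + 7 := by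
            obtain ⟨c, hc⟩ := h3
            obtain ⟨b, hb⟩ : ∃ b, c = b + 2 := ⟨c - 2, by omega⟩
            have ht2 : t = 3 * b + 2 := by omega
            exact ⟨3 * (b ^ 2 + 3 * b + 2) + 1, by rw [ht2]; ring⟩
          obtain ⟨c, hc⟩ := h6
          have h7 : c ≠ 0 := by rintro rfl; omega
          have h8 : P r (t ^ 2 + 5 * t + 7) = P r c := by
            rw [hc, P_mul (by norm_num) h7, P_eq_one, one_mul]
            intro h9
            exact hr3 ((Nat.prime_dvd_prime_iff_eq hr Nat.prime_three).1 h9)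
          have h9 := P_le (r := r) h7
          rw [h8]
          (clear * - hc h9; omega)
        · rw [hP, h5, mul_one]
          have h9 := P_le (r := r) (a := t + 2) (by omega)
          have h10 : 3 * (t + 2) ≤ t ^ 2 + 5 * t + 7 := by linarith only [_root_.sq_nonneg (↑t : ℤ), _root_.Nat.cast_nonneg (α := ℤ) (t)]
          omega
      have h5 : (3 * P r M) ^ 4 < 3 * M := by
        calc (3 * P r M) ^ 4 ≤ (t ^ 2 + 5 * t + 7) ^ 4 := Nat.pow_le_pow_left hle 4
          _ < E := hC3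
          _ = _ := hE.symm
      have h6 : (3 * P r M) ^ 4 = 81 * P r M ^ 4 := by ring
      omega
    · rw [h4, one_mul] at hE
      have hle : P r M ≤ t ^ 2 + 5 * t + 7 := by
        rcases hBC with h5 | h5
        · rw [hP, h5, one_mul]
          exact P_le (by (clear * -; positivity))
        · rw [hP, h5, mul_one]
          have h9 := P_le (r := r) (a := t + 2) (by omega)
          linarith only [h9, _root_.sq_nonneg (↑t : ℤ), _root_.Nat.cast_nonneg (α := ℤ) (t)]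
      calc (P r M) ^ 4 ≤ (t ^ 2 + 5 * t + 7) ^ 4 := Nat.pow_le_pow_left hle 4
        _ < E := hC3
        _ = _ := hE.symm

end Cfsg.Agent.H725.Cd
end

-- part: H725/Cd/U3Cross
section
/-!
# Codegrees of simple groups (helper725, S4795): `H = U_3(q)` in cross characteristic, the main theorem
-/

set_option autoImplicit false

namespace Cfsg.Agent.H725.Cd

open Finset Cfsg.Agent.H902.Art

/-- the bounds on `M` -/
theorem bound4 {Y : H902.Art.Sh} {r g k N M R : ℕ} (hY : H902.Art.Real Y r g N) (hk : M = k * N)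
    (hlt : k * P r N ^ 2 < N) (hR : P r N ≤ R) : M < R ^ 4 := by
  have h5 := hY.lt_cube
  have hP0 : 0 < P r N := P_pos hY.hp
  have h7 : k < P r N := by
    have h8 : k * P r N ^ 2 < P r N * P r N ^ 2 := by
      calc k * P r N ^ 2 < N := hlt
        _ < P r N ^ 3 := h5
        _ = P r N * P r N ^ 2 := by ring
    exact Nat.lt_of_mul_lt_mul_right h8
  calc M = k * N := hk
    _ ≤ P r N * N := Nat.mul_le_mul_right _ h7.le
    _ < P r N * P r N ^ 3 := Nat.mul_lt_mul_of_pos_left h5 hP0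
    _ = P r N ^ 4 := by ring
    _ ≤ R ^ 4 := Nat.pow_le_pow_left hR 4

/-- the better bound if `Y ≠ L_2` -/
theorem bound10 {Y : H902.Art.Sh} {r g k N M R : ℕ} (hY : H902.Art.Real Y r g N) (hYL : Y ≠ .L 2) (hk : M = k * N)
    (hlt : k * P r N ^ 2 < N) (hR : P r N ≤ R) : M ^ 3 < R ^ 10 := by
  have h5 := hY.cube hYL
  have hP0 : 0 < P r N := P_pos hY.hp
  have hN0 : 0 < N := Nat.pos_of_ne_zero hY.M_ne
  have h7 : k ^ 3 < P r N ^ 2 := by
    have h8 : k ^ 3 * P r N ^ 6 < P r N ^ 2 * P r N ^ 6 := by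
      calc k ^ 3 * P r N ^ 6 = (k * P r N ^ 2) ^ 3 := by ring
        _ < N ^ 3 := Nat.pow_lt_pow_left hlt (by norm_num)
        _ ≤ P r N ^ 8 := h5
        _ = P r N ^ 2 * P r N ^ 6 := by ring
    exact Nat.lt_of_mul_lt_mul_right h8
  calc M ^ 3 = k ^ 3 * N ^ 3 := by rw [hk]; ring
    _ < P r N ^ 2 * N ^ 3 := Nat.mul_lt_mul_of_pos_right h7 (by positivity)
    _ ≤ P r N ^ 2 * P r N ^ 8 := Nat.mul_le_mul_left _ h5
    _ = P r N ^ 10 := by ring
    _ ≤ R ^ 10 := Nat.pow_le_pow_left hR 10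

theorem poly_a (s : ℕ) : 27 * (s + 3 + 4) ^ 14 < (s + 3 + 3) ^ 9 * ((s + 3 + 2) ^ 3 * ((s + 3) ^ 2 + 5 * (s + 3) + 7) ^ 3) := by
  have h : 27 * (s + 3 + 4) ^ 14 + (s ^ 18 + 102 * s ^ 17 + 4914 * s ^ 16 + 148573 * s ^ 15 + 3159111 * s ^ 14 +
    50164206 * s ^ 13 + 616464962 * s ^ 12 + 5993929818 * s ^ 11 + 46733846055 * s ^ 10 + 294256152197 * s ^ 9 +
    1498724982873 * s ^ 8 + 6153051805416 * s ^ 7 + 20173483946727 * s ^ 6 + 51944485933206 * s ^ 5 +
    102218839639389 * s ^ 4 + 147080045585412 * s ^ 3 + 143499386144583 * s ^ 2 + 82134169125354 * s + 19216057225077) =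
    (s + 3 + 3) ^ 9 * ((s + 3 + 2) ^ 3 * ((s + 3) ^ 2 + 5 * (s + 3) + 7) ^ 3) := by ring
  rw [← h]
  exact Nat.lt_add_of_pos_right (Nat.add_pos_right _ (by norm_num))

theorem poly_b (s : ℕ) :
    1024 * (s + 12 + 4) ^ 14 < (s + 12 + 3) ^ 9 * ((s + 12 + 2) ^ 3 * ((s + 12) ^ 2 + 5 * (s + 12) + 7) ^ 3) := by
  have h : 1024 * (s + 12 + 4) ^ 14 + (s ^ 18 + 264 * s ^ 17 + 32913 * s ^ 16 + 2574685 * s ^ 15 + 141619649 * s ^ 14 +
    5816373781 * s ^ 13 + 184843333996 * s ^ 12 + 4647424395851 * s ^ 11 + 93707016001297 * s ^ 10 +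
    1526402546099626 * s ^ 9 + 20130961533039813 * s ^ 8 + 214404527450936967 * s ^ 7 + 1829849504345305563 * s ^ 6 +
    12339909222607659797 * s ^ 5 + 64275341121196102126 * s ^ 4 + 249351971969846823449 * s ^ 3 +
    677856194989383137546 * s ^ 2 + 1150946556143452506844 * s + 917165447899521168536) =
    (s + 12 + 3) ^ 9 * ((s + 12 + 2) ^ 3 * ((s + 12) ^ 2 + 5 * (s + 12) + 7) ^ 3) := by ring
  rw [← h]
  exact Nat.lt_add_of_pos_right (Nat.add_pos_right _ (by norm_num))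

theorem poly_c (t : ℕ) : (t + 4) ^ 8 < 108 * ((t + 3) ^ 3 * ((t + 2) * (t + 4) ^ 2 * (t ^ 2 + 5 * t + 7))) := by
  have h : (t + 4) ^ 8 + (107 * t ^ 8 + 2560 * t ^ 7 + 26660 * t ^ 6 + 157876 * t ^ 5 + 581480 * t ^ 4 + 1363612 * t ^ 3 +
    1986776 * t ^ 2 + 1641856 * t + 587648) = 108 * ((t + 3) ^ 3 * ((t + 2) * (t + 4) ^ 2 * (t ^ 2 + 5 * t + 7))) := by
    ring
  rw [← h]
  exact Nat.lt_add_of_pos_right (Nat.add_pos_right _ (by norm_num))

theorem poly_d (t : ℕ) : (t + 4) ^ 8 < 16 * ((t + 3) ^ 3 * ((t + 2) * (t + 4) ^ 2 * (t ^ 2 + 5 * t + 7))) := by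
  have h : (t + 4) ^ 8 + (15 * t ^ 8 + 352 * t ^ 7 + 3568 * t ^ 6 + 20336 * t ^ 5 + 70880 * t ^ 4 + 153168 * t ^ 3 +
    196640 * t ^ 2 + 131584 * t + 31232) = 16 * ((t + 3) ^ 3 * ((t + 2) * (t + 4) ^ 2 * (t ^ 2 + 5 * t + 7))) := by
    ring
  rw [← h]
  exact Nat.lt_add_of_pos_right (Nat.add_pos_right _ (by norm_num))

theorem fin_a : ∀ a ∈ Nat.divisors 168, 5 ≤ a →
    ((2 * (a - 5 + 3) ^ 2 * (a - 5 + 2) * ((a - 5) ^ 2 + 5 * (a - 5) + 7)) %
      ((a - 5 + 5) * ((a - 5) ^ 2 + 8 * (a - 5) + 17)) = 0) → a - 5 = 1 := by decide +kernel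

theorem fin_b : ∀ a ∈ Nat.divisors 84, 5 ≤ a →
    (((a - 5 + 3) ^ 2 * (a - 5 + 2) * ((a - 5) ^ 2 + 5 * (a - 5) + 7)) %
      ((a - 5 + 5) * ((a - 5) ^ 2 + 8 * (a - 5) + 17)) = 0) → a - 5 = 1 := by decide +kernel

/-- the first divisibility -/
theorem dvd_a {t c : ℕ} (h : c * ((t + 5) * (t ^ 2 + 8 * t + 17)) = 2 * (t + 3) ^ 2 * (t + 2) * (t ^ 2 + 5 * t + 7)) :
    t = 1 := by
  have h1 : t + 5 ∣ 168 := by
    have h2 : t + 5 ∣ 2 * (t + 3) ^ 2 * (t + 2) * (t ^ 2 + 5 * t + 7) := by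
      rw [← h, ← mul_assoc]
      exact (Dvd.intro_left c rfl).mul_right _
    have h3 : t + 5 ∣ 2 * (t + 3) ^ 2 * (t + 2) * (t ^ 2 + 5 * t + 7) + 168 :=
      ⟨2 * t ^ 4 + 16 * t ^ 3 + 56 * t ^ 2 + 78 * t + 84, by ring⟩
    exact (Nat.dvd_add_right h2).1 h3
  have h2 := fin_a (t + 5) (Nat.mem_divisors.2 ⟨h1, by norm_num⟩) (by omega)
  rw [Nat.add_sub_cancel] at h2
  apply h2
  rw [← h]
  exact Nat.mul_mod_left _ _

/-- the second divisibility -/
theorem dvd_b {t c : ℕ} (h : c * ((t + 5) * (t ^ 2 + 8 * t + 17)) = (t + 3) ^ 2 * (t + 2) * (t ^ 2 + 5 * t + 7)) :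
    t = 1 := by
  have h1 : t + 5 ∣ 84 := by
    have h2 : t + 5 ∣ (t + 3) ^ 2 * (t + 2) * (t ^ 2 + 5 * t + 7) := by
      rw [← h, ← mul_assoc]
      exact (Dvd.intro_left c rfl).mul_right _
    have h3 : t + 5 ∣ (t + 3) ^ 2 * (t + 2) * (t ^ 2 + 5 * t + 7) + 84 :=
      ⟨t ^ 4 + 8 * t ^ 3 + 28 * t ^ 2 + 39 * t + 42, by ring⟩
    exact (Nat.dvd_add_right h2).1 h3
  have h2 := fin_b (t + 5) (Nat.mem_divisors.2 ⟨h1, by norm_num⟩) (by omega)
  rw [Nat.add_sub_cancel] at h2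
  apply h2
  rw [← h]
  exact Nat.mul_mod_left _ _

/-- the third divisibility -/
theorem dvd_c {t c : ℕ} (h : c * (2 * t ^ 2 + 16 * t + 31) = (t + 3) ^ 3 * ((t + 2) * (t ^ 2 + 5 * t + 7))) : t < 12 := by
  by_contra hlt
  have hco : Nat.Coprime (2 * t ^ 2 + 16 * t + 31) (t + 3) := by
    have h1 : 2 * t ^ 2 + 16 * t + 31 = 1 + (t + 3) * (2 * t + 10) := by ring
    rw [h1]
    exact (Nat.coprime_add_mul_left_left 1 (t + 3) (2 * t + 10)).2 (Nat.coprime_one_left _)
  have h2 : 2 * t ^ 2 + 16 * t + 31 ∣ (t + 2) * (t ^ 2 + 5 * t + 7) :=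
    (Nat.Coprime.pow_right 3 hco).dvd_of_dvd_mul_left (by rw [← h]; exact Dvd.intro_left c rfl)
  obtain ⟨s, rfl⟩ : ∃ s, t = s + 1 := ⟨t - 1, by omega⟩
  have h3 : 2 * (s + 1) ^ 2 + 16 * (s + 1) + 31 ∣ 19 * (s + 1) + 59 := by
    have h4 : 2 * (s + 1) ^ 2 + 16 * (s + 1) + 31 ∣ 2 * ((s + 1 + 2) * ((s + 1) ^ 2 + 5 * (s + 1) + 7)) := h2.mul_left 2
    have h5 : 2 * ((s + 1 + 2) * ((s + 1) ^ 2 + 5 * (s + 1) + 7)) =
        (2 * (s + 1) ^ 2 + 16 * (s + 1) + 31) * s + (19 * (s + 1) + 59) := by ring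
    rw [h5] at h4
    exact (Nat.dvd_add_right (Dvd.intro _ rfl)).1 h4
  have h4 := Nat.le_of_dvd (by omega) h3
  nlinarith only [hlt, h4]

private theorem sq_succ_lt (a : ℕ) : a * (a + 1 + 1) < (a + 1) * (a + 1) :=
  Nat.lt_of_add_one_le (Nat.le_of_eq (by ring))

set_option maxHeartbeats 1000000 in
/-- **`H = U_3(q)`.** -/
theorem u3_cross {p f M : ℕ} (hX : H902.Art.Real (.U 3) p f M) {Y : H902.Art.Sh} {r g k N : ℕ}
    (hY : H902.Art.Real Y r g N) (hrp : r ≠ p) (hk : M = k * N) (hlt : k * P r N ^ 2 < N) :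
    N = M ∨ (M = 62400 ∧ p = 2 ∧ f = 2 ∧ r = 5 ∧ g = 2 ∧ Y = .L 2 ∧ k = 8) := by
  obtain ⟨t, ht, hE⟩ := U3_eq hX
  have hr := hY.hp
  have hp := hX.hp
  have hM0 := hX.M_ne
  have hN0 := hY.M_ne
  have hk0 : k ≠ 0 := by rintro rfl; exact hM0 (by rw [hk, zero_mul])
  have hRle : P r N ≤ P r M := P_mono hr hM0 (by rw [hk]; exact dvd_mul_left _ _)
  have hb4 := bound4 hY hk hlt hRle
  rcases U3_or hX ht hE hr hrp with h1 | ⟨hA, ⟨hr2, hPM⟩ | ⟨hr2, hPM⟩⟩
  · omega
  · -- `r` odd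
    have hrA : r ∣ t + 4 := by
      by_contra h1
      rw [P_eq_one h1] at hA
      omega
    have hodd : Odd (t + 4) := by
      rw [← Nat.not_even_iff_odd]
      intro h1
      have h2 : 2 ∣ r ^ (t + 4).factorization r := by
        have : P r (t + 4) = r ^ (t + 4).factorization r := rfl
        rw [← this, hA]
        exact even_iff_two_dvd.1 h1
      exact hr2 ((Nat.prime_dvd_prime_iff_eq Nat.prime_two hr).1 (Nat.prime_two.dvd_of_dvd_pow h2)).symm
    have hE3 : (t + 3) ^ 3 * ((t + 2) * (t + 4) ^ 2 * (t ^ 2 + 5 * t + 7)) ≤ 3 * M := by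
      rw [← hE]
      exact Nat.mul_le_mul_right _ (Nat.gcd_le_left _ (by norm_num))
    -- the case `t = 1`
    have ht1 : t = 1 → M = 62400 ∧ p = 2 ∧ f = 2 ∧ r = 5 := by
      rintro rfl
      have h2 : Nat.gcd 3 (1 + 4) = 1 := by decide
      rw [h2, one_mul] at hE
      have h3 : p ^ f = 4 := ht
      have hp2 : p = 2 := by
        have h4 : p ∣ 2 ^ 2 := by
          rw [show (2 : ℕ) ^ 2 = 4 by norm_num, ← h3]
          exact dvd_pow_self p (by have := hX.hf; omega)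
        exact (Nat.prime_dvd_prime_iff_eq hp Nat.prime_two).1 (hp.dvd_of_dvd_pow h4)
      refine ⟨by rw [hE]; norm_num, hp2, ?_, ?_⟩
      · rw [hp2] at h3
        exact Nat.pow_right_injective (le_refl 2) (h3.trans (by norm_num))
      · exact (Nat.prime_dvd_prime_iff_eq hr (by norm_num)).1 hrA
    by_cases hYL : Y = .L 2
    · subst hYL
      obtain ⟨hs4, hc2⟩ := L2_eq hY
      rcases hc2 with ⟨h2, -⟩ | ⟨-, hsodd, hN⟩
      · exact absurd h2 hr2
      have hPs : P r N = r ^ g := by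
        have := hY.P_self
        have h1 : NN (.L 2) = 1 := rfl
        rwa [h1, pow_one] at this
      rw [hPs] at hlt
      set s := r ^ g with hs
      -- `2 k < s`
      obtain ⟨s', hs'⟩ := Nat.exists_eq_add_of_le' (show 1 ≤ s by omega)
      have hs1 : s - 1 = s' := by omega
      rw [hs1] at hN
      have h2k : 2 * k < s := by
        have h3 : s * (s * (2 * k)) < s * (s' * (s + 1)) := by
          calc s * (s * (2 * k)) = 2 * (k * s ^ 2) := by ring
            _ < 2 * N := by omega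
            _ = _ := hN
        have h4 := Nat.lt_of_mul_lt_mul_left h3
        have h5 : s' * (s + 1) < s * s := by rw [hs']; exact sq_succ_lt s'
        exact Nat.lt_of_mul_lt_mul_left (h4.trans h5)
      have hPk : P r M = P r k * s := by rw [hk, P_mul hk0 hN0, hPs]
      by_cases hrk : r ∣ k
      · -- `r ∣ k`
        exfalso
        have h3 : 3 ≤ P r k := by
          have h4 : r ∣ P r k := by
            unfold P
            apply dvd_pow_self
            have := (hr.dvd_iff_one_le_factorization hk0).1 hrk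
            omega
          have h5 := Nat.le_of_dvd (P_pos hr) h4
          have := hr.two_le
          omega
        have h4 : 3 * s ≤ (t + 4) ^ 2 := by
          rw [← hPM, hPk]
          exact Nat.mul_le_mul_right _ h3
        have h5 : 324 * M < (t + 4) ^ 8 := by
          calc 324 * M = 81 * ((2 * k) * (2 * N)) := by rw [hk]; ring
            _ ≤ 81 * (s * (2 * N)) := by
              apply Nat.mul_le_mul_left
              exact Nat.mul_le_mul_right _ h2k.le
            _ = 81 * (s * (s * (s' * (s + 1)))) := by rw [hN]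
            _ < 81 * (s * (s * (s * s))) := by
              apply Nat.mul_lt_mul_of_pos_left _ (by norm_num)
              apply Nat.mul_lt_mul_of_pos_left _ (by omega)
              apply Nat.mul_lt_mul_of_pos_left _ (by omega)
              rw [hs']; exact sq_succ_lt s'
            _ = (3 * s) ^ 4 := by ring
            _ ≤ ((t + 4) ^ 2) ^ 4 := Nat.pow_le_pow_left h4 4
            _ = (t + 4) ^ 8 := by ring
        have h6 := poly_c t
        omega
      · -- `s = (t + 4) ^ 2`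
        right
        rw [P_eq_one hrk, one_mul, hPM] at hPk
        have hs2 : s' = (t + 3) * (t + 5) := by
          have : s' + 1 = (t + 3) * (t + 5) + 1 := by rw [← hs', ← hPk]; ring
          omega
        have hs3 : s + 1 = t ^ 2 + 8 * t + 17 := by rw [← hPk]; ring
        have heq : (Nat.gcd 3 (t + 4) * k) * ((t + 5) * (t ^ 2 + 8 * t + 17)) =
            2 * (t + 3) ^ 2 * (t + 2) * (t ^ 2 + 5 * t + 7) := by
          apply Nat.eq_of_mul_eq_mul_left (show 0 < (t + 4) ^ 2 * (t + 3) by (clear * -; positivity))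
          calc (t + 4) ^ 2 * (t + 3) * ((Nat.gcd 3 (t + 4) * k) * ((t + 5) * (t ^ 2 + 8 * t + 17)))
              = (Nat.gcd 3 (t + 4) * k) * ((t + 4) ^ 2 * (((t + 3) * (t + 5)) * (t ^ 2 + 8 * t + 17))) := by ring
            _ = (Nat.gcd 3 (t + 4) * k) * (s * (s' * (s + 1))) := by rw [hs2, hs3, hPk]
            _ = 2 * (Nat.gcd 3 (t + 4) * M) := by rw [← hN, hk]; ring
            _ = _ := by rw [hE]; ring
        have ht1' := dvd_a heq
        obtain ⟨h7, h8, h9, h10⟩ := ht1 ht1'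
        refine ⟨h7, h8, h9, h10, ?_, rfl, ?_⟩
        · rw [ht1'] at hPk
          have : (5 : ℕ) ^ g = 5 ^ 2 := by
            have h12 : (5 : ℕ) ^ g = s := by rw [hs, h10]
            rw [h12, ← hPk]
          exact Nat.pow_right_injective (by norm_num : 2 ≤ 5) this
        · rw [ht1'] at heq
          have h11 : Nat.gcd 3 (1 + 4) = 1 := by decide
          rw [h11] at heq
          omega
    · exfalso
      have hb := bound10 hY hYL hk hlt hRle
      rw [hPM] at hb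
      rcases Nat.lt_or_ge t 3 with h2 | h2
      · have h3 : t = 1 := by
          obtain ⟨c, hc⟩ := hodd
          omega
        have h4 := (ht1 h3).1
        rw [h4, h3] at hb
        norm_num at hb
      · obtain ⟨s, rfl⟩ := Nat.exists_eq_add_of_le' h2
        have h3 := poly_a s
        have h4 : ((s + 3 + 3) ^ 3 * ((s + 3 + 2) * (s + 3 + 4) ^ 2 * ((s + 3) ^ 2 + 5 * (s + 3) + 7))) ^ 3 <
            27 * ((s + 3 + 4) ^ 2) ^ 10 := by
          calc _ ≤ (3 * M) ^ 3 := Nat.pow_le_pow_left hE3 3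
            _ = 27 * M ^ 3 := by ring
            _ < _ := Nat.mul_lt_mul_of_pos_left hb (by norm_num)
        have h5 : (s + 3 + 4) ^ 6 * ((s + 3 + 3) ^ 9 * ((s + 3 + 2) ^ 3 * ((s + 3) ^ 2 + 5 * (s + 3) + 7) ^ 3)) <
            (s + 3 + 4) ^ 6 * (27 * (s + 3 + 4) ^ 14) := by
          calc _ = ((s + 3 + 3) ^ 3 * ((s + 3 + 2) * (s + 3 + 4) ^ 2 * ((s + 3) ^ 2 + 5 * (s + 3) + 7))) ^ 3 := by
                simp only [mul_pow, ← pow_mul]
                ring
            _ < _ := h4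
            _ = _ := by rw [← pow_mul]; rw [mul_left_comm, ← pow_add]
        exact absurd (Nat.lt_of_mul_lt_mul_left h5) (not_lt.2 h3.le)
  · -- `r = 2`
    subst hr2
    have hd3 : ¬ 3 ∣ t + 4 := by
      intro h1
      have h2 : 3 ∣ 2 ^ (t + 4).factorization 2 := by
        have : P 2 (t + 4) = 2 ^ (t + 4).factorization 2 := rfl
        rw [← this, hA]
        exact h1
      have h3 := Nat.prime_three.dvd_of_dvd_pow h2
      revert h3
      decide
    have hg1 : Nat.gcd 3 (t + 4) = 1 := (Nat.Prime.coprime_iff_not_dvd Nat.prime_three).2 hd3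
    rw [hg1, one_mul] at hE
    -- small cases
    have hsm : t = 0 ∨ t = 4 ∨ 12 ≤ t := by
      by_contra hcon
      push Not at hcon
      have h1 : t + 4 = 2 ^ (t + 4).factorization 2 := hA.symm
      have h2 : 2 ^ (t + 4).factorization 2 < 2 ^ 4 := by rw [← h1]; omega
      have h3 := (Nat.pow_lt_pow_iff_right (by norm_num : 1 < 2)).1 h2
      set e := (t + 4).factorization 2
      interval_cases e <;> omega
    rcases hsm with rfl | rfl | h12
    · left
      have hp3 : p = 3 := by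
        have h4 : p ∣ 3 := by
          rw [← show p ^ f = 3 from ht]
          exact dvd_pow_self p (by have := hX.hf; omega)
        exact (Nat.prime_dvd_prime_iff_eq hp Nat.prime_three).1 h4
      have hM : M = 6048 := by rw [hE]; norm_num
      subst hp3
      rw [hM]
      exact small_iso (p := 3) (by decide) hY (hM ▸ hk) hrp hlt
    · left
      have hp7 : p = 7 := by
        have h4 : p ∣ 7 := by
          rw [← show p ^ f = 7 from ht]
          exact dvd_pow_self p (by have := hX.hf; omega)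
        exact (Nat.prime_dvd_prime_iff_eq hp (by norm_num)).1 h4
      have hM : M = 5663616 := by rw [hE]; norm_num
      subst hp7
      rw [hM]
      exact small_iso (p := 7) (by decide) hY (hM ▸ hk) hrp hlt
    exfalso
    by_cases hYL : Y = .L 2
    · subst hYL
      obtain ⟨hs4, hc2⟩ := L2_eq hY
      rcases hc2 with ⟨-, hN⟩ | ⟨h2, -⟩
      swap
      · exact absurd rfl h2
      have hPs : P 2 N = 2 ^ g := by
        have := hY.P_self
        have h1 : NN (.L 2) = 1 := rfl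
        rwa [h1, pow_one] at this
      rw [hPs] at hlt
      set s := 2 ^ g with hs
      obtain ⟨s', hs'⟩ := Nat.exists_eq_add_of_le' (show 1 ≤ s by omega)
      have hs1 : s - 1 = s' := by omega
      rw [hs1] at hN
      have h2k : k < s := by
        have h3 : s * (s * k) < s * (s' * (s + 1)) := by
          calc s * (s * k) = (k * s ^ 2) := by ring
            _ < N := hlt
            _ = _ := hN
        have h4 := Nat.lt_of_mul_lt_mul_left h3
        have h5 : s' * (s + 1) < s * s := by rw [hs']; exact sq_succ_lt s'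
        exact Nat.lt_of_mul_lt_mul_left (h4.trans h5)
      have hPk : P 2 M = P 2 k * s := by rw [hk, P_mul hk0 hN0, hPs]
      rw [hPM] at hPk
      have hcase : P 2 k = 1 ∨ P 2 k = 2 ∨ 4 ≤ P 2 k := by
        unfold P
        rcases Nat.lt_or_ge (k.factorization 2) 2 with h3 | h3
        · set e := k.factorization 2
          interval_cases e <;> norm_num
        · right; right
          calc 4 = 2 ^ 2 := by norm_num
            _ ≤ _ := Nat.pow_le_pow_right (by norm_num) h3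
      rcases hcase with h3 | h3 | h3
      · -- `s = 2 (t + 4) ^ 2`
        rw [h3, one_mul] at hPk
        have h4 : (2 * k * (2 * t ^ 2 + 16 * t + 33)) * (2 * t ^ 2 + 16 * t + 31) =
            (t + 3) ^ 3 * ((t + 2) * (t ^ 2 + 5 * t + 7)) := by
          have hs2 : s' = 2 * t ^ 2 + 16 * t + 31 := by
            have : s' + 1 = 2 * t ^ 2 + 16 * t + 31 + 1 := by rw [← hs', ← hPk]; ring
            (clear * - this; omega)
          have hs3 : s + 1 = 2 * t ^ 2 + 16 * t + 33 := by rw [← hPk]; ring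
          apply Nat.eq_of_mul_eq_mul_left (show 0 < (t + 4) ^ 2 by (clear * - h12; positivity))
          calc (t + 4) ^ 2 * ((2 * k * (2 * t ^ 2 + 16 * t + 33)) * (2 * t ^ 2 + 16 * t + 31))
              = k * ((2 * (t + 4) ^ 2) * ((2 * t ^ 2 + 16 * t + 31) * (2 * t ^ 2 + 16 * t + 33))) := by ring
            _ = k * (s * (s' * (s + 1))) := by rw [hs2, hs3, hPk]
            _ = M := by rw [← hN, hk]
            _ = _ := by rw [hE]; ring
        have h5 := dvd_c h4
        omega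
      · -- `s = (t + 4) ^ 2`
        rw [h3] at hPk
        have hPk' : (t + 4) ^ 2 = s := Nat.eq_of_mul_eq_mul_left (by norm_num) hPk
        have hs2 : s' = (t + 3) * (t + 5) := by
          have : s' + 1 = (t + 3) * (t + 5) + 1 := by rw [← hs', ← hPk']; ring
          omega
        have hs3 : s + 1 = t ^ 2 + 8 * t + 17 := by rw [← hPk']; ring
        have heq : k * ((t + 5) * (t ^ 2 + 8 * t + 17)) = (t + 3) ^ 2 * (t + 2) * (t ^ 2 + 5 * t + 7) := by
          apply Nat.eq_of_mul_eq_mul_left (show 0 < (t + 4) ^ 2 * (t + 3) by (clear * - h12; positivity))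
          calc (t + 4) ^ 2 * (t + 3) * (k * ((t + 5) * (t ^ 2 + 8 * t + 17)))
              = k * ((t + 4) ^ 2 * (((t + 3) * (t + 5)) * (t ^ 2 + 8 * t + 17))) := by ring
            _ = k * (s * (s' * (s + 1))) := by rw [hs2, hs3, hPk']
            _ = M := by rw [← hN, hk]
            _ = _ := by rw [hE]; ring
        have := dvd_b heq
        omega
      · -- `2 s ≤ (t + 4) ^ 2`
        have h4 : 2 * s ≤ (t + 4) ^ 2 := by
          have : 4 * s ≤ 2 * (t + 4) ^ 2 := by rw [hPk]; exact Nat.mul_le_mul_right _ h3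
          omega
        have h5 : 16 * M < (t + 4) ^ 8 := by
          calc 16 * M = 16 * (k * N) := by rw [hk]
            _ ≤ 16 * (s * N) := Nat.mul_le_mul_left _ (Nat.mul_le_mul_right _ h2k.le)
            _ = 16 * (s * (s * (s' * (s + 1)))) := by rw [hN]
            _ < 16 * (s * (s * (s * s))) := by
              apply Nat.mul_lt_mul_of_pos_left _ (by norm_num)
              apply Nat.mul_lt_mul_of_pos_left _ (by omega)
              apply Nat.mul_lt_mul_of_pos_left _ (by omega)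
              rw [hs']; exact sq_succ_lt s'
            _ = (2 * s) ^ 4 := by ring
            _ ≤ ((t + 4) ^ 2) ^ 4 := Nat.pow_le_pow_left h4 4
            _ = (t + 4) ^ 8 := by ring
        have h6 := poly_d t
        rw [← hE] at h6
        omega
    · have hb := bound10 hY hYL hk hlt hRle
      rw [hPM] at hb
      obtain ⟨s, rfl⟩ := Nat.exists_eq_add_of_le' h12
      have h3 := poly_b s
      rw [hE] at hb
      have h5 : (s + 12 + 4) ^ 6 * ((s + 12 + 3) ^ 9 * ((s + 12 + 2) ^ 3 * ((s + 12) ^ 2 + 5 * (s + 12) + 7) ^ 3)) <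
          (s + 12 + 4) ^ 6 * (1024 * (s + 12 + 4) ^ 14) := by
        calc _ = ((s + 12 + 3) ^ 3 * ((s + 12 + 2) * (s + 12 + 4) ^ 2 * ((s + 12) ^ 2 + 5 * (s + 12) + 7))) ^ 3 := by
              simp only [mul_pow, ← pow_mul]
              ring
          _ < _ := hb
          _ = _ := by
            rw [mul_pow, ← pow_mul, mul_left_comm, ← pow_add]
            norm_num
      exact absurd (Nat.lt_of_mul_lt_mul_left h5) (not_lt.2 h3.le)

end Cfsg.Agent.H725.Cd
end

-- part: H725/Cd/U3Fin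
section
/-!
# Codegrees of simple groups (helper725, S4795): `H = U_3(q)` in cross characteristic, the form of the plan
-/

set_option autoImplicit false

namespace Cfsg.Agent.H725.Cd

open Cfsg.Agent.H902

theorem cross_U3 {Y : Art.Sh} {p r f g N M k : ℕ} (hX : Art.Real (.U 3) p f N)
    (hY : Art.Real Y r g M) (hr : r ≠ p) (hk : N = k * M) (hlt : k * Art.P r M ^ 2 < M) :
    Y = .L 2 ∧ r ^ g = 25 ∧ N = 62400 ∧ k = 8 := by
  rcases u3_cross hX hY hr hk hlt with h | ⟨h1, -, -, rfl, rfl, h4, h5⟩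
  · exfalso
    subst h
    have h1 := Art.cross_char hX hY (Ne.symm hr)
    obtain ⟨t, -, h2⟩ := U3_eq hX
    have h3 : Nat.gcd 3 (t + 4) ≤ 3 := Nat.gcd_le_left _ (by norm_num)
    have h4 : (t + 3) ^ 3 * ((t + 2) * (t + 4) ^ 2 * (t ^ 2 + 5 * t + 7)) ≤ 3 * 25920 := by
      rw [← h2]
      exact Nat.mul_le_mul h3 (by omega)
    have h5 : t < 2 := by
      by_contra hge
      obtain ⟨s, rfl⟩ := Nat.exists_eq_add_of_le' (not_lt.1 hge)
      have h6 : 378000 ≤ (s + 2 + 3) ^ 3 * ((s + 2 + 2) * (s + 2 + 4) ^ 2 * ((s + 2) ^ 2 + 5 * (s + 2) + 7)) := by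
        calc 378000 = 5 ^ 3 * (4 * 6 ^ 2 * 21) := by norm_num
          _ ≤ _ := by
            gcongr
            · omega
            · omega
            · omega
            · nlinarith only []
      omega
    interval_cases t
    · norm_num at h2
      omega
    · norm_num at h2
      omega
  · exact ⟨h4, by norm_num, h1, h5⟩

end Cfsg.Agent.H725.Cd
end

-- part: H635/Cod/SporLie
section
/-!
# Codegrees (S4795): the orders of the groups of Lie type which are small multiples of the order of a sporadic group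
(helper635)
-/

set_option autoImplicit false
set_option exponentiation.threshold 400

namespace Cfsg.Agent.H635.Cod

open Cfsg.Agent.H902.Art Cfsg.Agent.H66.Cod Finset Cfsg.Agent.H352.Cd

/-- `∏ i < k, (q ^ (2 i + 2) - 1)` -/
noncomputable def prC (q : ℕ) (k : ℕ) : ℕ :=
  Nat.rec (motive := fun _ => ℕ) 1 (fun k ih => Nat.mul ih (Nat.sub (Nat.pow q (Nat.mul 2 (Nat.succ k))) 1)) k

theorem prC_eq (q k : ℕ) : prC q k = ∏ i ∈ range k, (q ^ (2 * (i + 1)) - 1) := by
  induction k with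
  | zero => rfl
  | succ k ih =>
    rw [prod_range_succ, ← ih]
    rfl

/-- the factor of the unitary groups -/
def fU (q i : ℕ) : ℕ :=
  cond (Nat.beq (Nat.mod i 2) 0) (Nat.sub (Nat.pow q (Nat.add i 2)) 1) (Nat.succ (Nat.pow q (Nat.add i 2)))

/-- the product of the unitary groups -/
noncomputable def prU (q : ℕ) (k : ℕ) : ℕ :=
  Nat.rec (motive := fun _ => ℕ) 1 (fun k ih => Nat.mul ih (fU q k)) k

theorem fU_eq (q i : ℕ) : fU q i = if Even i then q ^ (i + 2) - 1 else q ^ (i + 2) + 1 := by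
  unfold fU
  by_cases h : Even i
  · have h1 : Nat.beq (Nat.mod i 2) 0 = true := by
      rw [Nat.beq_eq]
      exact Nat.even_iff.1 h
    rw [h1, cond_true, if_pos h]
    rfl
  · have h1 : Nat.beq (Nat.mod i 2) 0 = false := by
      rw [← Bool.not_eq_true, Nat.beq_eq]
      intro h2
      exact h (Nat.even_iff.2 h2)
    rw [h1, cond_false, if_neg h]
    rfl

theorem prU_eq (q k : ℕ) : prU q k = ∏ i ∈ range k, (if Even i then q ^ (i + 2) - 1 else q ^ (i + 2) + 1) := by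
  induction k with
  | zero => rfl
  | succ k ih =>
    rw [prod_range_succ, ← ih, ← fU_eq]
    rfl

/-- `num` -/
noncomputable def numA : Sh → ℕ → ℕ
  | .L n, q => pr q (n - 1)
  | .C n, q => prC q n
  | .U n, q => prU q (n - 1)
  | .D n, q => Nat.mul (Nat.sub (Nat.pow q n) 1) (prC q (n - 1))
  | .DD n, q => Nat.mul (Nat.succ (Nat.pow q n)) (prC q (n - 1))
  | X, q => num X q

theorem numA_eq (X : Sh) (q : ℕ) : numA X q = num X q := by
  cases X with
  | L n => exact pr_eq _ _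
  | C n => exact prC_eq _ _
  | U n => exact prU_eq _ _
  | D n =>
    show (q ^ n - 1) * prC q (n - 1) = _
    rw [prC_eq]
    rfl
  | DD n =>
    show (q ^ n + 1) * prC q (n - 1) = _
    rw [prC_eq]
    rfl
  | _ => rfl

/-- the order times `dd` -/
noncomputable def TA (X : Sh) (q : ℕ) : ℕ := Nat.mul (Nat.pow q (NN X)) (numA X q)

theorem TA_eq {X : Sh} {p f N : ℕ} (h : Real X p f N) : TA X (p ^ f) = dd X (p ^ f) * N := by
  rw [h.eq, ← numA_eq]
  rfl

/-- the shapes with `NN X ≤ 357`, except `L2`, `L3` -/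
def TLA : List Sh :=
  ((List.range 24).map fun i => Sh.L (i + 4)) ++ ((List.range 17).map fun i => Sh.C (i + 2)) ++
  ((List.range 25).map fun i => Sh.U (i + 3)) ++ ((List.range 16).map fun i => Sh.D (i + 4)) ++
  ((List.range 16).map fun i => Sh.DD (i + 4)) ++
  ([.G2, .F4, .E6, .E7, .E8, .TE6, .TD4, .Sz, .Ree, .TF4] : List Sh)

theorem tri_le {n : ℕ} (h : n * (n - 1) / 2 ≤ 357) : n ≤ 27 := by
  by_contra hcon
  have h3 : 28 * 27 ≤ n * (n - 1) := Nat.mul_le_mul (by omega) (by omega)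
  have h4 : 378 ≤ n * (n - 1) / 2 := by
    rw [Nat.le_div_iff_mul_le (by norm_num)]
    omega
  omega

theorem sq_le {n : ℕ} (h : n ^ 2 ≤ 357) : n ≤ 18 := by
  by_contra hcon
  have h3 : 19 ^ 2 ≤ n ^ 2 := Nat.pow_le_pow_left (by omega) 2
  omega

theorem rect_le {n : ℕ} (h : n * (n - 1) ≤ 357) : n ≤ 19 := by
  by_contra hcon
  have h3 : 20 * 19 ≤ n * (n - 1) := Nat.mul_le_mul (by omega) (by omega)
  omega

theorem mem_TLA {X : Sh} {p f N : ℕ} (hX : Real X p f N) (hn2 : X ≠ .L 2) (hn3 : X ≠ .L 3) (h : NN X ≤ 357) :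
    X ∈ TLA := by
  have hok := hX.ok
  unfold TLA
  simp only [List.mem_append, List.mem_map, List.mem_range, List.mem_cons, List.not_mem_nil, or_false]
  cases X with
  | L n =>
    have h1 := tri_le h
    have h2 : 2 ≤ n := hok.1
    have h4 : 4 ≤ n := by
      by_contra hcon
      rcases (show n = 2 ∨ n = 3 by omega) with rfl | rfl
      · exact hn2 rfl
      · exact hn3 rfl
    exact Or.inl (Or.inl (Or.inl (Or.inl (Or.inl ⟨n - 4, by omega, by congr 1; omega⟩))))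
  | C n =>
    have h1 := sq_le h
    have h2 : 2 ≤ n := hok.1
    exact Or.inl (Or.inl (Or.inl (Or.inl (Or.inr ⟨n - 2, by omega, by congr 1; omega⟩))))
  | U n =>
    have h1 := tri_le h
    have h2 : 3 ≤ n := hok.1
    exact Or.inl (Or.inl (Or.inl (Or.inr ⟨n - 3, by omega, by congr 1; omega⟩)))
  | D n =>
    have h1 := rect_le h
    have h2 : 4 ≤ n := hok
    exact Or.inl (Or.inl (Or.inr ⟨n - 4, by omega, by congr 1; omega⟩))
  | DD n =>
    have h1 := rect_le h
    have h2 : 4 ≤ n := hok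
    exact Or.inl (Or.inr ⟨n - 4, by omega, by congr 1; omega⟩)
  | _ => simp

/-- the exceptions: `(|S|, |H| / |S|, p, |H|)` -/
def exS : List (ℕ × ℕ × ℕ × ℕ) := [
  (7920, 1728, 2, 13685760), (95040, 144, 2, 13685760), (443520, 20736, 2, 9196830720),
  (604800, 1632, 2, 987033600), (604800, 78336, 2, 47377612800),
  (604800, 288, 2, 174182400), (604800, 416, 2, 251596800), (604800, 24375, 5, 14742000000),
  (448345497600, 2876158692, 3, 1289512799941305139200),
  (64561751654400, 1185415168, 2, 76532479683774853939200),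
  (64561751654400, 1184258341431, 3, 76457792934119864313446400), (17971200, 228480, 2, 4106059776000),
  (17971200, 14, 2, 251596800), (17971200, 275562, 3, 4952179814400)]

/-- the test -/
noncomputable def testA (M T d p : ℕ) : Bool :=
  cond (Nat.beq (Nat.mod T (Nat.mul d M)) 0)
    (cond (Nat.ble (Nat.mul d (Nat.mul M M)) (Nat.mul 4 T)) true
      (exS.any fun x => and (Nat.beq M x.1) (and (Nat.beq p x.2.2.1) (Nat.beq T (Nat.mul d x.2.2.2))))) true

/-- is the parameter admissible -/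
def okA : Sh → ℕ → ℕ → Bool
  | .L 2, p, f => Nat.ble 4 (Nat.pow p f)
  | .C 2, p, f => Nat.ble 3 (Nat.pow p f)
  | .U 3, p, f => Nat.ble 3 (Nat.pow p f)
  | .G2, p, f => Nat.ble 3 (Nat.pow p f)
  | .Sz, p, f => and (Nat.beq p 2) (and (Nat.beq (Nat.mod f 2) 1) (Nat.ble 3 f))
  | .Ree, p, f => and (Nat.beq p 3) (and (Nat.beq (Nat.mod f 2) 1) (Nat.ble 3 f))
  | .TF4, p, f => and (Nat.beq p 2) (and (Nat.beq (Nat.mod f 2) 1) (Nat.ble 3 f))
  | _, _, _ => true

theorem okA_true {X : Sh} {p f : ℕ} (h : Ok X p f) : okA X p f = true := by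
  unfold okA
  split
  · rw [Nat.ble_eq]; exact h.2 rfl
  · rw [Nat.ble_eq]; exact h.2 rfl
  · rw [Nat.ble_eq]; exact h.2 rfl
  · rw [Nat.ble_eq]; exact h
  · obtain ⟨h1, h2, h3⟩ := h
    rw [Bool.and_eq_true, Bool.and_eq_true, Nat.beq_eq, Nat.beq_eq, Nat.ble_eq]
    exact ⟨h1, Nat.odd_iff.1 h2, h3⟩
  · obtain ⟨h1, h2, h3⟩ := h
    rw [Bool.and_eq_true, Bool.and_eq_true, Nat.beq_eq, Nat.beq_eq, Nat.ble_eq]
    exact ⟨h1, Nat.odd_iff.1 h2, h3⟩
  · obtain ⟨h1, h2, h3⟩ := h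
    rw [Bool.and_eq_true, Bool.and_eq_true, Nat.beq_eq, Nat.beq_eq, Nat.ble_eq]
    exact ⟨h1, Nat.odd_iff.1 h2, h3⟩
  · rfl

/-- the enumeration -/
noncomputable def allA : Bool :=
  sporList.all fun M => PL.all fun p => cond (Nat.beq (Nat.mod M p) 0)
    (and (Nat.ble (Nat.mul M M) (Nat.pow p (Nat.succ (Nat.div (Nat.log2 (Nat.mul M M)) (Nat.log2 p)))))
    (TLA.all fun X => (List.range (Nat.div (Nat.div (Nat.log2 (Nat.mul M M)) (Nat.log2 p)) (NN X))).all fun i =>
      cond (Nat.ble (Nat.mul M M) (Nat.pow p (Nat.mul (Nat.succ i) (NN X)))) true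
        (cond (okA X p (Nat.succ i))
          (testA M (TA X (Nat.pow p (Nat.succ i))) (dd X (Nat.pow p (Nat.succ i))) p) true))) true

set_option maxRecDepth 100000 in
theorem allA_true : allA = true := by
  (first | (set_option backward.isDefEq.respectTransparency.types false in set_option synthInstance.maxSize 99999 in (delta _root_.Cfsg.Agent.H635.Cod.allA _root_.Cfsg.Agent.H902.Art.dd _root_.Cfsg.Agent.H635.Cod.TA _root_.Cfsg.Agent.H635.Cod.numA _root_.Cfsg.Agent.H902.Art.num _root_.Cfsg.Agent.H902.Art.NN _root_.Cfsg.Agent.H635.Cod.testA _root_.Cfsg.Agent.H635.Cod.okA; exact _root_.Cfsg.Agent.FastDec.of (by decide +kernel))) | decide +kernel)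

theorem spor_lie_num {X : Cfsg.Agent.H902.Art.Sh} {p f k N M : ℕ}
    (h : Cfsg.Agent.H902.Art.Real X p f N) (hn2 : X ≠ .L 2) (hn3 : X ≠ .L 3)
    (hM : M ∈ Cfsg.Agent.H66.Cod.sporList) (hpM : p ∣ M) (hk : N = k * M)
    (h4 : 4 * k < M) : ∃ x ∈ exS, M = x.1 ∧ p = x.2.2.1 ∧ N = x.2.2.2 := by
  have hp := h.hp
  have hf := h.hf
  have hM0 : 0 < M := by omega
  have hN0 : 0 < N := Nat.pos_of_ne_zero h.M_ne
  have hdN : dd X (p ^ f) ≠ 0 := h.dd_ne
  -- the `p`-part
  have h5 : (p ^ f) ^ NN X ≤ N := by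
    rw [← h.P_self]
    exact P_le h.M_ne
  have h6 : 4 * N < M * M := by
    rw [hk, ← mul_assoc]
    exact Nat.mul_lt_mul_of_pos_right h4 hM0
  have h7' : 4 * p ^ (f * NN X) < M * M := by
    rw [pow_mul]
    omega
  have h7 : p ^ (f * NN X) < M * M := by omega
  have h8 : f * NN X < 358 := by
    by_contra hcon
    have h9 : 2 ^ 358 ≤ p ^ (f * NN X) :=
      (Nat.pow_le_pow_right (by norm_num) (by omega)).trans (Nat.pow_le_pow_left hp.two_le _)
    have h10 := lt_spor M hM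
    have h11 := Nat.mul_le_mul_left 4 h9
    exact absurd (lt_of_le_of_lt h11 (h7'.trans h10)) (lt_irrefl _)
  have hNN := NN_pos h
  have h9 : NN X ≤ 357 := Nat.le_of_lt_succ ((Nat.le_mul_of_pos_left _ hf).trans_lt h8)
  -- the check
  have h10 := allA_true
  unfold allA at h10
  rw [List.all_eq_true] at h10
  have h11 := h10 M hM
  rw [List.all_eq_true] at h11
  have h12 := h11 p (mem_PL hp hM hpM)
  have e1 : Nat.beq (Nat.mod M p) 0 = true := by
    rw [Nat.beq_eq]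
    exact Nat.mod_eq_zero_of_dvd hpM
  rw [e1, cond_true, Bool.and_eq_true, List.all_eq_true, Nat.ble_eq] at h12
  have h13 := h12.2 X (mem_TLA h hn2 hn3 h9)
  have hb := (Nat.pow_lt_pow_iff_right hp.one_lt).1 (h7.trans_le h12.1)
  clear h12
  generalize Nat.div (Nat.log2 (Nat.mul M M)) (Nat.log2 p) = b at h13 hb
  rw [List.all_eq_true] at h13
  have h14 := h13 (f - 1) (by
    rw [List.mem_range]
    have : f ≤ b / NN X := by
      rw [Nat.le_div_iff_mul_le (by omega)]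
      omega
    show f - 1 < b / NN X
    omega)
  have e2 : Nat.succ (f - 1) = f := by omega
  rw [e2] at h14
  have e3 : Nat.ble (Nat.mul M M) (Nat.pow p (Nat.mul f (NN X))) = false := by
    rw [← Bool.not_eq_true, Nat.ble_eq]
    exact Nat.not_le.2 h7
  rw [e3, cond_false, okA_true h.ok, cond_true] at h14
  unfold testA at h14
  have e4 : TA X (Nat.pow p f) = dd X (p ^ f) * N := TA_eq h
  have e5 : dd X (Nat.pow p f) = dd X (p ^ f) := rfl
  rw [e4, e5] at h14
  set d := dd X (p ^ f) with hd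
  have e6 : Nat.beq (Nat.mod (d * N) (Nat.mul d M)) 0 = true := by
    rw [Nat.beq_eq]
    refine Nat.mod_eq_zero_of_dvd ?_
    show d * M ∣ d * N
    rw [hk]
    exact Nat.mul_dvd_mul_left d (Dvd.intro_left k rfl)
  have e7 : Nat.ble (Nat.mul d (Nat.mul M M)) (Nat.mul 4 (d * N)) = false := by
    rw [← Bool.not_eq_true, Nat.ble_eq, not_le]
    show 4 * (d * N) < d * (M * M)
    have : 4 * (d * N) = d * (4 * N) := by ring
    rw [this]
    exact Nat.mul_lt_mul_of_pos_left h6 (Nat.pos_of_ne_zero hdN)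
  rw [e6, cond_true, e7, cond_false, List.any_eq_true] at h14
  obtain ⟨x, hx, hxe⟩ := h14
  rw [Bool.and_eq_true, Bool.and_eq_true, Nat.beq_eq, Nat.beq_eq, Nat.beq_eq] at hxe
  exact ⟨x, hx, hxe.1, hxe.2.1, Nat.eq_of_mul_eq_mul_left (Nat.pos_of_ne_zero hdN) hxe.2.2⟩

end Cfsg.Agent.H635.Cod
end

-- part: H635/Cod/MTwelve
section
/-!
# The rank 3 action of `M₁₂` on the 66 pairs (helper635)
-/

set_option autoImplicit false

namespace Cfsg.Agent.H635.Cod.MTwelve

open Equiv Cfsg Cfsg.Agent.CoThreeStd.M12 Cfsg.Agent.H690.Spor.RankThree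

/-- the pairs -/
abbrev Pr : Type := {s : Finset (Fin 12) // s.card = 2}

instance act : MulAction G12 Pr where
  smul g s := ⟨s.1.map (g : P12).toEmbedding, by rw [Finset.card_map]; exact s.2⟩
  one_smul s := Subtype.ext (by
    show s.1.map ((1 : G12) : P12).toEmbedding = s.1
    exact Finset.map_refl)
  mul_smul g h s := Subtype.ext (by
    show s.1.map ((g * h : G12) : P12).toEmbedding = (s.1.map (h : P12).toEmbedding).map (g : P12).toEmbedding
    rw [Finset.map_map]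
    rfl)

theorem smul_val (g : G12) (s : Pr) : (g • s).1 = s.1.map (g : P12).toEmbedding := rfl

/-- the pair `{a, b}` -/
def mk (a b : Fin 12) (h : a ≠ b) : Pr := ⟨{a, b}, Finset.card_pair h⟩

theorem exists_mk (s : Pr) : ∃ a b, ∃ h : a ≠ b, s = mk a b h := by
  obtain ⟨s, hs⟩ := s
  obtain ⟨a, b, hab, rfl⟩ := Finset.card_eq_two.1 hs
  exact ⟨a, b, hab, rfl⟩

theorem smul_mk (g : G12) {a b : Fin 12} (h : a ≠ b) :
    g • mk a b h = mk ((g : P12) a) ((g : P12) b) ((g : P12).injective.ne h) := by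
  apply Subtype.ext
  rw [smul_val]
  show Finset.map _ {a, b} = {(g : P12) a, (g : P12) b}
  simp

/-- `4`-transitivity -/
theorem trans (v w : Fin 4 → Fin 12) (hv : Function.Injective v) (hw : Function.Injective w) :
    ∃ g : G12, ∀ i, (g : P12) (v i) = w i := by
  have key : ∀ u : Fin 4 → Fin 12, Function.Injective u → ∃ g : G12, (g : P12) 0 = u 0 ∧ (g : P12) 6 = u 1 ∧
      (g : P12) 1 = u 2 ∧ (g : P12) 2 = u 3 := by
    intro u hu
    exact Cfsg.Agent.Omega.Quasithin.M12.trans_four (u 0) (u 1) (u 2) (u 3) (hu.ne (by decide)) (hu.ne (by decide))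
      (hu.ne (by decide)) (hu.ne (by decide)) (hu.ne (by decide)) (hu.ne (by decide))
  obtain ⟨g, g0, g1, g2, g3⟩ := key v hv
  obtain ⟨h, h0, h1, h2, h3⟩ := key w hw
  have inv : ∀ {i j : Fin 12}, (g : P12) i = j → ((h * g⁻¹ : G12) : P12) j = (h : P12) i := by
    intro i j hij
    rw [← hij]
    simp only [_root_.Subgroup.coe_mul, _root_.InvMemClass.coe_inv, _root_.Equiv.Perm.coe_mul, _root_.Equiv.Perm.coe_inv, _root_.Function.comp_apply, _root_.Equiv.symm_apply_apply]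
  refine ⟨h * g⁻¹, fun i => ?_⟩
  fin_cases i
  · exact (inv g0).trans h0
  · exact (inv g1).trans h1
  · exact (inv g2).trans h2
  · exact (inv g3).trans h3

theorem inj4 {a b c d : Fin 12} (hab : a ≠ b) (hac : a ≠ c) (had : a ≠ d) (hbc : b ≠ c) (hbd : b ≠ d) (hcd : c ≠ d) :
    Function.Injective ![a, b, c, d] := by
  intro i j hij
  fin_cases i <;> fin_cases j <;> simp_all

/-- the pairs are disjoint -/
def R (x y : Pr) : Prop := Disjoint x.1 y.1

theorem R_mk {a b c d : Fin 12} (hab : a ≠ b) (hcd : c ≠ d) : R (mk a b hab) (mk c d hcd) ↔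
    a ≠ c ∧ a ≠ d ∧ b ≠ c ∧ b ≠ d := by
  unfold R mk
  simp only [Finset.disjoint_insert_right, Finset.disjoint_singleton_right, Finset.mem_insert, Finset.mem_singleton,
    not_or]
  constructor
  · rintro ⟨⟨h1, h2⟩, h3, h4⟩
    exact ⟨Ne.symm h1, Ne.symm h3, Ne.symm h2, Ne.symm h4⟩
  · rintro ⟨h1, h2, h3, h4⟩
    exact ⟨⟨Ne.symm h1, Ne.symm h3⟩, Ne.symm h2, Ne.symm h4⟩

theorem mk_comm {a b : Fin 12} (h : a ≠ b) : mk a b h = mk b a h.symm := Subtype.ext (Finset.pair_comm a b)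

/-- two different meeting pairs -/
theorem exists_common {x y : Pr} (hxy : x ≠ y) (hR : ¬ R x y) : ∃ a b c, ∃ (hab : a ≠ b) (hac : a ≠ c), b ≠ c ∧
    x = mk a b hab ∧ y = mk a c hac := by
  unfold R at hR
  rw [Finset.not_disjoint_iff] at hR
  obtain ⟨a, hax, hay⟩ := hR
  have key : ∀ s : Pr, a ∈ s.1 → ∃ b, ∃ hab : a ≠ b, s = mk a b hab := by
    intro s hs
    obtain ⟨u, v, huv, rfl⟩ := exists_mk s
    have h1 : a = u ∨ a = v := by simpa [mk] using hs
    rcases h1 with rfl | rfl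
    · exact ⟨v, huv, rfl⟩
    · exact ⟨u, huv.symm, mk_comm huv⟩
  obtain ⟨b, hab, rfl⟩ := key x hax
  obtain ⟨c, hac, rfl⟩ := key y hay
  refine ⟨a, b, c, hab, hac, ?_, rfl, rfl⟩
  rintro rfl
  exact hxy rfl

theorem exists_ne (a b c : Fin 12) : ∃ d, d ≠ a ∧ d ≠ b ∧ d ≠ c := by
  have h : (({a, b, c} : Finset (Fin 12))ᶜ).Nonempty := by
    rw [← Finset.card_pos, Finset.card_compl, Fintype.card_fin]
    have := Finset.card_le_three (a := a) (b := b) (c := c)
    omega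
  obtain ⟨d, hd⟩ := h
  rw [Finset.mem_compl] at hd
  simp only [Finset.mem_insert, Finset.mem_singleton, not_or] at hd
  exact ⟨d, hd⟩

theorem card_R (x : Pr) : Nat.card {y // R x y} = 45 := by
  classical
  have e : {y // R x y} ≃ ↥((x.1ᶜ).powersetCard 2) :=
    { toFun := fun y => ⟨y.1.1, Finset.mem_powersetCard.2 ⟨fun i hi => Finset.mem_compl.2 fun hx =>
        (Finset.disjoint_left.1 y.2 hx) hi, y.1.2⟩⟩
      invFun := fun y => ⟨⟨y.1, (Finset.mem_powersetCard.1 y.2).2⟩, by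
        show Disjoint x.1 y.1
        rw [Finset.disjoint_left]
        intro i hx hy
        exact (Finset.mem_compl.1 ((Finset.mem_powersetCard.1 y.2).1 hy)) hx⟩
      left_inv := fun y => rfl
      right_inv := fun y => rfl }
  rw [Nat.card_congr e, Nat.card_eq_fintype_card, Fintype.card_coe, Finset.card_powersetCard, Finset.card_compl,
    Fintype.card_fin, x.2]
  decide

theorem card_Pr : Nat.card Pr = 66 := by
  classical
  have e : Pr ≃ ↥((Finset.univ : Finset (Fin 12)).powersetCard 2) :=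
    { toFun := fun y => ⟨y.1, Finset.mem_powersetCard.2 ⟨Finset.subset_univ _, y.2⟩⟩
      invFun := fun y => ⟨y.1, (Finset.mem_powersetCard.1 y.2).2⟩
      left_inv := fun y => rfl
      right_inv := fun y => rfl }
  rw [Nat.card_congr e, Nat.card_eq_fintype_card, Fintype.card_coe, Finset.card_powersetCard, Finset.card_univ,
    Fintype.card_fin]
  decide

theorem r3 : R3 G12 Pr R 45 20 where
  trans := ⟨fun x y => by
    obtain ⟨a, b, hab, rfl⟩ := exists_mk x
    obtain ⟨c, d, hcd, rfl⟩ := exists_mk y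
    obtain ⟨a', ha1, ha2, -⟩ := exists_ne a b a
    obtain ⟨a'', hb1, hb2, hb3⟩ := exists_ne a b a'
    obtain ⟨c', hc1, hc2, -⟩ := exists_ne c d c
    obtain ⟨c'', hd1, hd2, hd3⟩ := exists_ne c d c'
    obtain ⟨g, hg⟩ := trans ![a, b, a', a''] ![c, d, c', c''] (inj4 hab ha1.symm hb1.symm ha2.symm hb2.symm hb3.symm)
      (inj4 hcd hc1.symm hd1.symm hc2.symm hd2.symm hd3.symm)
    refine ⟨g, ?_⟩
    rw [smul_mk]
    apply Subtype.ext
    have h0 : (g : P12) a = c := hg 0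
    have h1 : (g : P12) b = d := hg 1
    show ({(g : P12) a, (g : P12) b} : Finset (Fin 12)) = {c, d}
    rw [h0, h1]⟩
  symm := fun x y h => Disjoint.symm h
  irr := fun x h => by
    have h1 : x.1 = ∅ := (disjoint_self.1 h)
    have h2 := x.2
    rw [h1] at h2
    simp at h2
  inv := fun g x y h => by
    show Disjoint (x.1.map _) (y.1.map _)
    rw [Finset.disjoint_map]
    exact h
  one := fun x y x' y' h h' => by
    obtain ⟨a, b, hab, rfl⟩ := exists_mk x
    obtain ⟨c, d, hcd, rfl⟩ := exists_mk y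
    obtain ⟨a', b', hab', rfl⟩ := exists_mk x'
    obtain ⟨c', d', hcd', rfl⟩ := exists_mk y'
    obtain ⟨h1, h2, h3, h4⟩ := (R_mk hab hcd).1 h
    obtain ⟨h1', h2', h3', h4'⟩ := (R_mk hab' hcd').1 h'
    obtain ⟨g, hg⟩ := trans ![a, b, c, d] ![a', b', c', d'] (inj4 hab h1 h2 h3 h4 hcd) (inj4 hab' h1' h2' h3' h4' hcd')
    have e0 : (g : P12) a = a' := hg 0
    have e1 : (g : P12) b = b' := hg 1
    have e2 : (g : P12) c = c' := hg 2
    have e3 : (g : P12) d = d' := hg 3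
    refine ⟨g, ?_, ?_⟩
    · rw [smul_mk]
      apply Subtype.ext
      show ({(g : P12) a, (g : P12) b} : Finset (Fin 12)) = {a', b'}
      rw [e0, e1]
    · rw [smul_mk]
      apply Subtype.ext
      show ({(g : P12) c, (g : P12) d} : Finset (Fin 12)) = {c', d'}
      rw [e2, e3]
  two := fun x y x' y' hne h hne' h' => by
    obtain ⟨a, b, c, hab, hac, hbc, rfl, rfl⟩ := exists_common hne h
    obtain ⟨a', b', c', hab', hac', hbc', rfl, rfl⟩ := exists_common hne' h'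
    obtain ⟨d, hd1, hd2, hd3⟩ := exists_ne a b c
    obtain ⟨d', hd1', hd2', hd3'⟩ := exists_ne a' b' c'
    obtain ⟨g, hg⟩ := trans ![a, b, c, d] ![a', b', c', d'] (inj4 hab hac hd1.symm hbc hd2.symm hd3.symm)
      (inj4 hab' hac' hd1'.symm hbc' hd2'.symm hd3'.symm)
    have e0 : (g : P12) a = a' := hg 0
    have e1 : (g : P12) b = b' := hg 1
    have e2 : (g : P12) c = c' := hg 2
    refine ⟨g, ?_, ?_⟩
    · rw [smul_mk]
      apply Subtype.ext
      show ({(g : P12) a, (g : P12) b} : Finset (Fin 12)) = {a', b'}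
      rw [e0, e1]
    · rw [smul_mk]
      apply Subtype.ext
      show ({(g : P12) a, (g : P12) c} : Finset (Fin 12)) = {a', c'}
      rw [e0, e2]
  cardk := card_R
  k0 := by norm_num
  l0 := by norm_num
  cardn := card_Pr

end Cfsg.Agent.H635.Cod.MTwelve
end

-- part: H635/Cod/Deg
section
/-!
# Degrees of some sporadic groups (helper635)
-/

set_option autoImplicit false

namespace Cfsg.Agent.H635.Cod

open Cfsg Cfsg.Agent.H66.Cod Cfsg.Agent.H690.Spor.RankThree Cfsg.Agent.Characters.Core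

universe u

theorem NDeg.congr {S T : Type*} [Group S] [Group T] (e : S ≃* T) {d : ℕ} (h : NDeg T d) : NDeg S d := by
  obtain ⟨χ, h1, h2⟩ := h
  refine ⟨⟨(χ : T → ℂ) ∘ e.toMonoidHom, isIrr_comp e.toMonoidHom e.surjective χ.2⟩, ?_, ?_⟩
  · intro h3
    apply h1
    funext x
    have h4 := congrFun h3 (e.symm x)
    simpa using h4
  · rw [← h2]
    unfold charDegree
    show Nat.floor (((χ : T → ℂ) ∘ e.toMonoidHom) 1).re = _
    rw [Function.comp_apply, map_one]

theorem ndeg_of_ne {S : Type*} [Group S] {χ : IrrCharacter S} (h : charDegree (χ : S → ℂ) ≠ 1) :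
    NDeg S (charDegree (χ : S → ℂ)) := by
  refine ⟨χ, ?_, rfl⟩
  intro h1
  apply h
  rw [h1]
  exact H495.Cod.charDegree_one

/-- a rank 3 action gives a degree of at least half of the number of points -/
theorem exists_of_r3 {G X : Type*} [Group G] [Finite G] [MulAction G X] {R : X → X → Prop} {k l : ℕ}
    (h : R3 G X R k l) (h3 : 3 ≤ k + l) : ∃ d, NDeg G d ∧ k + l ≤ 2 * d := by
  have hfin : Finite X := by
    by_contra hcon
    rw [not_finite_iff_infinite] at hcon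
    have h1 := h.cardn
    rw [Nat.card_eq_zero_of_infinite] at h1
    omega
  classical
  have := Fintype.ofFinite X
  obtain ⟨χ₁, χ₂, f, g, D, hf, hg, -, hfg, -⟩ := h.frame
  have hdf : charDegree (χ₁ : G → ℂ) = f := Cfsg.Agent.Blocks.Basic.charDegree_of_eq hf
  have hdg : charDegree (χ₂ : G → ℂ) = g := Cfsg.Agent.Blocks.Basic.charDegree_of_eq hg
  rcases le_total f g with hle | hle
  · exact ⟨_, ndeg_of_ne (χ := χ₂) (by rw [hdg]; omega), by rw [hdg]; omega⟩
  · exact ⟨_, ndeg_of_ne (χ := χ₁) (by rw [hdf]; omega), by rw [hdf]; omega⟩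

theorem exists_of_index {G : Type*} [Group G] [Finite G] (H : Subgroup G) {k l : ℕ} (hi : H.index = 1 + k + l)
    (ho : ∃ q₁ q₂ : G ⧸ H, (MulAction.orbit H q₁).ncard = k ∧ (MulAction.orbit H q₂).ncard = l)
    (hk : 1 < k) (hl : 1 < l) (hkl : k ≠ l) : ∃ d, NDeg G d ∧ k + l ≤ 2 * d := by
  obtain ⟨q₁, q₂, h1, h2⟩ := ho
  obtain ⟨R, h⟩ := R3.of_index H hi h1 h2 hk hl hkl
  exact exists_of_r3 h (by omega)

theorem m12 {S : Type u} [Group S] (h : Spor.IsoM12 S) : ∃ d, NDeg S d ∧ 33 ≤ d := by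
  have hc := NotCT.Orders.m12 h
  obtain ⟨e⟩ := h
  have e' := e.trans Cfsg.Agent.CoThreeStd.M12.equiv
  have : Finite ↥Cfsg.Agent.CoThreeStd.M12.G12 := Nat.finite_of_card_ne_zero (by
    rw [← Nat.card_congr e'.toEquiv, hc]; norm_num)
  obtain ⟨d, h1, h2⟩ := exists_of_r3 MTwelve.r3 (by norm_num)
  exact ⟨d, NDeg.congr e' h1, by omega⟩

theorem j2 {S : Type u} [Group S] (h : Spor.IsoJ2 S) : ∃ d, NDeg S d ∧ 50 ≤ d := by
  have hc := NotCT.Orders.j2 h
  obtain ⟨e⟩ := h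
  have : Finite Spor.J2 := Nat.finite_of_card_ne_zero (by rw [← Nat.card_congr e.toEquiv, hc]; norm_num)
  obtain ⟨H, hi, -, ho⟩ := Cfsg.Agent.S1624.result
  obtain ⟨d, h1, h2⟩ := exists_of_index H (k := 36) (l := 63) hi ho (by norm_num) (by norm_num) (by norm_num)
  exact ⟨d, NDeg.congr e h1, by omega⟩

theorem suz {S : Type u} [Group S] (h : Spor.IsoSuz S) : ∃ d, NDeg S d ∧ 891 ≤ d := by
  have hc := NotCT.Orders.suz h
  obtain ⟨e⟩ := h
  have : Finite Spor.Suz := Nat.finite_of_card_ne_zero (by rw [← Nat.card_congr e.toEquiv, hc]; norm_num)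
  obtain ⟨hi, ho⟩ := Cfsg.Agent.S1680.result
  obtain ⟨d, h1, h2⟩ := exists_of_index _ (k := 416) (l := 1365) hi ho (by norm_num) (by norm_num) (by norm_num)
  exact ⟨d, NDeg.congr e h1, by omega⟩

theorem fi22 {S : Type u} [Group S] (h : Spor.IsoFi22 S) : ∃ d, NDeg S d ∧ 1755 ≤ d := by
  have hc := NotCT.Orders.fi22 h
  obtain ⟨e⟩ := h
  have : Finite Spor.Fi22 := Nat.finite_of_card_ne_zero (by rw [← Nat.card_congr e.toEquiv, hc]; norm_num)
  obtain ⟨hi, ho⟩ := Cfsg.Agent.S1687.result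
  obtain ⟨d, h1, h2⟩ := exists_of_index _ (k := 693) (l := 2816) hi ho (by norm_num) (by norm_num) (by norm_num)
  exact ⟨d, NDeg.congr e h1, by omega⟩

theorem tits {S : Type u} [Group S] (h : Lie.IsoTits S) : ∃ d, NDeg S d ∧ 2048 ≤ d := by
  obtain ⟨d, ⟨χ, hχ⟩, hd⟩ := Cfsg.Agent.H221.TwFSplit.exists_tits h
  refine ⟨charDegree (χ : S → ℂ), ndeg_of_ne ?_, ?_⟩
  · rcases hd with rfl | rfl <;> rw [hχ] <;> norm_num
  · rcases hd with rfl | rfl <;> rw [hχ] <;> norm_num

/-- Feit-Thompson: `(p - 1) / 2 ≤ χ(1)` -/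
theorem le_ndeg {S : Type u} [Group S] [Finite S] [IsSimpleGroup S] (p : ℕ) (hp : p.Prime) (h1 : p ∣ Nat.card S)
    (h2 : ¬ p ^ 2 ∣ Nat.card S) (h3 : Nat.card S ≠ p) {d : ℕ} (hd : NDeg S d) : p ≤ 2 * d + 1 := by
  obtain ⟨χ, hχ, rfl⟩ := hd
  refine Cfsg.Agent.S4503.result p hp h1 h2 ?_ (χ : S → ℂ) (isIrr_isCharacter χ.2) ?_
  · intro H hH hc
    rcases hH.eq_bot_or_eq_top with rfl | rfl
    · rw [Subgroup.card_bot] at hc
      exact hp.one_lt.ne hc
    · rw [Subgroup.card_top] at hc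
      exact h3 hc
  · intro g hg
    have h4 := H495.Cod.card_ker_simple χ hχ
    have h5 : Subsingleton {g : S // (χ : S → ℂ) g = (χ : S → ℂ) 1} := (Nat.card_eq_one_iff_unique.1 h4).1
    exact congrArg Subtype.val (Subsingleton.elim (⟨g, hg⟩ : {g : S // (χ : S → ℂ) g = (χ : S → ℂ) 1}) ⟨1, rfl⟩)

end Cfsg.Agent.H635.Cod
end

private theorem dce_83ca6e7be586 : _root_.True := by
  try have : _root_.True := by simp only [_root_.Cfsg.Agent.H719.Quart.UE.eq_6]
  try have : _root_.True := by simp only [_root_.Cfsg.Agent.H719.Quart.LE.eq_12]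
  try have : _root_.True := by simp only [_root_.Cfsg.Agent.H719.Quart.LE.eq_14]
  try have : _root_.True := by simp only [_root_.Cfsg.Agent.H719.Quart.UE.eq_12]
  try have : _root_.True := by simp only [_root_.Cfsg.Agent.H719.Quart.LE.eq_6]
  try have : _root_.True := by simp only [_root_.Cfsg.Agent.H719.Quart.LE.eq_3]
  try have : _root_.True := by simp only [_root_.Cfsg.Agent.H902.Art.DM.eq_14]
  try have : _root_.True := by simp only [_root_.Cfsg.Agent.H719.Quart.UE.eq_2]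
  try have : _root_.True := by simp only [_root_.Cfsg.Agent.H902.Art.DM.eq_10]
  try have : _root_.True := by simp only [_root_.Cfsg.Agent.H719.Quart.LE.eq_2]
  try have : _root_.True := by simp only [_root_.Cfsg.Agent.H635.Cod.MTwelve.mk.eq_1]
  try have : _root_.True := by simp only [_root_.Cfsg.Agent.H902.Art.DM.eq_15]
  try have : _root_.True := by simp only [_root_.Cfsg.Agent.H719.Quart.UE.eq_8]
  try have : _root_.True := by simp only [_root_.Cfsg.Agent.H719.Quart.UE.eq_4]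
  try have : _root_.True := by simp only [_root_.Cfsg.Agent.H719.Quart.UE.eq_10]
  try have : _root_.True := by simp only [_root_.Cfsg.Agent.H719.Quart.LE.eq_8]
  try have : _root_.True := by simp only [_root_.Cfsg.Agent.H719.Quart.LE.eq_4]
  try have : _root_.True := by simp only [_root_.Cfsg.Agent.H719.Quart.UE.eq_7]
  try have : _root_.True := by simp only [_root_.Cfsg.Agent.H719.Quart.UE.eq_9]
  try have : _root_.True := by simp only [_root_.Cfsg.Agent.H902.Art.DM.eq_11]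
  try have : _root_.True := by simp only [_root_.Cfsg.Agent.H719.Quart.UE.eq_5]
  try have : _root_.True := by simp only [_root_.Cfsg.Agent.H902.Art.DM.eq_4]
  try have : _root_.True := by simp only [_root_.Cfsg.Agent.H902.Art.DM.eq_8]
  try have : _root_.True := by simp only [_root_.Cfsg.Agent.H902.Art.DM.eq_6]
  try have : _root_.True := by simp only [_root_.Cfsg.Agent.H719.Quart.LE.eq_11]
  try have : _root_.True := by simp only [_root_.Cfsg.Agent.H719.Quart.UE.eq_3]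
  try have : _root_.True := by simp only [_root_.Cfsg.Agent.H902.Art.DM.eq_1]
  try have : _root_.True := by simp only [_root_.Cfsg.Agent.H719.Quart.UE.eq_11]
  try have : _root_.True := by simp only [_root_.Cfsg.Agent.H902.Art.DM.eq_5]
  try have : _root_.True := by simp only [_root_.Cfsg.Agent.H719.Quart.UE.eq_14]
  try have : _root_.True := by simp only [_root_.Cfsg.Agent.H902.Art.DM.eq_2]
  try have : _root_.True := by simp only [_root_.Cfsg.Agent.H719.Quart.LE.eq_1]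
  try have : _root_.True := by simp only [_root_.Cfsg.Agent.H719.Quart.LE.eq_15]
  try have : _root_.True := by simp only [_root_.Cfsg.Agent.H902.Art.DM.eq_3]
  try have : _root_.True := by simp only [_root_.Cfsg.Agent.H719.Quart.UE.eq_1]
  try have : _root_.True := by simp only [_root_.Cfsg.Agent.H719.Quart.UE.eq_15]
  try have : _root_.True := by simp only [_root_.Cfsg.Agent.H719.Quart.LE.eq_10]
  try have : _root_.True := by simp only [_root_.Cfsg.Agent.H719.Quart.UE.eq_13]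
  try have : _root_.True := by simp only [_root_.Cfsg.Agent.H635.Cod.okA._sparseCasesOn_1.else_eq]
  try have : _root_.True := by simp only [_root_.Cfsg.Agent.H902.Art.DM.eq_7]
  try have : _root_.True := by simp only [_root_.Cfsg.Agent.H902.Art.DM.eq_9]
  try have : _root_.True := by simp only [_root_.Cfsg.Agent.H719.Quart.LE.eq_13]
  try have : _root_.True := by simp only [_root_.Cfsg.Agent.H902.Art.DM.eq_12]
  try have : _root_.True := by simp only [_root_.Cfsg.Agent.H902.Art.DM.eq_13]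
  try have : _root_.True := by simp only [_root_.Cfsg.Agent.H719.Quart.LE.eq_9]
  try have : _root_.True := by simp only [_root_.Cfsg.Agent.H719.Quart.LE.eq_7]
  try have : _root_.True := by simp only [_root_.Cfsg.Agent.H719.Quart.LE.eq_5]
  exact _root_.True.intro
end
end
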