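import Cfsg.Agent.H162.WeilSp
set_option linter.all false

/-!
# Generation of the symplectic group (helper162)
-/

set_option autoImplicit false
open Matrix

namespace Cfsg.Agent.H162.Weil

variable {F : Type*} [Field F] {n : ℕ}

theorem sgl_mulVec (i j : Fin n) (c : F) (a : Fin n → F) :
    single i j c *ᵥ a = Pi.single i (c * a j) := by
  ext k
  rw [Matrix.single_mulVec]
  by_cases hk : k = i
  · subst hk; simp
  · simp [hk]

theorem vecMul_sgl (i j : Fin n) (c : F) (a : Fin n → F) :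
    a ᵥ* single i j c = Pi.single j (a i * c) := by
  rw [← mulVec_transpose, transpose_single, sgl_mulVec, mul_comm]

theorem vecMulVec_mul_self (u v : Fin n → F) :
    vecMulVec u v * vecMulVec u v = (v ⬝ᵥ u) • vecMulVec u v := by
  rw [vecMulVec_mul_vecMulVec]
  ext i j
  simp [vecMulVec_apply]
  ring

/-- The matrix `1 + u vᵀ`. -/
def rk (u v : Fin n → F) (h : 1 + v ⬝ᵥ u ≠ 0) : GL (Fin n) F :=
  ⟨1 + vecMulVec u v, 1 - (1 + v ⬝ᵥ u)⁻¹ • vecMulVec u v, by
    rw [Matrix.mul_sub, Matrix.mul_one, Matrix.mul_smul, Matrix.add_mul, Matrix.one_mul,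
      vecMulVec_mul_self, smul_add, smul_smul, ← add_smul, ← mul_one_add, inv_mul_cancel₀ h]
    simp, by
    rw [Matrix.sub_mul, Matrix.one_mul, Matrix.smul_mul, Matrix.mul_add, Matrix.mul_one,
      vecMulVec_mul_self, smul_add, smul_smul, ← add_smul, ← mul_one_add, inv_mul_cancel₀ h]
    simp⟩

theorem rk_coe (u v : Fin n → F) (h : 1 + v ⬝ᵥ u ≠ 0) :
    ((rk u v h : GL (Fin n) F) : Matrix (Fin n) (Fin n) F) = 1 + vecMulVec u v := rfl

theorem exists_vecMul_of_ne (x : Fin n → F) (i : Fin n) (hx : x i ≠ 0) :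
    ∃ h : GL (Fin n) F, (Pi.single i 1 : Fin n → F) ᵥ* (h : Matrix (Fin n) (Fin n) F) = x := by
  refine ⟨rk (Pi.single i 1) (x - Pi.single i 1) (by simpa using hx), ?_⟩
  rw [rk_coe, vecMul_add, vecMul_one, vecMul_vecMulVec]
  simp

theorem vecMul_inv {h : GL (Fin n) F} {x y : Fin n → F}
    (hxy : x ᵥ* (h : Matrix (Fin n) (Fin n) F) = y) :
    y ᵥ* ((h⁻¹ : GL (Fin n) F) : Matrix (Fin n) (Fin n) F) = x := by
  rw [← hxy, vecMul_vecMul, ← Units.val_mul, mul_inv_cancel]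
  simp

theorem exists_vecMul_eq_single (x : Fin n → F) (hx : x ≠ 0) (i : Fin n) :
    ∃ h : GL (Fin n) F, x ᵥ* (h : Matrix (Fin n) (Fin n) F) = Pi.single i 1 := by
  by_cases hi : x i = 0
  · obtain ⟨j, hj⟩ : ∃ j, x j ≠ 0 := by
      by_contra hc
      push Not at hc
      exact hx (funext hc)
    have hji : j ≠ i := by rintro rfl; exact hj hi
    have h1 : (x ᵥ* ((tv j i hji 1 : GL (Fin n) F) : Matrix (Fin n) (Fin n) F)) i ≠ 0 := by
      rw [tv_coe, vecMul_add, vecMul_one, Pi.add_apply, hi, zero_add, vecMul_sgl]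
      simpa using hj
    obtain ⟨h, hh⟩ := exists_vecMul_of_ne _ i h1
    refine ⟨tv j i hji 1 * h⁻¹, ?_⟩
    rw [Units.val_mul, ← vecMul_vecMul, vecMul_inv hh]
  · obtain ⟨h, hh⟩ := exists_vecMul_of_ne x i hi
    exact ⟨h⁻¹, vecMul_inv hh⟩

theorem mm_mulVec (h : GL (Fin n) F) (a b : Fin n → F) :
    ((mm h : Sp n F) : Matrix (Fin n ⊕ Fin n) (Fin n ⊕ Fin n) F) *ᵥ Sum.elim a b =
      Sum.elim ((h : Matrix (Fin n) (Fin n) F) *ᵥ a)
        (b ᵥ* ((h⁻¹ : GL (Fin n) F) : Matrix (Fin n) (Fin n) F)) := by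
  rw [mm_coe, fromBlocks_mulVec]
  simp [-Matrix.coe_units_inv, mulVec_transpose]

theorem uu_mulVec (S : Sym n F) (a b : Fin n → F) :
    ((uu S : Sp n F) : Matrix (Fin n ⊕ Fin n) (Fin n ⊕ Fin n) F) *ᵥ Sum.elim a b =
      Sum.elim (a + S.1 *ᵥ b) b := by
  rw [uu_coe, fromBlocks_mulVec]
  simp

theorem ww_mulVec (j : Fin n) (a b : Fin n → F) :
    ((ww j : Sp n F) : Matrix (Fin n ⊕ Fin n) (Fin n ⊕ Fin n) F) *ᵥ Sum.elim a b =
      Sum.elim (Function.update a j (b j)) (Function.update b j (- a j)) := by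
  rw [ww_coe, fromBlocks_mulVec]
  congr 1
  · ext i
    by_cases hij : i = j
    · subst hij
      simp [Matrix.sub_mulVec, sgl_mulVec]
    · simp [Matrix.sub_mulVec, hij, sgl_mulVec]
  · ext i
    by_cases hij : i = j
    · subst hij
      simp [Matrix.sub_mulVec, Matrix.neg_mulVec, sgl_mulVec]
    · simp [Matrix.sub_mulVec, Matrix.neg_mulVec, hij, sgl_mulVec]

theorem exists_sym_mulVec (a : Fin n → F) (j : Fin n) :
    ∃ S : Sym n F, S.1 *ᵥ Pi.single j 1 = a := by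
  refine ⟨⟨vecMulVec a (Pi.single j 1) + vecMulVec (Pi.single j 1) a -
    vecMulVec (Pi.single j 1) (Pi.single j (a j)), ?_⟩, ?_⟩
  · rw [mem_Sym]
    ext p q
    simp only [transpose_apply, Matrix.sub_apply, Matrix.add_apply, vecMulVec_apply]
    by_cases hp : p = j <;> by_cases hq : q = j <;> simp [hp, hq]
  · ext p
    simp only [mulVec_single_one]
    simp only [col_apply, Matrix.sub_apply, Matrix.add_apply, vecMulVec_apply]
    by_cases hp : p = j <;> simp [hp]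

theorem tr_of_zero (a : Fin n → F) (c : F) :
    ∃ S : Sym n F, Cfsg.sympTransvection n (Sum.elim a 0) c =
      ((uu S : Sp n F) : Matrix (Fin n ⊕ Fin n) (Fin n ⊕ Fin n) F) := by
  refine ⟨⟨c • vecMulVec a a, ?_⟩, ?_⟩
  · rw [mem_Sym, transpose_smul, transpose_vecMulVec]
  · rw [uu_coe]
    show 1 + c • vecMulVec (Sum.elim a 0) (Matrix.J (Fin n) F *ᵥ Sum.elim a 0) = _
    rw [Matrix.J, fromBlocks_mulVec]
    ext p q
    rcases p with p | p <;> rcases q with q | q <;> 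
      simp [vecMulVec_apply, one_apply]

theorem exists_move (j : Fin n) (K : Subgroup (Sp n F)) (hu : ∀ S : Sym n F, uu S ∈ K)
    (hm : ∀ h : GL (Fin n) F, mm h ∈ K) (hw : ww j ∈ K) (a b : Fin n → F) :
    ∃ k ∈ K, ∃ a' : Fin n → F, (k : Matrix (Fin n ⊕ Fin n) (Fin n ⊕ Fin n) F) *ᵥ Sum.elim a b =
      Sum.elim a' 0 := by
  by_cases hb : b = 0
  · subst hb
    exact ⟨1, one_mem _, a, by simp⟩
  · obtain ⟨h, hh⟩ := exists_vecMul_eq_single b hb j
    obtain ⟨S, hS⟩ := exists_sym_mulVec (-((h⁻¹ : GL (Fin n) F) : Matrix (Fin n) (Fin n) F) *ᵥ a) j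
    refine ⟨ww j * (uu S * mm h⁻¹), mul_mem hw (mul_mem (hu _) (hm _)), Pi.single j 1, ?_⟩
    rw [Submonoid.coe_mul, Submonoid.coe_mul, ← mulVec_mulVec, ← mulVec_mulVec, mm_mulVec, inv_inv,
      hh, uu_mulVec, hS, ww_mulVec]
    congr 1
    · ext i
      by_cases hij : i = j
      · subst hij; simp
      · simp [hij, neg_mulVec]
    · ext i
      by_cases hij : i = j
      · subst hij; simp [neg_mulVec]
      · simp [hij]

theorem mul_tr (A : Sp n F) (w : Fin n ⊕ Fin n → F) (c : F) :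
    (A : Matrix (Fin n ⊕ Fin n) (Fin n ⊕ Fin n) F) * Cfsg.sympTransvection n w c =
      Cfsg.sympTransvection n ((A : Matrix (Fin n ⊕ Fin n) (Fin n ⊕ Fin n) F) *ᵥ w) c * A := by
  apply Matrix.ext_of_mulVec_single
  intro i
  rw [← mulVec_mulVec, ← mulVec_mulVec, S0765.trans_mulVec, S0765.trans_mulVec, mulVec_add,
    mulVec_smul, S0765.form_mulVec _ A.2]

theorem gen_top (j : Fin n) (K : Subgroup (Sp n F)) (hu : ∀ S : Sym n F, uu S ∈ K)
    (hm : ∀ h : GL (Fin n) F, mm h ∈ K) (hw : ww j ∈ K) : K = ⊤ := by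
  rw [← top_le_iff, ← S0765.result n, Subgroup.closure_le]
  rintro A ⟨w, c, hA⟩
  obtain ⟨k, hk, a', hka⟩ := exists_move j K hu hm hw (w ∘ Sum.inl) (w ∘ Sum.inr)
  rw [Sum.elim_comp_inl_inr] at hka
  obtain ⟨S, hS⟩ := tr_of_zero a' c
  have h1 : k * A = uu S * k := by
    apply Subtype.ext
    rw [Submonoid.coe_mul, Submonoid.coe_mul, hA, mul_tr, hka, hS]
  have h2 : A = k⁻¹ * (uu S * k) := by rw [← h1, inv_mul_cancel_left]
  rw [h2]
  exact mul_mem (inv_mem hk) (mul_mem (hu S) hk)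

end Cfsg.Agent.H162.Weil
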