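import Cfsg.Agent.H162.WeilModel
set_option linter.all false

/-!
# The Weil representation: normalisation (helper162)
-/

set_option autoImplicit false
open Matrix Module

namespace Cfsg.Agent.H162.Weil

variable {F : Type*} [Field F] {n : ℕ} [Fintype F]

/-- Functions of parity `s`. -/
def Es (n : ℕ) (F : Type*) [Field F] (s : ℂ) : Submodule ℂ (W n F) where
  carrier := {f | ∀ x, f (-x) = s * f x}
  add_mem' {a b} ha hb x := by simp [ha x, hb x, mul_add]
  zero_mem' x := by simp
  smul_mem' c f hf x := by simp only [Pi.smul_apply, smul_eq_mul, hf x]; ring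

omit [Fintype F] in
theorem mem_Es {s : ℂ} {f : W n F} : f ∈ Es n F s ↔ ∀ x, f (-x) = s * f x := Iff.rfl

/-- Projection to parity `s`. -/
noncomputable def pe (s : ℂ) : W n F →ₗ[ℂ] W n F := (1 / 2 : ℂ) • (LinearMap.id + s • Pop)

omit [Fintype F] in
theorem pe_apply (s : ℂ) (f : W n F) (x : Fin n → F) :
    pe s f x = (1 / 2 : ℂ) * (f x + s * f (-x)) := rfl

omit [Fintype F] in
theorem pe_mem {s : ℂ} (hs : s * s = 1) (f : W n F) : pe s f ∈ Es n F s := by
  intro x
  rw [pe_apply, pe_apply, neg_neg]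
  linear_combination (-(1/2 : ℂ) * f (-x)) * hs

omit [Fintype F] in
theorem pe_of_mem {s : ℂ} (hs : s * s = 1) {f : W n F} (hf : f ∈ Es n F s) : pe s f = f := by
  ext x
  rw [pe_apply, hf x]
  linear_combination (1/2 : ℂ) * f x * hs

/-- compression to parity `s`. -/
noncomputable def cS {s : ℂ} (hs : s * s = 1) (R : W n F →ₗ[ℂ] W n F) : Es n F s →ₗ[ℂ] Es n F s :=
  LinearMap.codRestrict (Es n F s) (pe s ∘ₗ R ∘ₗ (Es n F s).subtype) (fun _ => pe_mem hs _)

omit [Fintype F] in
theorem cS_coe {s : ℂ} (hs : s * s = 1) (R : W n F →ₗ[ℂ] W n F) (f : Es n F s) :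
    ((cS hs R f : Es n F s) : W n F) = pe s (R f) := rfl

/-- commuting with parity -/
def CP (R : W n F →ₗ[ℂ] W n F) : Prop := ∀ f, R (Pop f) = Pop (R f)

omit [Fintype F] in
theorem CP.mem {R : W n F →ₗ[ℂ] W n F} (h : CP R) {s : ℂ} {f : W n F} (hf : f ∈ Es n F s) :
    R f ∈ Es n F s := by
  have h1 : Pop f = s • f := by
    ext x; exact hf x
  have h3 := h f
  rw [h1, map_smul] at h3
  intro x
  exact (congrFun h3 x).symm

omit [Fintype F] in
theorem cS_coe' {s : ℂ} (hs : s * s = 1) {R : W n F →ₗ[ℂ] W n F} (h : CP R) (f : Es n F s) :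
    ((cS hs R f : Es n F s) : W n F) = R f := by
  rw [cS_coe, pe_of_mem hs (h.mem f.2)]

omit [Fintype F] in
theorem cS_smul {s : ℂ} (hs : s * s = 1) (c : ℂ) (R : W n F →ₗ[ℂ] W n F) :
    cS hs (c • R) = c • cS hs R := by
  apply LinearMap.ext
  intro f
  apply Subtype.ext
  rw [LinearMap.smul_apply, Submodule.coe_smul, cS_coe, cS_coe, LinearMap.smul_apply, map_smul]

omit [Fintype F] in
theorem cS_mul {s : ℂ} (hs : s * s = 1) {R R' : W n F →ₗ[ℂ] W n F} (hR : CP R) (hR' : CP R') :
    cS hs (R ∘ₗ R') = cS hs R ∘ₗ cS hs R' := by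
  have h : CP (R ∘ₗ R') := by
    intro f
    rw [LinearMap.comp_apply, LinearMap.comp_apply, hR', hR]
  apply LinearMap.ext
  intro f
  apply Subtype.ext
  rw [cS_coe' hs h, LinearMap.comp_apply, LinearMap.comp_apply, cS_coe' hs hR, cS_coe' hs hR']

omit [Fintype F] in
theorem cS_id {s : ℂ} (hs : s * s = 1) : cS hs (LinearMap.id : W n F →ₗ[ℂ] W n F) =
    LinearMap.id := by
  apply LinearMap.ext
  intro f
  apply Subtype.ext
  rw [cS_coe' hs (R := LinearMap.id) (fun f => rfl)]
  rfl

/-- determinant on the parity `s` part. -/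
noncomputable def dt {s : ℂ} (hs : s * s = 1) (R : W n F →ₗ[ℂ] W n F) : ℂ :=
  LinearMap.det (cS hs R)

theorem dt_mul {s : ℂ} (hs : s * s = 1) {R R' : W n F →ₗ[ℂ] W n F} (hR : CP R) (hR' : CP R') :
    dt hs (R ∘ₗ R') = dt hs R * dt hs R' := by
  rw [dt, cS_mul hs hR hR', LinearMap.det_comp, dt, dt]

theorem dt_ne_zero {s : ℂ} (hs : s * s = 1) {R : W n F ≃ₗ[ℂ] W n F} (hR : CP R.toLinearMap) :
    dt hs R.toLinearMap ≠ 0 := by
  have hR' : CP R.symm.toLinearMap := by
    intro f
    show R.symm (Pop f) = Pop (R.symm f)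
    rw [LinearEquiv.symm_apply_eq]
    have := hR (R.symm f)
    simp only [LinearEquiv.coe_coe, LinearEquiv.apply_symm_apply] at this
    exact this.symm
  intro h
  have h1 := dt_mul hs hR hR'
  rw [h, zero_mul] at h1
  have h3 : R.toLinearMap ∘ₗ R.symm.toLinearMap = LinearMap.id := by
    ext f; simp
  rw [h3, dt, cS_id, LinearMap.det_id] at h1
  exact one_ne_zero h1

theorem dt_smul {s : ℂ} (hs : s * s = 1) (c : ℂ) (R : W n F →ₗ[ℂ] W n F) :
    dt hs (c • R) = c ^ finrank ℂ (Es n F s) * dt hs R := by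
  rw [dt, cS_smul, LinearMap.det_smul, dt]

/-! ### half systems -/

/-- numbering of vectors -/
noncomputable def num (n : ℕ) (F : Type*) [Fintype F] : (Fin n → F) ≃ Fin (Fintype.card (Fin n → F)) :=
  by classical exact Fintype.equivFin _

/-- strict half -/
def Hf (x : Fin n → F) : Prop := num n F x < num n F (-x)

/-- nonstrict half -/
def He (x : Fin n → F) : Prop := num n F x ≤ num n F (-x)

omit [Field F] in
theorem num_inj {x y : Fin n → F} (h : num n F x = num n F y) : x = y := (num n F).injective h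

theorem eq_neg_iff (h2 : (2 : F) ≠ 0) (x : Fin n → F) : x = -x ↔ x = 0 := by
  constructor
  · intro h
    ext k
    have h1 := congrFun h k
    rw [Pi.neg_apply] at h1
    have h3 : 2 * x k = 0 := by linear_combination h1
    rcases mul_eq_zero.mp h3 with h4 | h4
    · exact absurd h4 h2
    · exact h4
  · rintro rfl; simp

theorem He_iff (h2 : (2 : F) ≠ 0) (x : Fin n → F) : He x ↔ x = 0 ∨ Hf x := by
  rw [He, Hf, le_iff_eq_or_lt, (num n F).injective.eq_iff, eq_neg_iff h2]

theorem not_Hf_zero : ¬ Hf (0 : Fin n → F) := by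
  rw [Hf, neg_zero]; exact lt_irrefl _

theorem not_He_iff (x : Fin n → F) : ¬ He x ↔ Hf (-x) := by
  rw [He, Hf, neg_neg, not_le]

/-- Even functions are functions on the nonstrict half. -/
noncomputable def evE (n : ℕ) (F : Type*) [Field F] [Fintype F] (h2 : (2 : F) ≠ 0) :
    Es n F 1 ≃ₗ[ℂ] ({x : Fin n → F // He x} → ℂ) := by
  classical exact {
    toFun := fun f x => f.1 x.1
    map_add' := fun f g => rfl
    map_smul' := fun c f => rfl
    invFun := fun g => ⟨fun x => if h : He x then g ⟨x, h⟩ else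
      if h' : He (-x) then g ⟨-x, h'⟩ else 0, by
        intro x
        by_cases h : He x <;> by_cases h' : He (-x)
        · have : x = -x := by
            apply num_inj
            apply le_antisymm h
            have := h'
            rw [He, neg_neg] at this
            exact this
          have h0 := (eq_neg_iff h2 x).mp this
          subst h0
          simp
        · simp [h, h']
        · simp [h, h']
        · exfalso
          rw [not_He_iff, Hf, neg_neg] at h h'
          exact lt_asymm h h'⟩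
    left_inv := by
      intro f
      apply Subtype.ext
      ext x
      by_cases h : He x
      · simp [h]
      · have h' : He (-x) := by
          rw [not_He_iff] at h
          rw [He_iff h2]; right; exact h
        have := f.2 x
        rw [one_mul] at this
        simp [h, h', this]
    right_inv := by
      intro g
      ext x
      simp [x.2] }

/-- Odd functions are functions on the strict half. -/
noncomputable def evO (n : ℕ) (F : Type*) [Field F] [Fintype F] (h2 : (2 : F) ≠ 0) :
    Es n F (-1) ≃ₗ[ℂ] ({x : Fin n → F // Hf x} → ℂ) := by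
  classical exact {
    toFun := fun f x => f.1 x.1
    map_add' := fun f g => rfl
    map_smul' := fun c f => rfl
    invFun := fun g => ⟨fun x => if h : Hf x then g ⟨x, h⟩ else
      if h' : Hf (-x) then - g ⟨-x, h'⟩ else 0, by
        intro x
        by_cases h : Hf x <;> by_cases h' : Hf (-x)
        · exfalso
          rw [Hf] at h h'
          rw [neg_neg] at h'
          exact lt_asymm h h'
        · simp [h, h']
        · simp [h, h']
        · simp [h, h']⟩
    left_inv := by
      intro f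
      apply Subtype.ext
      ext x
      by_cases h : Hf x
      · simp [h]
      · by_cases h' : Hf (-x)
        · have := f.2 x
          simp [h, h', this]
        · have h0 : x = 0 := by
            by_contra hne
            rcases lt_trichotomy (num n F x) (num n F (-x)) with h3 | h3 | h3
            · exact h h3
            · exact hne ((eq_neg_iff h2 x).mp (num_inj h3))
            · apply h'
              rw [Hf, neg_neg]; exact h3
          have := f.2 x
          rw [h0, neg_zero] at this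
          have h3 : f.1 0 = 0 := by linear_combination (1/2 : ℂ) * this
          simp [h, h', h0, h3]
    right_inv := by
      intro g
      ext x
      simp [x.2] }

theorem evE_apply (h2 : (2 : F) ≠ 0) (f : Es n F 1) (x : {x : Fin n → F // He x}) :
    evE n F h2 f x = f.1 x.1 := rfl

theorem evO_apply (h2 : (2 : F) ≠ 0) (f : Es n F (-1)) (x : {x : Fin n → F // Hf x}) :
    evO n F h2 f x = f.1 x.1 := rfl

open Classical in
theorem finrank_even (h2 : (2 : F) ≠ 0) :
    finrank ℂ (Es n F 1) = (Finset.univ.filter (fun x : Fin n → F => He x)).card := by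
  rw [LinearEquiv.finrank_eq (evE n F h2), finrank_fintype_fun_eq_card, Fintype.card_subtype]

open Classical in
theorem finrank_odd (h2 : (2 : F) ≠ 0) :
    finrank ℂ (Es n F (-1)) = (Finset.univ.filter (fun x : Fin n → F => Hf x)).card := by
  rw [LinearEquiv.finrank_eq (evO n F h2), finrank_fintype_fun_eq_card, Fintype.card_subtype]

open Classical in
theorem filter_He (h2 : (2 : F) ≠ 0) : Finset.univ.filter (fun x : Fin n → F => He x) =
    insert 0 (Finset.univ.filter (fun x : Fin n → F => Hf x)) := by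
  ext x
  simp [He_iff h2]

theorem finrank_even_eq (h2 : (2 : F) ≠ 0) :
    finrank ℂ (Es n F 1) = finrank ℂ (Es n F (-1)) + 1 := by
  classical
  rw [finrank_even h2, finrank_odd h2, filter_He h2, Finset.card_insert_of_notMem]
  simp [not_Hf_zero]

theorem finrank_sum (h2 : (2 : F) ≠ 0) :
    finrank ℂ (Es n F 1) + finrank ℂ (Es n F (-1)) = Fintype.card F ^ n := by
  classical
  rw [finrank_even h2, finrank_odd h2]
  have h1 : (Finset.univ.filter (fun x : Fin n → F => Hf x)).card =
      (Finset.univ.filter (fun x : Fin n → F => ¬ He x)).card := by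
    refine Finset.card_bij (fun x _ => -x) ?_ ?_ ?_
    · intro x hx
      simp only [Finset.mem_filter, Finset.mem_univ, true_and] at hx ⊢
      rw [not_He_iff, neg_neg]; exact hx
    · intro x _ y _ h
      exact neg_injective h
    · intro y hy
      simp only [Finset.mem_filter, Finset.mem_univ, true_and] at hy
      refine ⟨-y, ?_, neg_neg y⟩
      simp only [Finset.mem_filter, Finset.mem_univ, true_and]
      rwa [← not_He_iff]
  rw [h1, Finset.card_filter_add_card_filter_not]
  simp

/-- determinant of a diagonal operator on even functions. -/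
theorem det_diag {ι : Type*} [Fintype ι] (u : ι → ℂ) (D : (ι → ℂ) →ₗ[ℂ] (ι → ℂ))
    (hD : ∀ g x, D g x = u x * g x) : LinearMap.det D = ∏ x, u x := by
  classical
  have : D = Matrix.toLin' (diagonal u) := by
    apply LinearMap.ext
    intro g
    ext x
    rw [hD, Matrix.toLin'_apply, mulVec_diagonal]
  rw [this, LinearMap.det_toLin', det_diagonal]

theorem one_sq : (1 : ℂ) * 1 = 1 := by norm_num
theorem neg_one_sq' : (-1 : ℂ) * (-1) = 1 := by norm_num

theorem dt_mulOp (h2 : (2 : F) ≠ 0) (u : (Fin n → F) → ℂ) (hu : ∀ x, u x ≠ 0) (hu0 : u 0 = 1)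
    (hpar : ∀ x, u (-x) = u x) :
    dt one_sq (mulOp u hu).toLinearMap = dt neg_one_sq' (mulOp u hu).toLinearMap := by
  classical
  have hCP : CP (mulOp u hu).toLinearMap := by
    intro f
    ext x
    show u x * f (-x) = u (-x) * f (-x)
    rw [hpar]
  have h1 : dt one_sq (mulOp u hu).toLinearMap = ∏ x : {x : Fin n → F // He x}, u x.1 := by
    rw [dt, ← LinearMap.det_conj _ (evE n F h2)]
    apply det_diag
    intro g x
    simp only [LinearMap.comp_apply, LinearEquiv.coe_coe]
    rw [evE_apply, cS_coe' one_sq hCP]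
    show u x.1 * ((evE n F h2).symm g).1 x.1 = _
    rw [← evE_apply h2, LinearEquiv.apply_symm_apply]
  have h3 : dt neg_one_sq' (mulOp u hu).toLinearMap = ∏ x : {x : Fin n → F // Hf x}, u x.1 := by
    rw [dt, ← LinearMap.det_conj _ (evO n F h2)]
    apply det_diag
    intro g x
    simp only [LinearMap.comp_apply, LinearEquiv.coe_coe]
    rw [evO_apply, cS_coe' neg_one_sq' hCP]
    show u x.1 * ((evO n F h2).symm g).1 x.1 = _
    rw [← evO_apply h2, LinearEquiv.apply_symm_apply]
  rw [h1, h3]
  have h4 : ∏ x : {x : Fin n → F // He x}, u x.1 =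
      ∏ x ∈ Finset.univ.filter (fun x : Fin n → F => He x), u x := by
    rw [Finset.prod_subtype (Finset.univ.filter (fun x : Fin n → F => He x)) (p := fun x => He x)
      (by simp)]
  have h5 : ∏ x : {x : Fin n → F // Hf x}, u x.1 =
      ∏ x ∈ Finset.univ.filter (fun x : Fin n → F => Hf x), u x := by
    rw [Finset.prod_subtype (Finset.univ.filter (fun x : Fin n → F => Hf x)) (p := fun x => Hf x)
      (by simp)]
  rw [h4, h5, filter_He h2, Finset.prod_insert (by simp [not_Hf_zero]), hu0, one_mul]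

/-- normalised operators -/
def Nrm (R : W n F →ₗ[ℂ] W n F) : Prop := dt one_sq R = dt neg_one_sq' R

variable {ψ : AddChar F ℂ} {lam : F}

theorem IsInt.cp {g : Sp n F} {R : W n F ≃ₗ[ℂ] W n F} (h : IsInt ψ lam g R) :
    CP R.toLinearMap := h.2

theorem nrm_DS (h2 : (2 : F) ≠ 0) (S : Sym n F) : Nrm (DS ψ lam S).toLinearMap := by
  apply dt_mulOp h2
  · simp
  · intro x
    rw [mulVec_neg, dotProduct_neg, neg_dotProduct, neg_neg]

/-- scaling -/
noncomputable def scl (c : ℂ) (hc : c ≠ 0) (R : W n F ≃ₗ[ℂ] W n F) : W n F ≃ₗ[ℂ] W n F :=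
  R.trans (LinearEquiv.smulOfNeZero ℂ (W n F) c hc)

omit [Field F] [Fintype F] in
theorem scl_apply (c : ℂ) (hc : c ≠ 0) (R : W n F ≃ₗ[ℂ] W n F) (f : W n F) :
    scl c hc R f = c • R f := rfl

theorem isInt_scl {g : Sp n F} {c : ℂ} (hc : c ≠ 0) {R : W n F ≃ₗ[ℂ] W n F}
    (h : IsInt ψ lam g R) : IsInt ψ lam g (scl c hc R) := by
  refine ⟨fun w f => ?_, fun f => ?_⟩
  · rw [scl_apply, scl_apply, h.1, map_smul]
  · rw [scl_apply, scl_apply, h.2, map_smul]

theorem exists_nrm (hψ : ψ.IsPrimitive) (h2 : (2 : F) ≠ 0) (hlam : lam ≠ 0) (j : Fin n)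
    (g : Sp n F) : ∃ R, IsInt ψ lam g R ∧ Nrm R.toLinearMap := by
  obtain ⟨R, hR⟩ := exists_isInt hψ h2 hlam j g
  have h1 := dt_ne_zero one_sq hR.cp
  have h3 := dt_ne_zero neg_one_sq' hR.cp
  set c := dt neg_one_sq' R.toLinearMap / dt one_sq R.toLinearMap with hc
  have hc0 : c ≠ 0 := div_ne_zero h3 h1
  refine ⟨scl c hc0 R, isInt_scl hc0 hR, ?_⟩
  have h4 : (scl c hc0 R).toLinearMap = c • R.toLinearMap := rfl
  rw [Nrm, h4, dt_smul, dt_smul, finrank_even_eq h2, pow_succ, mul_assoc]
  congr 1
  rw [hc]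
  field_simp

theorem nrm_unique (hψ : ψ.IsPrimitive) (h2 : (2 : F) ≠ 0) (hlam : lam ≠ 0) {g : Sp n F}
    {R R' : W n F ≃ₗ[ℂ] W n F} (hR : IsInt ψ lam g R) (hR' : IsInt ψ lam g R')
    (hn : Nrm R.toLinearMap) (hn' : Nrm R'.toLinearMap) : R = R' := by
  obtain ⟨c, hc, h⟩ := isInt_unique hψ h2 hlam hR hR'
  have h1 := dt_ne_zero one_sq hR.cp
  have h4 : R'.toLinearMap = c • R.toLinearMap := LinearMap.ext h
  rw [Nrm] at hn hn'
  rw [h4, dt_smul, dt_smul, finrank_even_eq h2, pow_succ, mul_assoc, ← hn] at hn'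
  have h5 : c * dt one_sq R.toLinearMap = dt one_sq R.toLinearMap :=
    mul_left_cancel₀ (pow_ne_zero _ hc) hn'
  have h6 : c = 1 := by
    apply mul_right_cancel₀ h1
    rw [h5, one_mul]
  apply LinearEquiv.ext
  intro f
  have := h f
  rw [h6, one_smul] at this
  exact this.symm

/-- **The Weil representation.** -/
theorem exists_weil (hψ : ψ.IsPrimitive) (h2 : (2 : F) ≠ 0) (hlam : lam ≠ 0) (j : Fin n) :
    ∃ ω : Representation ℂ (Sp n F) (W n F),
      (∀ S f, ω (uu S) f = DS ψ lam S f) ∧
      (∀ g f, ω g (Pop f) = Pop (ω g f)) ∧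
      (∀ h, ∃ c : ℂ, c ≠ 0 ∧ ∀ f, ω (mm h) f = c • LH h f) ∧
      (∀ k, ∃ c : ℂ, c ≠ 0 ∧ ∀ f, ω (ww k) f = c • FTl ψ lam k f) := by
  choose R hR hN using exists_nrm (n := n) hψ h2 hlam j
  have hmul : ∀ g h, R (g * h) = R g * R h := by
    intro g h
    apply nrm_unique hψ h2 hlam (hR _) ((hR g).mul (hR h)) (hN _)
    have h1 : (R g * R h).toLinearMap = (R g).toLinearMap ∘ₗ (R h).toLinearMap := rfl
    rw [Nrm, h1, dt_mul _ (hR g).cp (hR h).cp, dt_mul _ (hR g).cp (hR h).cp, hN g, hN h]
  have hone : R 1 = 1 := by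
    have := hmul 1 1
    rw [mul_one] at this
    exact (mul_eq_left.mp this.symm)
  let ω : Representation ℂ (Sp n F) (W n F) :=
    { toFun := fun g => (R g).toLinearMap
      map_one' := by rw [hone]; rfl
      map_mul' := fun g h => by rw [hmul]; rfl }
  have hω : ∀ g f, ω g f = R g f := fun g f => rfl
  refine ⟨ω, ?_, ?_, ?_, ?_⟩
  · intro S f
    rw [hω, nrm_unique hψ h2 hlam (hR (uu S)) (isInt_uu S) (hN _) (nrm_DS h2 S)]
  · intro g f
    exact (hR g).2 f
  · intro h
    obtain ⟨c, hc, h3⟩ := isInt_unique hψ h2 hlam (isInt_mm h) (hR (mm h))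
    exact ⟨c, hc, h3⟩
  · intro k
    obtain ⟨c, hc, h3⟩ := isInt_unique hψ h2 hlam (isInt_ww hψ h2 hlam k) (hR (ww k))
    exact ⟨c, hc, h3⟩

end Cfsg.Agent.H162.Weil
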